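import Mathlib

/-!
# Type `U4(q)`, `q ≥ 4`: the local data and the structure of the second parabolic

`V` is the natural `O4^-(q)`-module of `L1/V = L2(q^2)`, `U` a common Sylow `2`-subgroup of `L1`
and `L2`, `Z = C_V(U)`, `Y = [V, U]`, `A0` the torus of order `q + 1` of `C_{L1}(Z)`.
-/

set_option autoImplicit false

namespace Cfsg.Agent.RankTwoClose.UFour

variable {G : Type*} [Group G]

/-- `g X g⁻¹`. -/
def cj (g : G) (X : Subgroup G) : Subgroup G := X.map (MulAut.conj g).toMonoidHom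

theorem mem_cj {g x : G} {X : Subgroup G} : x ∈ cj g X ↔ g⁻¹ * x * g ∈ X := by
  constructor
  · rintro ⟨y, hy, rfl⟩
    have : g⁻¹ * (MulAut.conj g).toMonoidHom y * g = y := by
      show g⁻¹ * (g * y * g⁻¹) * g = y
      group
    rw [this]; exact hy
  · intro h
    exact ⟨_, h, by show g * (g⁻¹ * x * g) * g⁻¹ = x; group⟩

theorem conj_mem_cj {g x : G} {X : Subgroup G} (hx : x ∈ X) : g * x * g⁻¹ ∈ cj g X :=
  ⟨x, hx, rfl⟩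

theorem cj_mul (g h : G) (X : Subgroup G) : cj (g * h) X = cj g (cj h X) := by
  ext x
  rw [mem_cj, mem_cj, mem_cj]
  have : (g * h)⁻¹ * x * (g * h) = h⁻¹ * (g⁻¹ * x * g) * h := by group
  rw [this]

@[simp] theorem cj_one (X : Subgroup G) : cj 1 X = X := by
  ext x
  rw [mem_cj]
  simp

theorem cj_mono {g : G} {X X' : Subgroup G} (h : X ≤ X') : cj g X ≤ cj g X' := by
  intro x hx
  rw [mem_cj] at hx ⊢
  exact h hx

theorem mem_norm_iff {g : G} {X : Subgroup G} :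
    g ∈ Subgroup.normalizer (X : Set G) ↔ cj g X = X := by
  rw [Subgroup.mem_normalizer_iff]
  constructor
  · intro h
    ext x
    rw [mem_cj]
    have := h (g⁻¹ * x * g)
    rw [show g * (g⁻¹ * x * g) * g⁻¹ = x by group] at this
    exact this
  · intro h x
    constructor
    · intro hx
      rw [← h]
      exact conj_mem_cj hx
    · intro hx
      rw [← h, mem_cj] at hx
      rwa [show g⁻¹ * (g * x * g⁻¹) * g = x by group] at hx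

theorem cj_eq_of_mem {g : G} {X : Subgroup G} (h : g ∈ X) : cj g X = X :=
  mem_norm_iff.mp (Subgroup.le_normalizer h)

theorem conj_mem {g x : G} {X : Subgroup G} (h : g ∈ Subgroup.normalizer (X : Set G))
    (hx : x ∈ X) : g * x * g⁻¹ ∈ X :=
  (Subgroup.mem_normalizer_iff.mp h x).mp hx

theorem conj_mem' {g x : G} {X : Subgroup G} (h : g ∈ Subgroup.normalizer (X : Set G))
    (hx : x ∈ X) : g⁻¹ * x * g ∈ X := by
  have := conj_mem (inv_mem h) hx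
  rwa [inv_inv] at this

/-- `[g, x] ∈ X` for `g` normalising `X ∋ x`. -/
theorem comm_mem {g x : G} {X : Subgroup G} (h : g ∈ Subgroup.normalizer (X : Set G))
    (hx : x ∈ X) : g * x * g⁻¹ * x⁻¹ ∈ X :=
  mul_mem (conj_mem h hx) (inv_mem hx)

/-- Rank one data: `U` acts transitively on the other conjugates of `U` in `L`, `Q` is the kernel. -/
structure RankOne (L U Q : Subgroup G) (n : G) : Prop where
  UL : U ≤ L
  QU : Q ≤ U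
  norm : L ≤ Subgroup.normalizer (Q : Set G)
  nL : n ∈ L
  trans : ∀ g ∈ L, cj g U = U ∨ ∃ u ∈ U, cj g U = cj (u * n) U
  inter : U ⊓ cj n U ≤ Q
  ker : ∀ x ∈ L, (∀ g ∈ L, cj x (cj g U) = cj g U) → x ∈ Q
  gen : L ≤ U ⊔ cj n U
  ab : ∀ a ∈ U, ∀ b ∈ U, a * b * a⁻¹ * b⁻¹ ∈ Q

namespace RankOne

variable {L U Q : Subgroup G} {n : G}

/-- An element normalising `L`, `U`, `U^n` and centralising `U/Q` centralises `L/Q`. -/
theorem comm_of (h : RankOne L U Q n) {g : G} (hL : g ∈ Subgroup.normalizer (L : Set G))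
    (hU : g ∈ Subgroup.normalizer (U : Set G))
    (hn : cj g (cj n U) = cj n U) (hc : ∀ u ∈ U, g * u * g⁻¹ * u⁻¹ ∈ Q) :
    ∀ x ∈ L, g * x * g⁻¹ * x⁻¹ ∈ Q := by
  -- `g` normalises every conjugate
  have key : ∀ x ∈ L, cj g (cj x U) = cj x U := by
    intro x hx
    rcases h.trans x hx with h1 | ⟨u, hu, h1⟩
    · rw [h1]; exact mem_norm_iff.mp hU
    · rw [h1, cj_mul u n, ← cj_mul g u]
      have e1 : g * u = (g * u * g⁻¹ * u⁻¹) * u * g := by group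
      rw [e1, cj_mul _ g, hn, cj_mul _ u]
      -- now `cj q (cj u (cj n U)) = cj u (cj n U)` for `q ∈ Q`
      have hq := hc u hu
      set q := g * u * g⁻¹ * u⁻¹ with hqdef
      have e2 : q * (u * n) = (u * n) * ((u * n)⁻¹ * q * (u * n)) := by group
      have hun : u * n ∈ L := mul_mem (h.UL hu) h.nL
      have hq' : (u * n)⁻¹ * q * (u * n) ∈ Q := conj_mem' (h.norm hun) hq
      have e3 : cj q (cj (u * n) U) = cj (u * n) U := by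
        rw [← cj_mul, e2, cj_mul, cj_eq_of_mem (h.QU hq')]
      rw [cj_mul u n] at e3
      exact e3
  intro x hx
  refine h.ker _ (mul_mem (conj_mem hL hx) (inv_mem hx)) ?_
  intro y hy
  have e : g * x * g⁻¹ * x⁻¹ = g * (x * (g⁻¹ * x⁻¹)) := by group
  rw [e, cj_mul, cj_mul x, cj_mul g⁻¹, ← cj_mul x⁻¹ y]
  have hxy : x⁻¹ * y ∈ L := mul_mem (inv_mem hx) hy
  have h1 : cj g⁻¹ (cj (x⁻¹ * y) U) = cj (x⁻¹ * y) U := by
    conv_lhs => rw [← key _ hxy]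
    rw [← cj_mul g⁻¹ g, inv_mul_cancel, cj_one]
  rw [h1, ← cj_mul x, mul_inv_cancel_left]
  exact key y hy

end RankOne

/-- The local data of type `U4(q)`. -/
structure Data (S V U Z Y L1 L2 Q H A0 : Subgroup G) (n1 n2 : G) : Prop where
  -- the Sylow group
  twoS : IsPGroup 2 S
  US : U ≤ S
  SV : S ≤ Subgroup.normalizer (V : Set G)
  SU : S ≤ Subgroup.normalizer (U : Set G)
  SL1 : S ≤ Subgroup.normalizer (L1 : Set G)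
  SL2 : S ≤ Subgroup.normalizer (L2 : Set G)
  cSV : ∀ s ∈ S, (∀ v ∈ V, s * v = v * s) → s ∈ V
  -- the first parabolic
  P1 : RankOne L1 U V n1
  commV : ∀ a ∈ V, ∀ b ∈ V, a * b = b * a
  sqV : ∀ a ∈ V, a * a = 1
  memZ : ∀ v, v ∈ Z ↔ v ∈ V ∧ ∀ u ∈ U, v * u = u * v
  Ydef : Y = ⁅V, U⁆
  YU : ∀ y ∈ Y, ∀ u ∈ U, y * u * y⁻¹ * u⁻¹ ∈ Z
  Zle : Z ≤ ⁅Y, U⁆
  Yup : ∀ v ∈ V, (∀ u ∈ U, v * u * v⁻¹ * u⁻¹ ∈ Z) → v ∈ Y
  cUVZ : ∀ u ∈ U, (∀ v ∈ V, v * u * v⁻¹ * u⁻¹ ∈ Z) → u ∈ V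
  cUY : ∀ u ∈ U, (∀ y ∈ Y, y * u = u * y) → u ∈ V
  Vgen : ∀ R : Subgroup G, R ≤ V → Z ≤ R → L1 ≤ Subgroup.normalizer (R : Set G) → V ≤ R
  Vdec : V ≤ Y ⊔ cj n1 Z
  Edis : Y ⊓ cj n1 Z = ⊥
  Ydec : Y ≤ Z ⊔ (Y ⊓ cj n1 Y)
  n1n1 : n1 * n1 ∈ H
  borel1 : ∀ g ∈ L1, cj g U = U → g ∈ U ⊔ H
  Zbig : ∃ a ∈ Z, ∃ b ∈ Z, a ≠ 1 ∧ b ≠ 1 ∧ a ≠ b
  -- the torus
  odd : Odd (Nat.card H)
  HV : H ≤ Subgroup.normalizer (V : Set G)
  HU : H ≤ Subgroup.normalizer (U : Set G)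
  HL1 : H ≤ Subgroup.normalizer (L1 : Set G)
  HL2 : H ≤ Subgroup.normalizer (L2 : Set G)
  n1H : cj n1 H = H
  n2H : cj n2 H = H
  AH : A0 ≤ H
  AL1 : A0 ≤ L1
  Acomm : ∀ a ∈ A0, ∀ b ∈ A0, a * b = b * a
  n1A : cj n1 A0 = A0
  HA : H ≤ Subgroup.normalizer (A0 : Set G)
  AZ : ∀ a ∈ A0, ∀ z ∈ Z, a * z = z * a
  AE : ∀ a ∈ A0, ∀ v ∈ V, a * v * a⁻¹ * v⁻¹ ∈ Y
  irrY : ∀ R : Subgroup G, Z ≤ R → R ≤ Y → A0 ≤ Subgroup.normalizer (R : Set G) → R = Z ∨ R = Y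
  irrU : ∀ R : Subgroup G, V ≤ R → R ≤ U → A0 ≤ Subgroup.normalizer (R : Set G) → R = V ∨ R = U
  irrE : ∀ R : Subgroup G, Y ≤ R → R ≤ V → H ≤ Subgroup.normalizer (R : Set G) → R = Y ∨ R = V
  fixY : ∀ y ∈ Y, (∀ a ∈ A0, a * y = y * a) → y ∈ Z
  fixU : ∀ u ∈ U, (∀ h ∈ H, h * u * h⁻¹ * u⁻¹ ∈ V) → u ∈ V
  transZ : ∀ z ∈ Z, ∀ z' ∈ Z, z ≠ 1 → z' ≠ 1 → ∃ h ∈ H, h * z * h⁻¹ = z'
  -- the second parabolic
  P2 : RankOne L2 U Q n2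
  ZL2 : ∀ z ∈ Z, ∀ x ∈ L2, z * x = x * z
  Qmax : ∀ R : Subgroup G, IsPGroup 2 R → R ≤ L2 → L2 ≤ Subgroup.normalizer (R : Set G) → R ≤ Q
  cQ : ∀ x ∈ L2, (∀ q ∈ Q, x * q = q * x) → x ∈ Q
  ne : Q ≠ V
  n2n2 : n2 * n2 ∈ H
  borel2 : ∀ g ∈ L2, cj g U = U → g ∈ U ⊔ H
  H2ne : ∃ h ∈ H ⊓ L2, h ≠ 1
  H2inv : ∀ h ∈ H ⊓ L2, n2 * h * n2⁻¹ = h⁻¹
  fix2 : ∀ u ∈ U, (∀ h ∈ H ⊓ L2, h * u * h⁻¹ * u⁻¹ ∈ Q) → u ∈ Q

end Cfsg.Agent.RankTwoClose.UFour
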