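import Mathlib
import Cfsg.Agent.Lib.NormalAbelian
import Cfsg.Agent.RankTwoClose.UFour.Basic

/-!
Small tools: products of subgroups, `2`-groups, the commuting algebra lemma.
-/

set_option autoImplicit false

namespace Cfsg.Agent.RankTwoClose.UFour

variable {G : Type*} [Group G]

theorem mem_sup_norm {X W : Subgroup G} (h : X ≤ Subgroup.normalizer (W : Set G)) {g : G}
    (hg : g ∈ X ⊔ W) : ∃ x ∈ X, ∃ w ∈ W, g = x * w := by
  have key : ∀ g ∈ X ⊔ W, ∃ x ∈ X, ∃ w ∈ W, g = x * w := by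
    intro g hg
    rw [Subgroup.sup_eq_closure] at hg
    induction hg using Subgroup.closure_induction with
    | mem y hy =>
      rcases hy with hy | hy
      · exact ⟨y, hy, 1, one_mem _, by rw [mul_one]⟩
      · exact ⟨1, one_mem _, y, hy, by rw [one_mul]⟩
    | one => exact ⟨1, one_mem _, 1, one_mem _, by rw [mul_one]⟩
    | mul a b _ _ ha hb =>
      obtain ⟨x, hx, w, hw, rfl⟩ := ha
      obtain ⟨x', hx', w', hw', rfl⟩ := hb
      refine ⟨x * x', mul_mem hx hx', (x'⁻¹ * w * x') * w', mul_mem (conj_mem' (h hx') hw) hw', ?_⟩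
      group
    | inv a _ ha =>
      obtain ⟨x, hx, w, hw, rfl⟩ := ha
      refine ⟨x⁻¹, inv_mem hx, x * w⁻¹ * x⁻¹, conj_mem (h hx) (inv_mem hw), ?_⟩
      group
  exact key g hg

theorem eq_one_of_odd_two {H Q : Subgroup G} (hH : Odd (Nat.card H)) (hQ : IsPGroup 2 Q) {x : G}
    (hx : x ∈ H) (hx' : x ∈ Q) : x = 1 := by
  obtain ⟨k, hk⟩ := hQ ⟨x, hx'⟩
  have hk' : x ^ 2 ^ k = 1 := congrArg Subtype.val hk
  have h1 : orderOf x ∣ 2 ^ k := orderOf_dvd_of_pow_eq_one hk'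
  have h2 : orderOf x ∣ Nat.card H := Subgroup.orderOf_dvd_natCard H hx
  have h3 : Nat.Coprime (2 ^ k) (Nat.card H) :=
    Nat.Coprime.pow_left k (Nat.coprime_two_left.mpr hH)
  have h4 : orderOf x = 1 := Nat.eq_one_of_dvd_coprimes h3 h1 h2
  exact orderOf_eq_one_iff.mp h4

/-- If `cj h Q ≤ Q` for all `h` in a subgroup then it normalises `Q`. -/
theorem le_normalizer_of {H Q : Subgroup G} (h : ∀ x ∈ H, cj x Q ≤ Q) :
    H ≤ Subgroup.normalizer (Q : Set G) := by
  intro x hx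
  rw [mem_norm_iff]
  refine le_antisymm (h x hx) ?_
  have h1 := cj_mono (g := x) (h x⁻¹ (inv_mem hx))
  rwa [← cj_mul, mul_inv_cancel, cj_one] at h1

theorem card_cj (g : G) (X : Subgroup G) : Nat.card (cj g X) = Nat.card X :=
  (Nat.card_congr (X.equivMapOfInjective (MulAut.conj g).toMonoidHom
    (MulAut.conj g).injective).toEquiv).symm

theorem isPGroup_cj {p : ℕ} {g : G} {X : Subgroup G} (h : IsPGroup p X) : IsPGroup p (cj g X) :=
  h.map _

theorem cj_sup (g : G) (X W : Subgroup G) : cj g (X ⊔ W) = cj g X ⊔ cj g W :=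
  Subgroup.map_sup _ _ _

theorem cj_inf (g : G) (X W : Subgroup G) : cj g (X ⊓ W) = cj g X ⊓ cj g W := by
  ext x
  simp only [Subgroup.mem_inf, mem_cj]

theorem cj_comm (g : G) (X W : Subgroup G) : cj g ⁅X, W⁆ = ⁅cj g X, cj g W⁆ :=
  Subgroup.map_commutator _ _ _

theorem cj_inv_cj (g : G) (X : Subgroup G) : cj g⁻¹ (cj g X) = X := by
  rw [← cj_mul, inv_mul_cancel, cj_one]

theorem cj_cj_inv (g : G) (X : Subgroup G) : cj g (cj g⁻¹ X) = X := by
  rw [← cj_mul, mul_inv_cancel, cj_one]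

theorem norm_cj {g x : G} {X : Subgroup G}
    (h : g⁻¹ * x * g ∈ Subgroup.normalizer (X : Set G)) :
    x ∈ Subgroup.normalizer ((cj g X : Subgroup G) : Set G) := by
  rw [mem_norm_iff] at h ⊢
  have : cj x (cj g X) = cj g (cj (g⁻¹ * x * g) X) := by
    rw [← cj_mul, ← cj_mul]; congr 1; group
  rw [this, h]

theorem norm_inf {X W : Subgroup G} {g : G} (hX : g ∈ Subgroup.normalizer (X : Set G))
    (hW : g ∈ Subgroup.normalizer (W : Set G)) :
    g ∈ Subgroup.normalizer ((X ⊓ W : Subgroup G) : Set G) := by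
  rw [mem_norm_iff] at *
  rw [cj_inf, hX, hW]

theorem norm_sup {X W : Subgroup G} {g : G} (hX : g ∈ Subgroup.normalizer (X : Set G))
    (hW : g ∈ Subgroup.normalizer (W : Set G)) :
    g ∈ Subgroup.normalizer ((X ⊔ W : Subgroup G) : Set G) := by
  rw [mem_norm_iff] at *
  rw [cj_sup, hX, hW]

/-- In a finite `2`-group `S` normalising `V` and `U`, with `U ≤ S` not inside `V`, some element of
`U` outside `V` is central modulo `V`. -/
theorem exists_central_mod [Finite G] {S V U : Subgroup G} (hS : IsPGroup 2 S) (hUS : U ≤ S)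
    (hVS : V ≤ S) (hV : S ≤ Subgroup.normalizer (V : Set G))
    (hU : S ≤ Subgroup.normalizer (U : Set G)) (h : ¬ U ≤ V) :
    ∃ u ∈ U, u ∉ V ∧ ∀ s ∈ S, s * u * s⁻¹ * u⁻¹ ∈ V := by
  have hn : Group.IsNilpotent S := by
    have : Fact (Nat.Prime 2) := ⟨Nat.prime_two⟩
    exact hS.isNilpotent
  have hV' : (V.subgroupOf S).Normal := by
    rw [Subgroup.normal_subgroupOf_iff_le_normalizer hVS]; exact hV
  have hU' : (U.subgroupOf S).Normal := by
    rw [Subgroup.normal_subgroupOf_iff_le_normalizer hUS]; exact hU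
  have hne : ¬ U.subgroupOf S ≤ V.subgroupOf S := by
    intro hle
    apply h
    intro u hu
    exact Subgroup.mem_subgroupOf.mp (hle (x := ⟨u, hUS hu⟩) (Subgroup.mem_subgroupOf.mpr hu))
  obtain ⟨⟨x, hxS⟩, hx, hxV, hc⟩ :=
    Lib.NormalAbelian.exists_mem_not_mem_central_mod hV' hU' hne
  rw [Subgroup.mem_subgroupOf] at hx hxV
  refine ⟨x, hx, hxV, fun s hs => ?_⟩
  have h1 := Subgroup.mem_subgroupOf.mp (hc ⟨s, hs⟩)
  have h2 : x * s * x⁻¹ * s⁻¹ ∈ V := h1
  have h3 := inv_mem h2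
  rwa [show (x * s * x⁻¹ * s⁻¹)⁻¹ = s * x * s⁻¹ * x⁻¹ by group] at h3

end Cfsg.Agent.RankTwoClose.UFour
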