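import Mathlib

/-!
Two modules interchanged by `n`, an operator `h` inverted by `n`, everything commuting with an
irreducible commutative set of operators: whatever commutes with the set and with `h` keeps the
modules.
-/

set_option autoImplicit false

namespace Cfsg.Agent.RankTwoClose.UFour.Algebra

variable {M : Type*} [AddCommGroup M]

theorem stable (W W' : AddSubgroup M) (hdis : ∀ m ∈ W, m ∈ W' → m = 0)
    (hsup : ∀ m : M, ∃ w ∈ W, ∃ w' ∈ W', m = w + w')
    (A : Set (AddMonoid.End M)) (hcomm : ∀ a ∈ A, ∀ b ∈ A, a * b = b * a)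
    (hAW : ∀ a ∈ A, ∀ w ∈ W, a w ∈ W) (hAW' : ∀ a ∈ A, ∀ w ∈ W', a w ∈ W')
    (irr : ∀ T : AddSubgroup M, T ≤ W → (∀ a ∈ A, ∀ t ∈ T, a t ∈ T) → (∃ t ∈ T, t ≠ 0) → W ≤ T)
    (h n τ : AddMonoid.End M) (hA : ∀ a ∈ A, a * h = h * a) (nA : ∀ a ∈ A, a * n = n * a)
    (τA : ∀ a ∈ A, a * τ = τ * a) (τh : τ * h = h * τ)
    (hW : ∀ w ∈ W, h w ∈ W) (hW' : ∀ w ∈ W', h w ∈ W')
    (nsurj : ∀ w' ∈ W', ∃ w ∈ W, n w = w') (ninj : ∀ m, n m = 0 → m = 0)
    (hnh : ∀ m, h (n (h m)) = n m) (hsurj : ∀ w ∈ W, ∃ w₂ ∈ W, h w₂ = w)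
    (hh : ∀ w ∈ W, h (h w) = w → w = 0) : ∀ w ∈ W, τ w ∈ W := by
  intro w hw
  by_cases hw0 : w = 0
  · rw [hw0, map_zero]; exact zero_mem _
  -- the subring generated by `A`
  let R : Subring (AddMonoid.End M) := Subring.closure A
  have hRW : ∀ p ∈ R, ∀ w ∈ W, p w ∈ W := by
    intro p hp
    induction hp using Subring.closure_induction with
    | mem x hx => exact hAW x hx
    | zero => intro w _; simpa using zero_mem W
    | one => intro w hw; simpa using hw
    | add x y _ _ hx hy =>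
      intro w hw
      exact add_mem (hx w hw) (hy w hw)
    | neg x _ hx =>
      intro w hw
      exact neg_mem (hx w hw)
    | mul x y _ _ hx hy =>
      intro w hw
      exact hx _ (hy w hw)
  have hRW' : ∀ p ∈ R, ∀ w ∈ W', p w ∈ W' := by
    intro p hp
    induction hp using Subring.closure_induction with
    | mem x hx => exact hAW' x hx
    | zero => intro w _; simpa using zero_mem W'
    | one => intro w hw; simpa using hw
    | add x y _ _ hx hy =>
      intro w hw
      exact add_mem (hx w hw) (hy w hw)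
    | neg x _ hx =>
      intro w hw
      exact neg_mem (hx w hw)
    | mul x y _ _ hx hy =>
      intro w hw
      exact hx _ (hy w hw)
  have hRc : ∀ g : AddMonoid.End M, (∀ a ∈ A, a * g = g * a) → ∀ p ∈ R, p * g = g * p := by
    intro g hg p hp
    induction hp using Subring.closure_induction with
    | mem x hx => exact hg x hx
    | zero => rw [zero_mul, mul_zero]
    | one => rw [one_mul, mul_one]
    | add x y _ _ hx hy => rw [add_mul, mul_add, hx, hy]
    | neg x _ hx => rw [neg_mul, mul_neg, hx]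
    | mul x y _ _ hx hy => rw [mul_assoc, hy, ← mul_assoc, hx, mul_assoc]
  have hRR : ∀ p ∈ R, ∀ g ∈ R, g * p = p * g := by
    intro p hp g hg
    exact hRc p (fun a ha => (hRc a (fun b hb => hcomm b hb a ha) p hp).symm) g hg
  -- the cyclic module
  let T : AddSubgroup M :=
    { carrier := {m | ∃ p ∈ R, p w = m}
      zero_mem' := ⟨0, zero_mem _, rfl⟩
      add_mem' := by
        rintro _ _ ⟨p, hp, rfl⟩ ⟨q, hq, rfl⟩
        exact ⟨p + q, add_mem hp hq, rfl⟩
      neg_mem' := by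
        rintro _ ⟨p, hp, rfl⟩
        exact ⟨-p, neg_mem hp, rfl⟩ }
  have hT : ∀ {m}, m ∈ T ↔ ∃ p ∈ R, p w = m := fun {m} => Iff.rfl
  have hWT : W ≤ T := by
    refine irr T ?_ ?_ ⟨w, hT.mpr ⟨1, one_mem _, rfl⟩, hw0⟩
    · rintro m hm
      obtain ⟨p, hp, rfl⟩ := hT.mp hm
      exact hRW p hp w hw
    · intro a ha t ht
      obtain ⟨p, hp, rfl⟩ := hT.mp ht
      exact hT.mpr ⟨a * p, mul_mem (Subring.subset_closure ha) hp, rfl⟩
  obtain ⟨p, hp, hpw⟩ := hT.mp (hWT (hW w hw))
  -- `p = h` on `W`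
  have hph : ∀ v ∈ W, p v = h v := by
    intro v hv
    obtain ⟨q, hq, rfl⟩ := hT.mp (hWT hv)
    have h1 : p (q w) = q (p w) := congrArg (fun f : AddMonoid.End M => f w) (hRR q hq p hp)
    have h2 : h (q w) = q (h w) :=
      (congrArg (fun f : AddMonoid.End M => f w) (hRc h hA q hq)).symm
    rw [h1, h2, hpw]
  -- the image of `w`
  obtain ⟨u, hu, u', hu', huu⟩ := hsup (τ w)
  have h1 : p (τ w) = h (τ w) := by
    have e1 : p (τ w) = τ (p w) :=
      congrArg (fun f : AddMonoid.End M => f w) (hRc τ τA p hp)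
    have e2 : τ (h w) = h (τ w) := congrArg (fun f : AddMonoid.End M => f w) τh
    rw [e1, hpw, e2]
  have h2 : p u' = h u' := by
    rw [huu, map_add, map_add] at h1
    have h3 : p u' - h u' ∈ W' := sub_mem (hRW' p hp u' hu') (hW' u' hu')
    have h4 : p u' - h u' = h u - p u := by
      rw [sub_eq_sub_iff_add_eq_add, add_comm (p u'), add_comm (h u)]
      rw [h1]; abel
    have h5 : p u' - h u' ∈ W := by rw [h4]; exact sub_mem (hW u hu) (hRW p hp u hu)
    exact sub_eq_zero.mp (hdis _ h5 h3)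
  obtain ⟨w1, hw1, hnw1⟩ := nsurj u' hu'
  obtain ⟨w2, hw2, hhw2⟩ := hsurj w1 hw1
  have h3 : h u' = n w2 := by rw [← hnw1, ← hhw2]; exact hnh w2
  have h4 : p u' = n (h (h w2)) := by
    rw [← hnw1]
    have e1 : p (n w1) = n (p w1) := congrArg (fun f : AddMonoid.End M => f w1) (hRc n nA p hp)
    rw [e1, hph w1 hw1, ← hhw2]
  have h5 : n (h (h w2) - w2) = 0 := by rw [map_sub, ← h4, ← h3, h2, sub_self]
  have h6 : w2 = 0 := hh w2 hw2 (sub_eq_zero.mp (ninj _ h5))
  have h7 : u' = 0 := by rw [← hnw1, ← hhw2, h6, map_zero, map_zero]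
  rw [huu, h7, add_zero]
  exact hu

end Cfsg.Agent.RankTwoClose.UFour.Algebra
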