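import Mathlib
import Cfsg.Agent.RankTwoClose.UFour.Tools

/-!
Type `U4(q)`: `U = Q V`, `V ∩ Q = Y`, `Q = Y Y^n2`, `Y ∩ Y^n2 = Z`.
-/

set_option autoImplicit false
set_option linter.unusedSectionVars false

namespace Cfsg.Agent.RankTwoClose.UFour

variable {G : Type*} [Group G]

namespace Data

variable {S V U Z Y L1 L2 Q H A0 : Subgroup G} {n1 n2 : G}

section Basic

variable (D : Data S V U Z Y L1 L2 Q H A0 n1 n2)
include D

theorem VU : V ≤ U := D.P1.QU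
theorem QU : Q ≤ U := D.P2.QU
theorem UL1 : U ≤ L1 := D.P1.UL
theorem UL2 : U ≤ L2 := D.P2.UL
theorem ZV : Z ≤ V := fun z hz => ((D.memZ z).mp hz).1
theorem zu {z u : G} (hz : z ∈ Z) (hu : u ∈ U) : z * u = u * z := ((D.memZ z).mp hz).2 u hu
theorem ZY : Z ≤ Y := fun z hz => D.Yup z (D.ZV hz) fun u hu => by
  rw [show z * u * z⁻¹ * u⁻¹ = 1 by rw [D.zu hz hu]; group]
  exact one_mem _
theorem UV : U ≤ Subgroup.normalizer (V : Set G) := D.UL1.trans D.P1.norm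
theorem YV : Y ≤ V := by
  rw [D.Ydef, Subgroup.commutator_le]
  intro v hv u hu
  have h1 : v * u * v⁻¹ * u⁻¹ = v * (u * v⁻¹ * u⁻¹) := by group
  show v * u * v⁻¹ * u⁻¹ ∈ V
  rw [h1]
  exact mul_mem hv (conj_mem (D.UV hu) (inv_mem hv))
theorem YleU : Y ≤ U := D.YV.trans D.VU
theorem ZleU : Z ≤ U := D.ZV.trans D.VU
theorem vuY {v u : G} (hv : v ∈ V) (hu : u ∈ U) : v * u * v⁻¹ * u⁻¹ ∈ Y := by
  rw [D.Ydef]; exact Subgroup.commutator_mem_commutator hv hu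
theorem twoU : IsPGroup 2 U := D.twoS.to_le D.US
theorem twoQ : IsPGroup 2 Q := D.twoU.to_le D.QU

theorem normY {g : G} (hV : g ∈ Subgroup.normalizer (V : Set G))
    (hU : g ∈ Subgroup.normalizer (U : Set G)) : g ∈ Subgroup.normalizer (Y : Set G) := by
  rw [mem_norm_iff] at *
  rw [D.Ydef, cj_comm, hV, hU]

theorem normZ {g : G} (hV : g ∈ Subgroup.normalizer (V : Set G))
    (hU : g ∈ Subgroup.normalizer (U : Set G)) : g ∈ Subgroup.normalizer (Z : Set G) := by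
  rw [Subgroup.mem_normalizer_iff]
  intro z
  rw [D.memZ, D.memZ, ← Subgroup.mem_normalizer_iff.mp hV z]
  refine and_congr_right fun _ => ?_
  constructor
  · intro h u hu
    have h1 := h _ (conj_mem' hU hu)
    calc g * z * g⁻¹ * u = g * (z * (g⁻¹ * u * g)) * g⁻¹ := by group
      _ = g * ((g⁻¹ * u * g) * z) * g⁻¹ := by rw [h1]
      _ = u * (g * z * g⁻¹) := by group
  · intro h u hu
    have h1 := h _ (conj_mem hU hu)
    calc z * u = g⁻¹ * (g * z * g⁻¹ * (g * u * g⁻¹)) * g := by group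
      _ = g⁻¹ * (g * u * g⁻¹ * (g * z * g⁻¹)) * g := by rw [h1]
      _ = u * z := by group

theorem HY : H ≤ Subgroup.normalizer (Y : Set G) := fun _ hh => D.normY (D.HV hh) (D.HU hh)
theorem HZ : H ≤ Subgroup.normalizer (Z : Set G) := fun _ hh => D.normZ (D.HV hh) (D.HU hh)
theorem SY : S ≤ Subgroup.normalizer (Y : Set G) := fun _ hh => D.normY (D.SV hh) (D.SU hh)
theorem SZ : S ≤ Subgroup.normalizer (Z : Set G) := fun _ hh => D.normZ (D.SV hh) (D.SU hh)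
theorem UY : U ≤ Subgroup.normalizer (Y : Set G) := fun _ hh =>
  D.normY (D.UV hh) (Subgroup.le_normalizer hh)

theorem normQ {g : G} (h2 : g ∈ Subgroup.normalizer (L2 : Set G)) : cj g Q ≤ Q := by
  refine D.Qmax _ (isPGroup_cj D.twoQ) ?_ ?_
  · have := cj_mono (g := g) (D.QU.trans D.UL2)
    rwa [mem_norm_iff.mp h2] at this
  · intro x hx
    refine norm_cj (D.P2.norm ?_)
    exact conj_mem' h2 hx

theorem HQ : H ≤ Subgroup.normalizer (Q : Set G) :=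
  le_normalizer_of fun _ hx => D.normQ (D.HL2 hx)

theorem SQ : S ≤ Subgroup.normalizer (Q : Set G) :=
  le_normalizer_of fun _ hx => D.normQ (D.SL2 hx)

theorem Z_ne : Z ≠ ⊥ := by
  obtain ⟨a, ha, -, -, ha1, -, -⟩ := D.Zbig
  intro h
  rw [h] at ha
  exact ha1 (Subgroup.mem_bot.mp ha)

theorem E_ne : cj n1 Z ≠ ⊥ := by
  intro h
  have h1 := congrArg (cj n1⁻¹) h
  rw [cj_inv_cj] at h1
  refine D.Z_ne (h1.trans ?_)
  exact Subgroup.map_bot _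

theorem EV : cj n1 Z ≤ V := by
  have := cj_mono (g := n1) D.ZV
  rwa [mem_norm_iff.mp (D.P1.norm D.P1.nL)] at this

theorem V_ne_Y : V ≠ Y := by
  intro h
  have h1 : cj n1 Z ≤ Y := h ▸ D.EV
  have h2 := D.Edis
  rw [inf_eq_right.mpr h1] at h2
  exact D.E_ne h2

theorem Y_ne_Z : Y ≠ Z := by
  intro h
  have h1 := D.Zle
  rw [h] at h1
  have h2 : ⁅Z, U⁆ ≤ ⊥ := by
    rw [Subgroup.commutator_le]
    intro z hz u hu
    rw [Subgroup.mem_bot, commutatorElement_def, D.zu hz hu]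
    group
  exact D.Z_ne (le_bot_iff.mp (h1.trans h2))

theorem YQ : Y ≤ Q := by
  rw [D.Ydef, Subgroup.commutator_le]
  intro v hv u hu
  exact D.P2.ab v (D.VU hv) u hu

theorem hQ1 {x : G} (hx : x ∈ H) (hx' : x ∈ Q) : x = 1 := eq_one_of_odd_two D.odd D.twoQ hx hx'

theorem cV : ¬ V ≤ Y := fun h => D.V_ne_Y (le_antisymm h D.YV)

theorem Q_ne_Y : Q ≠ Y := by
  intro h
  refine D.cV ?_
  intro v hv
  rw [← h]
  refine D.cQ v (D.UL2 (D.VU hv)) fun q hq => ?_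
  rw [h] at hq
  exact D.commV v hv q (D.YV hq)

theorem U_ne_Q : U ≠ Q := by
  intro h
  have h1 : cj n2 U = U := by
    rw [h]; exact mem_norm_iff.mp (D.P2.norm D.P2.nL)
  have h2 := D.P2.gen
  rw [h1, sup_idem] at h2
  obtain ⟨x, hx, hx1⟩ := D.H2ne
  obtain ⟨hxH, hxL⟩ := Subgroup.mem_inf.mp hx
  exact hx1 (D.hQ1 hxH (h ▸ h2 hxL))

theorem VnQ : ¬ V ≤ Q := by
  intro h
  have h1 := D.irrU Q h D.QU (D.AH.trans D.HQ)
  rcases h1 with h1 | h1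
  · exact D.ne h1
  · exact D.U_ne_Q h1.symm

theorem VQ_inf : V ⊓ Q = Y := by
  rcases D.irrE (V ⊓ Q) (le_inf D.YV D.YQ) inf_le_left
    (fun x hx => norm_inf (D.HV hx) (D.HQ hx)) with h | h
  · exact h
  · exact absurd (inf_eq_left.mp h) D.VnQ

theorem QV_sup : Q ⊔ V = U := by
  rcases D.irrU (Q ⊔ V) le_sup_right (sup_le D.QU D.VU)
    (fun x hx => norm_sup (D.HQ (D.AH hx)) (D.HV (D.AH hx))) with h | h
  · exfalso
    have h1 : Q ≤ V := by rw [← h]; exact le_sup_left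
    have h2 := D.VQ_inf
    rw [inf_eq_right.mpr h1] at h2
    exact D.Q_ne_Y h2
  · exact h

theorem QlV : Q ≤ Subgroup.normalizer (V : Set G) := D.QU.trans D.UV

theorem exists_qv {u : G} (hu : u ∈ U) : ∃ q ∈ Q, ∃ v ∈ V, u = q * v := by
  rw [← D.QV_sup] at hu
  exact mem_sup_norm D.QlV hu

/-- `A0` centralises `U/Q`. -/
theorem AUQ {a u : G} (ha : a ∈ A0) (hu : u ∈ U) : a * u * a⁻¹ * u⁻¹ ∈ Q := by
  obtain ⟨q, hq, v, hv, rfl⟩ := D.exists_qv hu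
  have e : a * (q * v) * a⁻¹ * (q * v)⁻¹ =
      (a * q * a⁻¹) * (a * v * a⁻¹ * v⁻¹) * q⁻¹ := by group
  rw [e]
  exact mul_mem (mul_mem (conj_mem (D.HQ (D.AH ha)) hq) (D.YQ (D.AE a ha v hv))) (inv_mem hq)

/-- `A0` centralises `L2/Q`. -/
theorem AL2Q {a x : G} (ha : a ∈ A0) (hx : x ∈ L2) : a * x * a⁻¹ * x⁻¹ ∈ Q := by
  refine D.P2.comm_of (D.HL2 (D.AH ha)) (D.HU (D.AH ha)) ?_ (fun u hu => D.AUQ ha hu) x hx
  rw [← cj_mul, show a * n2 = n2 * (n2⁻¹ * a * n2) by group, cj_mul]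
  have h1 : n2⁻¹ * a * n2 ∈ H := conj_mem' (mem_norm_iff.mpr D.n2H) (D.AH ha)
  rw [mem_norm_iff.mp (D.HU h1)]

/-- `n2` centralises `A0`. -/
theorem n2A {a : G} (ha : a ∈ A0) : a * n2 = n2 * a := by
  have h1 := D.AL2Q ha D.P2.nL
  have h2 : a * n2 * a⁻¹ * n2⁻¹ ∈ H := by
    rw [show a * n2 * a⁻¹ * n2⁻¹ = a * (n2 * a⁻¹ * n2⁻¹) by group]
    exact mul_mem (D.AH ha) (conj_mem (mem_norm_iff.mpr D.n2H) (inv_mem (D.AH ha)))
  have h3 := D.hQ1 h2 h1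
  calc a * n2 = (a * n2 * a⁻¹ * n2⁻¹) * (n2 * a) := by group
    _ = n2 * a := by rw [h3, one_mul]

/-- `H2 = H ∩ L2` commutes with `A0`. -/
theorem h2A {a h : G} (ha : a ∈ A0) (hh : h ∈ H ⊓ L2) : a * h = h * a := by
  obtain ⟨hH, hL⟩ := Subgroup.mem_inf.mp hh
  have h1 := D.AL2Q ha hL
  have h2 : a * h * a⁻¹ * h⁻¹ ∈ H :=
    mul_mem (mul_mem (mul_mem (D.AH ha) hH) (inv_mem (D.AH ha))) (inv_mem hH)
  have h3 := D.hQ1 h2 h1
  calc a * h = (a * h * a⁻¹ * h⁻¹) * (h * a) := by group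
    _ = h * a := by rw [h3, one_mul]

theorem cj_Z_of_L2 {x : G} (hx : x ∈ L2) : cj x Z = Z := by
  rw [← mem_norm_iff, Subgroup.mem_normalizer_iff]
  intro z
  constructor
  · intro hz
    rw [← D.ZL2 z hz x hx]; simpa using hz
  · intro hz
    have h1 := D.ZL2 _ hz x⁻¹ (inv_mem hx)
    have h2 : z = x⁻¹ * (x * z * x⁻¹) * x := by group
    rw [h2, ← h1]
    simpa using hz

theorem n2Q : n2 ∈ Subgroup.normalizer (Q : Set G) := D.P2.norm D.P2.nL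

theorem Y'Q : cj n2 Y ≤ Q := by
  have := cj_mono (g := n2) D.YQ
  rwa [mem_norm_iff.mp D.n2Q] at this

theorem ZY' : Z ≤ cj n2 Y := by
  have := cj_mono (g := n2) D.ZY
  rwa [D.cj_Z_of_L2 D.P2.nL] at this

theorem AY' {a : G} (ha : a ∈ A0) : a ∈ Subgroup.normalizer ((cj n2 Y : Subgroup G) : Set G) := by
  refine norm_cj ?_
  rw [show n2⁻¹ * a * n2 = a by rw [mul_assoc, D.n2A ha]; group]
  exact D.HY (D.AH ha)

theorem cj_Y_ne : cj n2 Y ≠ Y := by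
  intro h
  have hL : L2 ≤ Subgroup.normalizer (Y : Set G) := by
    refine D.P2.gen.trans (sup_le D.UY ?_)
    intro x hx
    rw [mem_cj] at hx
    have := norm_cj (g := n2) (x := x) (D.UY hx)
    rwa [h] at this
  -- the subgroup centralising `Y` and `Q/Y`
  let N : Subgroup G :=
    { carrier := {x | x ∈ L2 ∧ (∀ y ∈ Y, x * y = y * x) ∧ ∀ q ∈ Q, x * q * x⁻¹ * q⁻¹ ∈ Y}
      one_mem' := ⟨one_mem _, fun y _ => by rw [one_mul, mul_one], fun q _ => by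
        rw [show (1 : G) * q * 1⁻¹ * q⁻¹ = 1 by group]; exact one_mem _⟩
      mul_mem' := by
        rintro a b ⟨ha, ha1, ha2⟩ ⟨hb, hb1, hb2⟩
        refine ⟨mul_mem ha hb, fun y hy => ?_, fun q hq => ?_⟩
        · rw [mul_assoc, hb1 y hy, ← mul_assoc, ha1 y hy, mul_assoc]
        · have e : a * b * q * (a * b)⁻¹ * q⁻¹ =
            (a * (b * q * b⁻¹ * q⁻¹) * a⁻¹) * (a * q * a⁻¹ * q⁻¹) := by group
          rw [e]
          exact mul_mem (conj_mem (hL ha) (hb2 q hq)) (ha2 q hq)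
      inv_mem' := by
        rintro a ⟨ha, ha1, ha2⟩
        refine ⟨inv_mem ha, fun y hy => ?_, fun q hq => ?_⟩
        · have := ha1 y hy
          calc a⁻¹ * y = a⁻¹ * (y * a) * a⁻¹ := by group
            _ = a⁻¹ * (a * y) * a⁻¹ := by rw [this]
            _ = y * a⁻¹ := by group
        · have h1 := inv_mem (ha2 q hq)
          have h2 := conj_mem' (hL ha) h1
          rwa [show a⁻¹ * (a * q * a⁻¹ * q⁻¹)⁻¹ * a = a⁻¹ * q * a⁻¹⁻¹ * q⁻¹ by group] at h2 }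
  have hN : ∀ {x}, x ∈ N ↔ x ∈ L2 ∧ (∀ y ∈ Y, x * y = y * x) ∧
      ∀ q ∈ Q, x * q * x⁻¹ * q⁻¹ ∈ Y := fun {x} => Iff.rfl
  have hN2 : IsPGroup 2 N := by
    rintro ⟨x, hx⟩
    obtain ⟨hx0, hx1, hx2⟩ := hN.mp hx
    have hxx : x * x ∈ Q := by
      refine D.cQ _ (mul_mem hx0 hx0) fun q hq => ?_
      set y := x * q * x⁻¹ * q⁻¹ with hy
      have hyY : y ∈ Y := hx2 q hq
      have e1 : x * q * x⁻¹ = y * q := by rw [hy]; group
      have e2 : x * x * q * x⁻¹ * x⁻¹ = q := by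
        calc x * x * q * x⁻¹ * x⁻¹ = x * (x * q * x⁻¹) * x⁻¹ := by group
          _ = x * (y * q) * x⁻¹ := by rw [e1]
          _ = (x * y) * q * x⁻¹ := by group
          _ = (y * x) * q * x⁻¹ := by rw [hx1 y hyY]
          _ = y * (x * q * x⁻¹) := by group
          _ = y * y * q := by rw [e1]; group
          _ = q := by rw [D.sqV y (D.YV hyY), one_mul]
      calc x * x * q = (x * x * q * x⁻¹ * x⁻¹) * (x * x) := by group
        _ = q * (x * x) := by rw [e2]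
    obtain ⟨k, hk⟩ := D.twoQ ⟨x * x, hxx⟩
    have hk' : (x * x) ^ 2 ^ k = 1 := congrArg Subtype.val hk
    refine ⟨k + 1, Subtype.ext ?_⟩
    show x ^ 2 ^ (k + 1) = 1
    rw [pow_succ', pow_mul, pow_two]
    exact hk'
  have hNn : L2 ≤ Subgroup.normalizer (N : Set G) := by
    refine le_normalizer_of fun g hg x hx => ?_
    rw [mem_cj] at hx
    obtain ⟨hx0, hx1, hx2⟩ := hN.mp hx
    refine hN.mpr ⟨?_, fun y hy => ?_, fun q hq => ?_⟩
    · have := mul_mem (mul_mem hg hx0) (inv_mem hg)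
      rwa [show g * (g⁻¹ * x * g) * g⁻¹ = x by group] at this
    · have h1 := hx1 _ (conj_mem' (hL hg) hy)
      calc x * y = g * ((g⁻¹ * x * g) * (g⁻¹ * y * g)) * g⁻¹ := by group
        _ = g * ((g⁻¹ * y * g) * (g⁻¹ * x * g)) * g⁻¹ := by rw [h1]
        _ = y * x := by group
    · have h1 := hx2 _ (conj_mem' (D.P2.norm hg) hq)
      have h2 := conj_mem (hL hg) h1
      rwa [show g * ((g⁻¹ * x * g) * (g⁻¹ * q * g) * (g⁻¹ * x * g)⁻¹ * (g⁻¹ * q * g)⁻¹) * g⁻¹ =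
        x * q * x⁻¹ * q⁻¹ by group] at h2
  have hNQ : N ≤ Q := D.Qmax N hN2 (fun x hx => (hN.mp hx).1) hNn
  refine D.VnQ (le_trans ?_ hNQ)
  intro v hv
  refine hN.mpr ⟨D.UL2 (D.VU hv), fun y hy => D.commV v hv y (D.YV hy), fun q hq => ?_⟩
  exact D.vuY hv (D.QU hq)

variable [Finite G]

theorem YY'_inf : Y ⊓ cj n2 Y = Z := by
  rcases D.irrY (Y ⊓ cj n2 Y) (le_inf D.ZY D.ZY') inf_le_left
    (fun x hx => norm_inf (D.HY (D.AH hx)) (D.AY' hx)) with h | h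
  · exact h
  · exfalso
    have h1 : Y ≤ cj n2 Y := inf_eq_left.mp h
    exact D.cj_Y_ne (Subgroup.eq_of_le_of_card_ge h1 (le_of_eq (card_cj _ _))).symm

theorem VY'_sup : V ⊔ cj n2 Y = U := by
  rcases D.irrU (V ⊔ cj n2 Y) le_sup_left (sup_le D.VU (D.Y'Q.trans D.QU))
    (fun x hx => norm_sup (D.HV (D.AH hx)) (D.AY' hx)) with h | h
  · exfalso
    have h1 : cj n2 Y ≤ V := by rw [← h]; exact le_sup_right
    have h2 : cj n2 Y ≤ Y := le_trans (le_inf h1 D.Y'Q) (le_of_eq D.VQ_inf)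
    have h3 : Y ⊓ cj n2 Y = cj n2 Y := inf_eq_right.mpr h2
    rw [D.YY'_inf] at h3
    have h4 := congrArg (cj n2⁻¹) h3
    rw [cj_inv_cj, D.cj_Z_of_L2 (inv_mem D.P2.nL)] at h4
    exact D.Y_ne_Z h4.symm
  · exact h

theorem Y'leU : cj n2 Y ≤ U := D.Y'Q.trans D.QU

theorem YY'_sup : Y ⊔ cj n2 Y = Q := by
  refine le_antisymm (sup_le D.YQ D.Y'Q) ?_
  intro q hq
  have h1 : q ∈ cj n2 Y ⊔ V := by rw [sup_comm, D.VY'_sup]; exact D.QU hq
  obtain ⟨y, hy, v, hv, rfl⟩ := mem_sup_norm (D.Y'leU.trans D.UV) h1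
  have hvQ : v ∈ Q := by
    have := mul_mem (inv_mem (D.Y'Q hy)) hq
    rwa [inv_mul_cancel_left] at this
  have hvY : v ∈ Y := by rw [← D.VQ_inf]; exact ⟨hv, hvQ⟩
  exact mul_mem (Subgroup.mem_sup_right hy) (Subgroup.mem_sup_left hvY)

/-- Elements of `Q` are `y * y'`. -/
theorem exists_yy {q : G} (hq : q ∈ Q) : ∃ y' ∈ cj n2 Y, ∃ y ∈ Y, q = y' * y := by
  rw [← D.YY'_sup, sup_comm] at hq
  exact mem_sup_norm (D.Y'leU.trans D.UY) hq

/-- `[Q, Q] ≤ Z`. -/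
theorem QQ {a b : G} (ha : a ∈ Q) (hb : b ∈ Q) : a * b * a⁻¹ * b⁻¹ ∈ Z := by
  have hQY : Q ≤ Subgroup.normalizer (Y : Set G) := D.QU.trans D.UY
  have hQY' : Q ≤ Subgroup.normalizer ((cj n2 Y : Subgroup G) : Set G) := by
    intro x hx
    exact norm_cj (hQY (conj_mem' D.n2Q hx))
  have hyy : ∀ y ∈ Y, ∀ y' ∈ cj n2 Y, y * y' * y⁻¹ * y'⁻¹ ∈ Z := by
    intro y hy y' hy'
    rw [← D.YY'_inf]
    refine ⟨?_, ?_⟩
    · rw [show y * y' * y⁻¹ * y'⁻¹ = y * (y' * y⁻¹ * y'⁻¹) by group]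
      exact mul_mem hy (conj_mem (hQY (D.Y'Q hy')) (inv_mem hy))
    · show y * y' * y⁻¹ * y'⁻¹ ∈ cj n2 Y
      exact mul_mem (conj_mem (hQY' (D.YQ hy)) hy') (inv_mem hy')
  have hYc : ∀ y ∈ Y, ∀ z ∈ Y, y * z = z * y := fun y hy z hz =>
    D.commV y (D.YV hy) z (D.YV hz)
  have hY'c : ∀ y ∈ cj n2 Y, ∀ z ∈ cj n2 Y, y * z = z * y := by
    intro y hy z hz
    rw [mem_cj] at hy hz
    have := hYc _ hy _ hz
    calc y * z = n2 * ((n2⁻¹ * y * n2) * (n2⁻¹ * z * n2)) * n2⁻¹ := by group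
      _ = n2 * ((n2⁻¹ * z * n2) * (n2⁻¹ * y * n2)) * n2⁻¹ := by rw [this]
      _ = z * y := by group
  -- commutator subgroup argument
  have h1 : ⁅Q, Q⁆ ≤ Z := by
    have hZc : ∀ z ∈ Z, ∀ q ∈ Q, q * z * q⁻¹ ∈ Z := by
      intro z hz q hq
      rw [← D.zu hz (D.QU hq)]; simpa using hz
    have key : ∀ b ∈ Q, (∀ y ∈ Y, b * y * b⁻¹ * y⁻¹ ∈ Z) → (∀ y ∈ cj n2 Y, b * y * b⁻¹ * y⁻¹ ∈ Z) →
        ∀ a ∈ Q, b * a * b⁻¹ * a⁻¹ ∈ Z := by
      intro b hb h1 h2 a ha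
      obtain ⟨y', hy', y, hy, rfl⟩ := D.exists_yy ha
      have e : b * (y' * y) * b⁻¹ * (y' * y)⁻¹ =
        (b * y' * b⁻¹ * y'⁻¹) * (y' * (b * y * b⁻¹ * y⁻¹) * y'⁻¹) := by group
      rw [e]
      exact mul_mem (h2 y' hy') (hZc _ (h1 y hy) _ (D.Y'Q hy'))
    have keyY : ∀ b ∈ Y, ∀ a ∈ Q, b * a * b⁻¹ * a⁻¹ ∈ Z := fun b hb =>
      key b (D.YQ hb) (fun y hy => by
        rw [show b * y * b⁻¹ * y⁻¹ = 1 by rw [hYc b hb y hy]; group]; exact one_mem _)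
        (fun y hy => hyy b hb y hy)
    have keyY' : ∀ b ∈ cj n2 Y, ∀ a ∈ Q, b * a * b⁻¹ * a⁻¹ ∈ Z := fun b hb =>
      key b (D.Y'Q hb) (fun y hy => by
        have := inv_mem (hyy y hy b hb)
        rwa [show (y * b * y⁻¹ * b⁻¹)⁻¹ = b * y * b⁻¹ * y⁻¹ by group] at this)
        (fun y hy => by
          rw [show b * y * b⁻¹ * y⁻¹ = 1 by rw [hY'c b hb y hy]; group]; exact one_mem _)
    rw [Subgroup.commutator_le]
    intro a ha b hb
    obtain ⟨y', hy', y, hy, rfl⟩ := D.exists_yy ha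
    show y' * y * b * (y' * y)⁻¹ * b⁻¹ ∈ Z
    have e : y' * y * b * (y' * y)⁻¹ * b⁻¹ =
        (y' * (y * b * y⁻¹ * b⁻¹) * y'⁻¹) * (y' * b * y'⁻¹ * b⁻¹) := by group
    rw [e]
    exact mul_mem (hZc _ (keyY y hy b hb) _ (D.Y'Q hy')) (keyY' y' hy' b hb)
  exact h1 (Subgroup.commutator_mem_commutator ha hb)

/-- The centre of `Q` is `Z`. -/
theorem centre {q : G} (hq : q ∈ Q) (hc : ∀ x ∈ Q, q * x = x * q) : q ∈ Z := by
  have h1 : q ∈ V := D.cUY q (D.QU hq) fun y hy => (hc y (D.YQ hy)).symm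
  rw [D.memZ]
  refine ⟨h1, fun u hu => ?_⟩
  obtain ⟨x, hx, v, hv, rfl⟩ := D.exists_qv hu
  rw [← mul_assoc, hc x hx, mul_assoc, D.commV q h1 v hv, mul_assoc]

end Basic

end Data

end Cfsg.Agent.RankTwoClose.UFour
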