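import Mathlib
import Cfsg.Agent.RankTwoClose.UFour.Structure

/-!
Type `U4(q)`: `O_2(C_G(z)) = Q` for `z ∈ Z#`.
-/

set_option autoImplicit false
set_option linter.unusedSectionVars false

namespace Cfsg.Agent.RankTwoClose.UFour

variable {G : Type*} [Group G]

/-- A `2`-group normalised by `A0` centralises every `A0`-irreducible section. -/
theorem trivial_of_irr [Finite G] {S R A X W : Subgroup G} (hS : IsPGroup 2 S) (hWS : W ≤ S)
    (hXW : X ≤ W) (hSX : S ≤ Subgroup.normalizer (X : Set G))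
    (hSW : S ≤ Subgroup.normalizer (W : Set G)) (hne : ¬ W ≤ X) (hRS : R ≤ S)
    (hAR : A ≤ Subgroup.normalizer (R : Set G)) (hAX : A ≤ Subgroup.normalizer (X : Set G))
    (hAW : A ≤ Subgroup.normalizer (W : Set G))
    (irr : ∀ T : Subgroup G, X ≤ T → T ≤ W → A ≤ Subgroup.normalizer (T : Set G) → T = X ∨ T = W) :
    ∀ r ∈ R, ∀ w ∈ W, r * w * r⁻¹ * w⁻¹ ∈ X := by
  let T : Subgroup G :=
    { carrier := {w | w ∈ W ∧ ∀ r ∈ R, r * w * r⁻¹ * w⁻¹ ∈ X}
      one_mem' := ⟨one_mem _, fun r _ => by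
        rw [show r * 1 * r⁻¹ * 1⁻¹ = 1 by group]; exact one_mem _⟩
      mul_mem' := by
        rintro a b ⟨ha, ha2⟩ ⟨hb, hb2⟩
        refine ⟨mul_mem ha hb, fun r hr => ?_⟩
        have e : r * (a * b) * r⁻¹ * (a * b)⁻¹ =
          (r * a * r⁻¹ * a⁻¹) * (a * (r * b * r⁻¹ * b⁻¹) * a⁻¹) := by group
        rw [e]
        exact mul_mem (ha2 r hr) (conj_mem (hSX (hWS ha)) (hb2 r hr))
      inv_mem' := by
        rintro a ⟨ha, ha2⟩
        refine ⟨inv_mem ha, fun r hr => ?_⟩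
        have h1 := inv_mem (ha2 r hr)
        have h2 := conj_mem' (hSX (hWS ha)) h1
        rwa [show a⁻¹ * (r * a * r⁻¹ * a⁻¹)⁻¹ * a = r * a⁻¹ * r⁻¹ * a⁻¹⁻¹ by group] at h2 }
  have hT : ∀ {w}, w ∈ T ↔ w ∈ W ∧ ∀ r ∈ R, r * w * r⁻¹ * w⁻¹ ∈ X := fun {w} => Iff.rfl
  have hAT : A ≤ Subgroup.normalizer (T : Set G) := by
    refine le_normalizer_of fun a ha x hx => ?_
    rw [mem_cj] at hx
    obtain ⟨hx1, hx2⟩ := hT.mp hx
    refine hT.mpr ⟨?_, fun r hr => ?_⟩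
    · have := conj_mem (hAW ha) hx1
      rwa [show a * (a⁻¹ * x * a) * a⁻¹ = x by group] at this
    · have h1 := hx2 _ (conj_mem' (hAR ha) hr)
      have h2 := conj_mem (hAX ha) h1
      rwa [show a * (a⁻¹ * r * a * (a⁻¹ * x * a) * (a⁻¹ * r * a)⁻¹ * (a⁻¹ * x * a)⁻¹) * a⁻¹ =
        r * x * r⁻¹ * x⁻¹ by group] at h2
  rcases irr T (fun x hx => hT.mpr ⟨hXW hx, fun r hr =>
      mul_mem (conj_mem (hSX (hRS hr)) hx) (inv_mem hx)⟩) (fun x hx => (hT.mp hx).1) hAT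
    with h | h
  · exfalso
    obtain ⟨u, hu, huX, hc⟩ := exists_central_mod hS hWS (hXW.trans hWS) hSX hSW hne
    apply huX
    rw [← h]
    exact hT.mpr ⟨hu, fun r hr => hc r (hRS hr)⟩
  · intro r hr w hw
    rw [← h] at hw
    exact (hT.mp hw).2 r hr

namespace Data

variable {S V U Z Y L1 L2 Q H A0 : Subgroup G} {n1 n2 : G}

section Control

variable (D : Data S V U Z Y L1 L2 Q H A0 n1 n2)
include D

theorem UnV : ¬ U ≤ V := fun h => by
  have h1 : Q ≤ V := D.QU.trans h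
  have h2 := D.VQ_inf
  rw [inf_eq_right.mpr h1] at h2
  exact D.Q_ne_Y h2

theorem cj_n1_U_ne : cj n1 U ≠ U := fun h => by
  have := D.P1.inter
  rw [h, inf_idem] at this
  exact D.UnV this

theorem cj_n2_U_ne : cj n2 U ≠ U := fun h => by
  have := D.P2.inter
  rw [h, inf_idem] at this
  exact D.U_ne_Q (le_antisymm this D.QU)

variable [Finite G]

/-- An element of `S` centralising `U/V`, `Y/Z`, `V/Y` and `Z` lies in `U`. -/
theorem mem_U_of {r : G} (hr : r ∈ S) (hU : ∀ u ∈ U, r * u * r⁻¹ * u⁻¹ ∈ V)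
    (hZ : ∀ z ∈ Z, r * z = z * r) : r ∈ U := by
  have hrU : cj r U = U := mem_norm_iff.mp (D.SU hr)
  have h0 : cj r (cj n1 U) = cj (r * n1 * r⁻¹) U := by
    rw [cj_mul (r * n1) r⁻¹, mem_norm_iff.mp (D.SU (inv_mem hr)), cj_mul]
  have hL : r * n1 * r⁻¹ ∈ L1 := conj_mem (D.SL1 hr) D.P1.nL
  rcases D.P1.trans _ hL with h1 | ⟨u, hu, h1⟩
  · exfalso
    rw [← h0] at h1
    have h2 := congrArg (cj r⁻¹) h1
    rw [cj_inv_cj, mem_norm_iff.mp (D.SU (inv_mem hr))] at h2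
    exact D.cj_n1_U_ne h2
  · rw [← h0, cj_mul u] at h1
    set r' := u⁻¹ * r with hr'
    have hr'S : r' ∈ S := mul_mem (inv_mem (D.US hu)) hr
    have h2 : cj r' (cj n1 U) = cj n1 U := by
      rw [hr', cj_mul, h1, cj_inv_cj]
    have h3 : ∀ x ∈ U, r' * x * r'⁻¹ * x⁻¹ ∈ V := by
      intro x hx
      have e : r' * x * r'⁻¹ * x⁻¹ =
        (u⁻¹ * (r * x * r⁻¹ * x⁻¹) * u) * (u⁻¹ * x * u * x⁻¹) := by
        rw [hr']; group
      rw [e]
      refine mul_mem (conj_mem' (D.UV hu) (hU x hx)) ?_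
      have := D.P1.ab u⁻¹ (inv_mem hu) x hx
      rwa [inv_inv] at this
    have h4 := D.P1.comm_of (D.SL1 hr'S) (D.SU hr'S) h2 h3
    have h5 : ∀ z ∈ Z, r' * z = z * r' := by
      intro z hz
      rw [hr', mul_assoc, hZ z hz, ← mul_assoc, ← mul_assoc, ← D.zu hz (inv_mem hu)]
    -- `C_V(r')`
    let C : Subgroup G :=
      { carrier := {v | v ∈ V ∧ r' * v = v * r'}
        one_mem' := ⟨one_mem _, by rw [mul_one, one_mul]⟩
        mul_mem' := by
          rintro a b ⟨ha, ha1⟩ ⟨hb, hb1⟩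
          exact ⟨mul_mem ha hb, by rw [← mul_assoc, ha1, mul_assoc, hb1, mul_assoc]⟩
        inv_mem' := by
          rintro a ⟨ha, ha1⟩
          refine ⟨inv_mem ha, ?_⟩
          calc r' * a⁻¹ = a⁻¹ * (a * r') * a⁻¹ := by group
            _ = a⁻¹ * (r' * a) * a⁻¹ := by rw [ha1]
            _ = a⁻¹ * r' := by group }
    have hC : ∀ {v}, v ∈ C ↔ v ∈ V ∧ r' * v = v * r' := fun {v} => Iff.rfl
    have hLC : L1 ≤ Subgroup.normalizer (C : Set G) := by
      refine le_normalizer_of fun g hg x hx => ?_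
      rw [mem_cj] at hx
      obtain ⟨hx1, hx2⟩ := hC.mp hx
      have hxV : x ∈ V := by
        have := conj_mem (D.P1.norm hg) hx1
        rwa [show g * (g⁻¹ * x * g) * g⁻¹ = x by group] at this
      refine hC.mpr ⟨hxV, ?_⟩
      have hw := h4 g hg
      set w := r' * g * r'⁻¹ * g⁻¹ with hwdef
      have e1 : r' * g = w * g * r' := by rw [hwdef]; group
      have e2 : r' * x * r'⁻¹ = x := by
        calc r' * x * r'⁻¹ = (r' * g) * (g⁻¹ * x * g) * (r' * g)⁻¹ := by group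
          _ = w * g * (r' * (g⁻¹ * x * g)) * r'⁻¹ * g⁻¹ * w⁻¹ := by rw [e1]; group
          _ = w * g * ((g⁻¹ * x * g) * r') * r'⁻¹ * g⁻¹ * w⁻¹ := by rw [hx2]
          _ = w * x * w⁻¹ := by group
          _ = x := by rw [D.commV w hw x hxV]; group
      calc r' * x = (r' * x * r'⁻¹) * r' := by group
        _ = x * r' := by rw [e2]
    have h6 : V ≤ C := D.Vgen C (fun x hx => (hC.mp hx).1) (fun z hz => hC.mpr ⟨D.ZV hz, h5 z hz⟩) hLC
    have h7 : r' ∈ V := D.cSV r' hr'S fun v hv => (hC.mp (h6 hv)).2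
    have h8 : r = u * r' := by rw [hr']; group
    rw [h8]
    exact mul_mem hu (D.VU h7)

/-- `O_2(C_G(z0)) = Q`. -/
theorem core_eq {z0 : G} (hz0 : z0 ∈ Z) {R : Subgroup G} (hRS : R ≤ S)
    (hR : ∀ x, x * z0 = z0 * x → x ∈ Subgroup.normalizer (R : Set G))
    (hc : ∀ s ∈ S, (∀ r ∈ R, s * r = r * s) → s ∈ R) : R = Q := by
  have hAR : A0 ≤ Subgroup.normalizer (R : Set G) := fun a ha => hR a (D.AZ a ha z0 hz0)
  have h1 := trivial_of_irr (R := R) D.twoS D.US D.VU D.SV D.SU D.UnV hRS hAR (D.AH.trans D.HV)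
    (D.AH.trans D.HU) D.irrU
  have h2 := trivial_of_irr (R := R) D.twoS (D.YleU.trans D.US) D.ZY D.SZ D.SY
    (fun h => D.Y_ne_Z (le_antisymm h D.ZY)) hRS hAR (D.AH.trans D.HZ)
    (D.AH.trans D.HY) D.irrY
  -- `R` centralises `Z`
  have h3 : ∀ r ∈ R, ∀ z ∈ Z, r * z = z * r := by
    intro r hr z hz
    have h4 : ⁅Y, U⁆ ≤ Subgroup.centralizer {r} := by
      rw [Subgroup.commutator_le]
      intro y hy u hu
      rw [Subgroup.mem_centralizer_singleton_iff]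
      have hz1 := h2 r hr y hy
      have hv1 := h1 r hr u hu
      set z1 := r * y * r⁻¹ * y⁻¹ with hz1def
      set v1 := r * u * r⁻¹ * u⁻¹ with hv1def
      have e1 : r * y * r⁻¹ = z1 * y := by rw [hz1def]; group
      have e2 : r * u * r⁻¹ = v1 * u := by rw [hv1def]; group
      have hyu : y * u * y⁻¹ * u⁻¹ ∈ Z := D.YU y hy u hu
      show y * u * y⁻¹ * u⁻¹ * r = r * (y * u * y⁻¹ * u⁻¹)
      have e3 : r * (y * u * y⁻¹ * u⁻¹) * r⁻¹ = y * u * y⁻¹ * u⁻¹ := by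
        have hvu : v1 * u ∈ U := mul_mem (D.VU hv1) hu
        calc r * (y * u * y⁻¹ * u⁻¹) * r⁻¹
            = (r * y * r⁻¹) * (r * u * r⁻¹) * (r * y * r⁻¹)⁻¹ * (r * u * r⁻¹)⁻¹ := by group
          _ = z1 * y * (v1 * u) * (z1 * y)⁻¹ * (v1 * u)⁻¹ := by rw [e1, e2]
          _ = (z1 * (y * (v1 * u) * y⁻¹)) * z1⁻¹ * (v1 * u)⁻¹ := by group
          _ = ((y * (v1 * u) * y⁻¹) * z1) * z1⁻¹ * (v1 * u)⁻¹ := by
              rw [D.zu hz1 (mul_mem (mul_mem (D.YleU hy) hvu) (inv_mem (D.YleU hy)))]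
          _ = (y * v1) * u * y⁻¹ * u⁻¹ * v1⁻¹ := by group
          _ = (v1 * y) * u * y⁻¹ * u⁻¹ * v1⁻¹ := by rw [D.commV y (D.YV hy) v1 hv1]
          _ = v1 * (y * u * y⁻¹ * u⁻¹) * v1⁻¹ := by group
          _ = (y * u * y⁻¹ * u⁻¹) * v1 * v1⁻¹ := by rw [D.zu hyu (D.VU hv1)]
          _ = y * u * y⁻¹ * u⁻¹ := by group
      calc y * u * y⁻¹ * u⁻¹ * r = (r * (y * u * y⁻¹ * u⁻¹) * r⁻¹) * r := by rw [e3]
        _ = r * (y * u * y⁻¹ * u⁻¹) := by group
    exact (Subgroup.mem_centralizer_singleton_iff.mp (h4 (D.Zle hz))).symm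
  have h4 : R ≤ U := fun r hr => D.mem_U_of (hRS hr) (h1 r hr) (h3 r hr)
  have hRL : L2 ≤ Subgroup.normalizer (R : Set G) := fun x hx =>
    hR x (D.ZL2 z0 hz0 x hx).symm
  have h5 : R ≤ Q := D.Qmax R (D.twoS.to_le hRS) (h4.trans D.UL2) hRL
  have h6 : Z ≤ R := fun z hz => hc z (D.US (D.ZleU hz)) fun r hr => D.zu hz (h4 hr)
  rcases D.irrY (R ⊓ Y) (le_inf h6 D.ZY) inf_le_right
    (fun x hx => norm_inf (hAR hx) (D.HY (D.AH hx))) with h | h
  · exfalso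
    have h7 : R ≤ Z := by
      intro r hr
      have h8 : r ∈ V := D.cUVZ r (h4 hr) fun v hv => by
        rw [← h]
        refine ⟨?_, D.vuY hv (h4 hr)⟩
        show v * r * v⁻¹ * r⁻¹ ∈ R
        exact mul_mem (conj_mem (hRL (D.UL2 (D.VU hv))) hr) (inv_mem hr)
      have h9 : r ∈ Y := by rw [← D.VQ_inf]; exact ⟨h8, h5 hr⟩
      rw [← h]; exact ⟨hr, h9⟩
    have h10 : Y ≤ Z := by
      intro y hy
      refine h7 (hc y (D.US (D.YleU hy)) fun r hr => ?_)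
      exact (D.zu (h7 hr) (D.YleU hy)).symm
    exact D.Y_ne_Z (le_antisymm h10 D.ZY)
  · refine le_antisymm h5 ?_
    have h8 : Y ≤ R := by rw [← h]; exact inf_le_left
    have h9 : cj n2 Y ≤ R := by
      have := cj_mono (g := n2) h8
      rwa [mem_norm_iff.mp (hRL D.P2.nL)] at this
    rw [← D.YY'_sup]
    exact sup_le h8 h9

/-- The control of `C_G(z)`. -/
structure Core (Q : Subgroup G) (z : G) : Prop where
  norm : ∀ x, x * z = z * x → x ∈ Subgroup.normalizer (Q : Set G)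
  self : ∀ x, x * z = z * x → (∀ q ∈ Q, x * q = q * x) → x ∈ Q
  max : ∀ R : Subgroup G, IsPGroup 2 R → (∀ r ∈ R, r * z = z * r) →
    (∀ x, x * z = z * x → x ∈ Subgroup.normalizer (R : Set G)) → R ≤ Q

theorem core_of {z0 : G} (hz0 : z0 ∈ Z) (hS : ∀ P : Subgroup G, IsPGroup 2 P → S ≤ P → P ≤ S)
    (hSz : ∀ s ∈ S, s * z0 = z0 * s)
    (hR : ∃ R : Subgroup G, IsPGroup 2 R ∧ Core R z0) :
    Core Q z0 := by
  obtain ⟨R, hR2, hR⟩ := hR
  have hRS : R ≤ S := by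
    have h1 : IsPGroup 2 (S ⊔ R : Subgroup G) := by
      have hn : S ≤ Subgroup.normalizer (R : Set G) := fun s hs => hR.norm s (hSz s hs)
      exact IsPGroup.to_sup_of_normal_right' D.twoS hR2 hn
    exact le_trans le_sup_right (hS _ h1 le_sup_left)
  have h1 : R = Q := D.core_eq hz0 hRS hR.norm fun s hs h => hR.self s (hSz s hs) h
  rw [← h1]; exact hR

theorem core_all {z0 : G} (hz0 : z0 ∈ Z) (hz1 : z0 ≠ 1) (hC : Core Q z0) {z : G} (hz : z ∈ Z)
    (hzz : z ≠ 1) : Core Q z := by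
  obtain ⟨h, hh, rfl⟩ := D.transZ z0 hz0 z hz hz1 hzz
  have hQ := D.HQ hh
  have key : ∀ x, x * (h * z0 * h⁻¹) = h * z0 * h⁻¹ * x → (h⁻¹ * x * h) * z0 = z0 * (h⁻¹ * x * h) := by
    intro x hx
    calc (h⁻¹ * x * h) * z0 = h⁻¹ * (x * (h * z0 * h⁻¹)) * h := by group
      _ = h⁻¹ * (h * z0 * h⁻¹ * x) * h := by rw [hx]
      _ = z0 * (h⁻¹ * x * h) := by group
  refine ⟨fun x hx => ?_, fun x hx hq => ?_, fun R hR hRz hRn => ?_⟩
  · have h1 := norm_cj (g := h) (hC.norm _ (key x hx))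
    rwa [mem_norm_iff.mp hQ] at h1
  · have h1 := hC.self _ (key x hx) fun q hq' => by
      have := hq _ (conj_mem hQ hq')
      calc h⁻¹ * x * h * q = h⁻¹ * (x * (h * q * h⁻¹)) * h := by group
        _ = h⁻¹ * (h * q * h⁻¹ * x) * h := by rw [this]
        _ = q * (h⁻¹ * x * h) := by group
    have h2 := conj_mem hQ h1
    rwa [show h * (h⁻¹ * x * h) * h⁻¹ = x by group] at h2
  · have h1 : cj h⁻¹ R ≤ Q := by
      refine hC.max _ (isPGroup_cj hR) (fun r hr => ?_) fun x hx => ?_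
      · rw [mem_cj, inv_inv] at hr
        have := key _ (hRz _ hr)
        rwa [show h⁻¹ * (h * r * h⁻¹) * h = r by group] at this
      · refine norm_cj ?_
        refine hRn _ ?_
        rw [inv_inv]
        calc h * x * h⁻¹ * (h * z0 * h⁻¹) = h * (x * z0) * h⁻¹ := by group
          _ = h * (z0 * x) * h⁻¹ := by rw [hx]
          _ = h * z0 * h⁻¹ * (h * x * h⁻¹) := by group
    have h2 := cj_mono (g := h) h1
    rwa [cj_cj_inv, mem_norm_iff.mp hQ] at h2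

end Control

end Data

end Cfsg.Agent.RankTwoClose.UFour
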