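import Mathlib
import Cfsg.Agent.RankTwoClose.UFour.Torus
import Cfsg.Agent.Omega.RootLemma

/-!
Type `U4(q)`: the root pair `E ≤ L` with respect to the torus `A`.
-/

set_option autoImplicit false
set_option linter.unusedSectionVars false

universe u

namespace Cfsg.Agent.RankTwoClose.UFour

open Cfsg.Agent.Omega.RootLemma

variable {G : Type u} [Group G]

namespace Data

variable {S V U Z Y L1 L2 Q H A0 : Subgroup G} {n1 n2 : G}

section Root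

variable (D : Data S V U Z Y L1 L2 Q H A0 n1 n2)
include D

theorem n1V : n1 ∈ Subgroup.normalizer (V : Set G) := D.P1.norm D.P1.nL

theorem A'H : A0 ⊔ (H ⊓ L2) ≤ H := sup_le D.AH inf_le_left

theorem A'Z {a z : G} (ha : a ∈ A0 ⊔ (H ⊓ L2)) (hz : z ∈ Z) : a * z = z * a := by
  have h1 : A0 ⊔ (H ⊓ L2) ≤ Subgroup.centralizer {z} := by
    refine sup_le (fun a ha => ?_) (fun a ha => ?_)
    · exact Subgroup.mem_centralizer_singleton_iff.mpr (D.AZ a ha z hz)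
    · exact Subgroup.mem_centralizer_singleton_iff.mpr (D.ZL2 z hz a (Subgroup.mem_inf.mp ha).2).symm
  exact Subgroup.mem_centralizer_singleton_iff.mp (h1 ha)

theorem H2n : H ≤ Subgroup.normalizer ((H ⊓ L2 : Subgroup G) : Set G) := fun _ hx =>
  norm_inf (Subgroup.le_normalizer hx) (D.HL2 hx)

theorem n2H2 : n2 ∈ Subgroup.normalizer ((H ⊓ L2 : Subgroup G) : Set G) :=
  norm_inf (mem_norm_iff.mpr D.n2H) (Subgroup.le_normalizer D.P2.nL)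

theorem n2A0 : n2 ∈ Subgroup.normalizer (A0 : Set G) := by
  rw [Subgroup.mem_normalizer_iff]
  intro a
  constructor
  · intro ha
    rw [← D.n2A ha]; simpa using ha
  · intro ha
    have h1 := D.n2A ha
    have h2 : a = n2 * a * n2⁻¹ := by
      calc a = n2⁻¹ * ((n2 * a * n2⁻¹) * n2) := by group
        _ = n2⁻¹ * (n2 * (n2 * a * n2⁻¹)) := by rw [h1]
        _ = n2 * a * n2⁻¹ := by group
    rw [h2]; exact ha

theorem n2A' : cj n2 (A0 ⊔ (H ⊓ L2)) = A0 ⊔ (H ⊓ L2) := by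
  rw [cj_sup, mem_norm_iff.mp D.n2A0, mem_norm_iff.mp D.n2H2]

/-- `H` normalises `A0 H2`. -/
theorem HA' : H ≤ Subgroup.normalizer ((A0 ⊔ (H ⊓ L2) : Subgroup G) : Set G) := fun _ hx =>
  norm_sup (D.HA hx) (D.H2n hx)

theorem AH1 : cj n1 (A0 ⊔ (H ⊓ L2)) ≤ H := by
  have := cj_mono (g := n1) D.A'H
  rwa [D.n1H] at this

theorem AE_comm {a e : G} (ha : a ∈ cj n1 (A0 ⊔ (H ⊓ L2))) (he : e ∈ cj n1 Z) : a * e = e * a := by
  rw [mem_cj] at ha he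
  have h1 := D.A'Z ha he
  calc a * e = n1 * ((n1⁻¹ * a * n1) * (n1⁻¹ * e * n1)) * n1⁻¹ := by group
    _ = n1 * ((n1⁻¹ * e * n1) * (n1⁻¹ * a * n1)) * n1⁻¹ := by rw [h1]
    _ = e * a := by group

theorem A0A : A0 ≤ cj n1 (A0 ⊔ (H ⊓ L2)) := by
  rw [cj_sup, D.n1A]
  exact le_sup_left

theorem EU : cj n1 Z ≤ U := D.EV.trans D.VU

theorem EY_sup : Y ⊔ cj n1 Z = V := le_antisymm (sup_le D.YV D.EV) D.Vdec

theorem QE_sup : Q ⊔ cj n1 Z = U := by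
  refine le_antisymm (sup_le D.QU D.EU) ?_
  rw [← D.QV_sup]
  refine sup_le le_sup_left ?_
  rw [← D.EY_sup]
  exact sup_le (D.YQ.trans le_sup_left) le_sup_right

theorem EnQ : ¬ cj n1 Z ≤ Q := fun h => by
  have h1 : cj n1 Z ≤ Y := by rw [← D.VQ_inf]; exact le_inf D.EV h
  have h2 := D.Edis
  rw [inf_eq_right.mpr h1] at h2
  exact D.E_ne h2

/-- `E ∩ Q = 1`. -/
theorem EQ {e : G} (he : e ∈ cj n1 Z) (hq : e ∈ Q) : e = 1 := by
  have h1 : e ∈ Y ⊓ cj n1 Z := ⟨by rw [← D.VQ_inf]; exact ⟨D.EV he, hq⟩, he⟩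
  rw [D.Edis] at h1
  exact Subgroup.mem_bot.mp h1

/-- `A` centralises `L2/Q`. -/
theorem AcL2Q {a x : G} (ha : a ∈ cj n1 (A0 ⊔ (H ⊓ L2))) (hx : x ∈ L2) :
    a * x * a⁻¹ * x⁻¹ ∈ Q := by
  have haH := D.AH1 ha
  refine D.P2.comm_of (D.HL2 haH) (D.HU haH) ?_ (fun u hu => ?_) x hx
  · rw [← cj_mul, show a * n2 = n2 * (n2⁻¹ * a * n2) by group, cj_mul]
    have h1 : n2⁻¹ * a * n2 ∈ H := conj_mem' (mem_norm_iff.mpr D.n2H) haH
    rw [mem_norm_iff.mp (D.HU h1)]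
  · rw [← D.QE_sup, sup_comm] at hu
    obtain ⟨e, he, q, hq, rfl⟩ := mem_sup_norm (D.EU.trans (D.UL2.trans D.P2.norm)) hu
    have h1 := D.AE_comm ha he
    have e1 : a * (e * q) * a⁻¹ * (e * q)⁻¹ =
        (a * e) * a⁻¹ * e⁻¹ * (e * ((a * q * a⁻¹) * q⁻¹) * e⁻¹) := by group
    rw [e1, h1, show e * a * a⁻¹ * e⁻¹ = 1 by group, one_mul]
    exact conj_mem (D.P2.norm (D.UL2 (D.EU he))) (mul_mem (conj_mem (D.HQ haH) hq) (inv_mem hq))

/-- `n2` centralises `A`. -/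
theorem n2Ac {a : G} (ha : a ∈ cj n1 (A0 ⊔ (H ⊓ L2))) : a * n2 = n2 * a := by
  have haH := D.AH1 ha
  have h1 := D.AcL2Q ha D.P2.nL
  have h2 : a * n2 * a⁻¹ * n2⁻¹ ∈ H := by
    rw [show a * n2 * a⁻¹ * n2⁻¹ = a * (n2 * a⁻¹ * n2⁻¹) by group]
    exact mul_mem haH (conj_mem (mem_norm_iff.mpr D.n2H) (inv_mem haH))
  have h3 := D.hQ1 h2 h1
  calc a * n2 = (a * n2 * a⁻¹ * n2⁻¹) * (n2 * a) := by group
    _ = n2 * a := by rw [h3, one_mul]

theorem cj_n1_Z' : cj n1 (cj n1 Z) = Z := by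
  rw [← cj_mul, mem_norm_iff.mp (D.HZ D.n1n1)]

variable [Finite G]

/-- `C_Q(A) = 1`. -/
theorem cQA' {q : G} (hq : q ∈ Q) (hA : ∀ a ∈ cj n1 (A0 ⊔ (H ⊓ L2)), q * a = a * q) : q = 1 := by
  have h1 : q ∈ Z := D.cQA hq fun a ha => hA a (D.A0A ha)
  -- `e = n1 q n1⁻¹` commutes with `H2`
  have he : n1 * q * n1⁻¹ ∈ cj n1 Z := conj_mem_cj h1
  have h2 : ∀ h ∈ H ⊓ L2, h * (n1 * q * n1⁻¹) = (n1 * q * n1⁻¹) * h := by
    intro h hh
    -- `n1⁻¹ h n1 = n1 (n1 n1)⁻¹ h (n1 n1) n1⁻¹`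
    have h3 : (n1 * n1)⁻¹ * h * (n1 * n1) ∈ H ⊓ L2 := conj_mem' (D.H2n D.n1n1) hh
    have h4 : n1⁻¹ * h * n1 ∈ cj n1 (A0 ⊔ (H ⊓ L2)) := by
      have := conj_mem_cj (g := n1) (Subgroup.mem_sup_right (S := A0) h3)
      rwa [show n1 * ((n1 * n1)⁻¹ * h * (n1 * n1)) * n1⁻¹ = n1⁻¹ * h * n1 by group] at this
    have h5 := hA _ h4
    calc h * (n1 * q * n1⁻¹) = n1 * ((n1⁻¹ * h * n1) * q) * n1⁻¹ := by group
      _ = n1 * (q * (n1⁻¹ * h * n1)) * n1⁻¹ := by rw [h5]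
      _ = (n1 * q * n1⁻¹) * h := by group
  have h3 : n1 * q * n1⁻¹ ∈ Q := D.fix2 _ (D.EU he) fun h hh => by
    rw [h2 h hh, show n1 * q * n1⁻¹ * h * h⁻¹ * (n1 * q * n1⁻¹)⁻¹ = 1 by group]
    exact one_mem _
  have h4 := D.EQ he h3
  calc q = n1⁻¹ * (n1 * q * n1⁻¹) * n1 := by group
    _ = 1 := by rw [h4]; group

/-- The centralizer of `A`, in `L2`. -/
theorem L_comm {x a : G} (hx : x ∈ cj n1 Z ⊔ cj n2 (cj n1 Z))
    (ha : a ∈ cj n1 (A0 ⊔ (H ⊓ L2))) : x * a = a * x := by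
  have h1 : cj n1 Z ⊔ cj n2 (cj n1 Z) ≤ Subgroup.centralizer {a} := by
    refine sup_le (fun e he => ?_) (fun e he => ?_)
    · exact Subgroup.mem_centralizer_singleton_iff.mpr (D.AE_comm ha he).symm
    · rw [mem_cj] at he
      have h1 := D.AE_comm ha he
      have h2 := D.n2Ac ha
      rw [Subgroup.mem_centralizer_singleton_iff]
      have h3 : n2⁻¹ * a = a * n2⁻¹ := by
        calc n2⁻¹ * a = n2⁻¹ * (a * n2) * n2⁻¹ := by group
          _ = n2⁻¹ * (n2 * a) * n2⁻¹ := by rw [h2]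
          _ = a * n2⁻¹ := by group
      calc e * a = n2 * (n2⁻¹ * e * n2) * (n2⁻¹ * a) := by group
        _ = n2 * ((n2⁻¹ * e * n2) * a) * n2⁻¹ := by rw [h3]; group
        _ = (n2 * a) * (n2⁻¹ * e * n2) * n2⁻¹ := by rw [← h1]; group
        _ = a * e := by rw [← h2]; group
  exact Subgroup.mem_centralizer_singleton_iff.mp (h1 hx)

theorem LL2 : cj n1 Z ⊔ cj n2 (cj n1 Z) ≤ L2 := by
  refine sup_le (D.EU.trans D.UL2) ?_
  have := cj_mono (g := n2) (D.EU.trans D.UL2)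
  rwa [cj_eq_of_mem D.P2.nL] at this

theorem L2_eq : (cj n1 Z ⊔ cj n2 (cj n1 Z)) ⊔ Q = L2 := by
  refine le_antisymm (sup_le D.LL2 (D.QU.trans D.UL2)) ?_
  refine D.P2.gen.trans (sup_le ?_ ?_)
  · rw [← D.QE_sup]
    exact sup_le le_sup_right (le_sup_left.trans le_sup_left)
  · rw [← D.QE_sup, cj_sup, mem_norm_iff.mp D.n2Q]
    exact sup_le le_sup_right (le_sup_right.trans le_sup_left)

/-- `n2 ∈ L`. -/
theorem n2L : n2 ∈ cj n1 Z ⊔ cj n2 (cj n1 Z) := by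
  have h1 : n2 ∈ (cj n1 Z ⊔ cj n2 (cj n1 Z)) ⊔ Q := D.L2_eq ▸ D.P2.nL
  obtain ⟨l, hl, q, hq, he⟩ := mem_sup_norm (D.LL2.trans D.P2.norm) h1
  have h2 : q = 1 := by
    refine D.cQA' hq fun a ha => ?_
    have h3 := D.L_comm hl ha
    have h4 := D.n2Ac ha
    have h5 : q = l⁻¹ * n2 := by rw [he]; group
    have h6 : l⁻¹ * a = a * l⁻¹ := by
      calc l⁻¹ * a = l⁻¹ * (a * l) * l⁻¹ := by group
        _ = l⁻¹ * (l * a) * l⁻¹ := by rw [h3]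
        _ = a * l⁻¹ := by group
    calc q * a = l⁻¹ * (n2 * a) := by rw [h5]; group
      _ = (l⁻¹ * a) * n2 := by rw [← h4]; group
      _ = a * q := by rw [h6, h5]; group
  rw [h2, mul_one] at he
  have hl' : l = n2 := he.symm
  clear he
  rw [hl'] at hl
  exact hl

/-- 2-elements of `C_G(z) ∩ C_G(A0 H2)` for `z ∈ Z#` lie in `Z`. -/
theorem two_mem {z x : G} (hC : Core Q z) {P : Subgroup G} (hP : IsPGroup 2 P) (hx : x ∈ P)
    (hxz : x * z = z * x) (hxA : ∀ a ∈ A0 ⊔ (H ⊓ L2), x * a = a * x) : x ∈ Z := by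
  obtain ⟨k, hk⟩ := hP ⟨x, hx⟩
  have hk' : x ^ 2 ^ k = 1 := congrArg Subtype.val hk
  obtain ⟨h, hh, hh1⟩ := D.H2ne
  exact D.mem_Z hC hh hh1 hk' hxz (fun a ha => hxA a (Subgroup.mem_sup_left ha))
    (hxA h (Subgroup.mem_sup_right hh))

/-- `Z` is a Sylow `2`-subgroup of `C_G(A0 H2)`. -/
theorem syl (hC : ∀ z ∈ Z, z ≠ 1 → Core Q z) {P : Subgroup G} (hP : IsPGroup 2 P)
    (hPA : ∀ x ∈ P, ∀ a ∈ A0 ⊔ (H ⊓ L2), x * a = a * x) (hZP : Z ≤ P) : P ≤ Z := by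
  have : Fact (Nat.Prime 2) := ⟨Nat.prime_two⟩
  obtain ⟨z, hz, -, -, hz1, -, -⟩ := D.Zbig
  have : Nontrivial P := ⟨⟨⟨z, hZP hz⟩, 1, fun h => hz1 (congrArg Subtype.val h)⟩⟩
  have hc := hP.center_nontrivial
  obtain ⟨⟨c, hcP⟩, hcc, hc1⟩ := Subgroup.exists_ne_one_of_nontrivial (Subgroup.center P)
  have hcc' : ∀ x ∈ P, x * c = c * x := fun x hx =>
    congrArg Subtype.val (Subgroup.mem_center_iff.mp hcc ⟨x, hx⟩)
  have hc1' : c ≠ 1 := fun h => hc1 (Subtype.ext h)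
  have hcZ : c ∈ Z := D.two_mem (hC z hz hz1) hP hcP (hcc' z (hZP hz)).symm (hPA c hcP)
  intro x hx
  exact D.two_mem (hC c hcZ hc1') hP hx (hcc' x hx) (hPA x hx)

theorem normZ_of_core {z c : G} (hC : Core Q z) (hc : c * z = z * c) : ∀ v ∈ Z, c * v * c⁻¹ ∈ Z := by
  intro v hv
  have hg := hC.norm c hc
  refine D.centre (conj_mem hg (D.ZQ hv)) fun q hq => ?_
  have h2 := D.zu hv (D.QU (conj_mem' hg hq))
  calc c * v * c⁻¹ * q = c * (v * (c⁻¹ * q * c)) * c⁻¹ := by group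
    _ = c * ((c⁻¹ * q * c) * v) * c⁻¹ := by rw [h2]
    _ = q * (c * v * c⁻¹) := by group

theorem sq_E {e : G} (he : e ∈ cj n1 Z) : e * e = 1 := D.sqV e (D.EV he)

/-- The root pair. -/
theorem root (hC : ∀ z ∈ Z, z ≠ 1 → Core Q z) :
    Root (cj n1 (A0 ⊔ (H ⊓ L2))) (cj n1 Z) (cj n1 Z ⊔ cj n2 (cj n1 Z)) := by
  have htr : ∀ {c : G}, (∀ a ∈ cj n1 (A0 ⊔ (H ⊓ L2)), c * a = a * c) →
      ∀ a ∈ A0 ⊔ (H ⊓ L2), (n1⁻¹ * c * n1) * a = a * (n1⁻¹ * c * n1) := by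
    intro c hc a ha
    have h1 := hc _ (conj_mem_cj (g := n1) ha)
    calc (n1⁻¹ * c * n1) * a = n1⁻¹ * (c * (n1 * a * n1⁻¹)) * n1 := by group
      _ = n1⁻¹ * ((n1 * a * n1⁻¹) * c) * n1 := by rw [h1]
      _ = a * (n1⁻¹ * c * n1) := by group
  have hE2 : IsPGroup 2 (cj n1 Z) := isPGroup_cj (D.twoU.to_le D.ZleU)
  have hsyl : ∀ P : Subgroup G, IsPGroup 2 P →
      (∀ x ∈ P, ∀ a ∈ cj n1 (A0 ⊔ (H ⊓ L2)), x * a = a * x) → cj n1 Z ≤ P → P ≤ cj n1 Z := by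
    intro P hP hPA hEP
    have h1 : cj n1⁻¹ P ≤ Z := by
      refine D.syl hC (isPGroup_cj hP) (fun x hx => ?_) ?_
      · rw [mem_cj, inv_inv] at hx
        have h2 := htr (hPA _ hx)
        rwa [show n1⁻¹ * (n1 * x * n1⁻¹) * n1 = x by group] at h2
      · have := cj_mono (g := n1⁻¹) hEP
        rwa [cj_inv_cj] at this
    have := cj_mono (g := n1) h1
    rwa [cj_cj_inv] at this
  refine ⟨le_sup_left, fun k hk a ha => D.L_comm hk ha, hE2, hsyl, ?_, ?_, ?_, ?_, ?_⟩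
  · obtain ⟨a, ha, b, hb, ha1, hb1, hab⟩ := D.Zbig
    refine ⟨n1 * a * n1⁻¹, conj_mem_cj ha, n1 * b * n1⁻¹, conj_mem_cj hb,
      D.sq_E (conj_mem_cj ha), D.sq_E (conj_mem_cj hb), ?_, ?_, ?_⟩
    · intro h; exact ha1 (by
        calc a = n1⁻¹ * (n1 * a * n1⁻¹) * n1 := by group
          _ = 1 := by rw [h]; group)
    · intro h; exact hb1 (by
        calc b = n1⁻¹ * (n1 * b * n1⁻¹) * n1 := by group
          _ = 1 := by rw [h]; group)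
    · intro h; exact hab (by
        calc a = n1⁻¹ * (n1 * a * n1⁻¹) * n1 := by group
          _ = n1⁻¹ * (n1 * b * n1⁻¹) * n1 := by rw [h]
          _ = b := by group)
  · intro u hu _ v hv
    exact D.commV u (D.EV hu) v (D.EV hv)
  · intro u hu _ hu1 c hcu hcA v hv
    rw [mem_cj] at hu hv ⊢
    have hz1 : n1⁻¹ * u * n1 ≠ 1 := fun h => hu1 (by
      calc u = n1 * (n1⁻¹ * u * n1) * n1⁻¹ := by group
        _ = 1 := by rw [h]; group)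
    have h1 : (n1⁻¹ * c * n1) * (n1⁻¹ * u * n1) = (n1⁻¹ * u * n1) * (n1⁻¹ * c * n1) := by
      calc (n1⁻¹ * c * n1) * (n1⁻¹ * u * n1) = n1⁻¹ * (c * u) * n1 := by group
        _ = n1⁻¹ * (u * c) * n1 := by rw [hcu]
        _ = (n1⁻¹ * u * n1) * (n1⁻¹ * c * n1) := by group
    have h2 := D.normZ_of_core (hC _ hu hz1) h1 _ hv
    rwa [show n1⁻¹ * c * n1 * (n1⁻¹ * v * n1) * (n1⁻¹ * c * n1)⁻¹ =
      n1⁻¹ * (c * v * c⁻¹) * n1 by group] at h2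
  · -- some element moves `E`
    by_contra hcon
    push Not at hcon
    have h1 : cj n2 (cj n1 Z) ≤ Subgroup.normalizer ((cj n1 Z : Subgroup G) : Set G) := by
      refine le_normalizer_of fun x hx y hy => ?_
      rw [mem_cj] at hy
      have := hcon x (Subgroup.mem_sup_right hx) _ hy
      rwa [show x * (x⁻¹ * y * x) * x⁻¹ = y by group] at this
    have h2 : IsPGroup 2 (cj n2 (cj n1 Z) ⊔ cj n1 Z : Subgroup G) :=
      IsPGroup.to_sup_of_normal_right' (isPGroup_cj hE2) hE2 h1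
    have h3 := hsyl _ h2 (fun x hx a ha => D.L_comm (by rwa [sup_comm] at hx) ha) le_sup_right
    have h4 : cj n2 (cj n1 Z) ≤ cj n1 Z := le_sup_left.trans h3
    have h5 : cj n2 (cj n1 Z) ≤ Q := by
      refine le_trans (le_inf (h4.trans D.EU) (cj_mono D.EU)) D.P2.inter
    refine D.EnQ ?_
    have h6 := cj_mono (g := n2⁻¹) h5
    rwa [cj_inv_cj, mem_norm_iff.mp (inv_mem D.n2Q)] at h6
  · -- generation
    refine sup_le ?_ ?_
    · intro e he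
      exact Subgroup.subset_closure ⟨1, one_mem _, e, he, by group⟩
    · intro e he
      rw [mem_cj] at he
      exact Subgroup.subset_closure ⟨n2, D.n2L, _, he, by group⟩

end Root

end Data

end Cfsg.Agent.RankTwoClose.UFour
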