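import Mathlib
import Cfsg.Agent.RankTwoClose.UFour.Root
import Cfsg.Agent.RankTwoClose.Final

/-!
Type `U4(q)`: the frame, (PATH), the braid relation of length `4`, the split BN-pair.
-/

set_option autoImplicit false
set_option linter.unusedSectionVars false

universe u

namespace Cfsg.Agent.RankTwoClose.UFour

open Cfsg.Agent.Omega.RootLemma

variable {G : Type u} [Group G]

namespace Data

variable {S V U Z Y L1 L2 Q H A0 : Subgroup G} {n1 n2 : G}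

section Close

variable (D : Data S V U Z Y L1 L2 Q H A0 n1 n2)
include D

/-- Elements of the Borel subgroup. -/
theorem exists_uh {b : G} (hb : b ∈ U ⊔ H) : ∃ u ∈ U, ∃ h ∈ H, b = u * h := by
  rw [sup_comm] at hb
  obtain ⟨h, hh, u, hu, rfl⟩ := mem_sup_norm D.HU hb
  exact ⟨h * u * h⁻¹, conj_mem (D.HU hh) hu, h, hh, by group⟩

theorem normB_U {b : G} (hb : b ∈ U ⊔ H) : b ∈ Subgroup.normalizer (U : Set G) := by
  have : U ⊔ H ≤ Subgroup.normalizer (U : Set G) := sup_le Subgroup.le_normalizer D.HU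
  exact this hb

/-- `2`-elements of `B` lie in `U`. -/
theorem two_mem_U {P : Subgroup G} (hP : IsPGroup 2 P) {x : G} (hx : x ∈ P) (hB : x ∈ U ⊔ H) :
    x ∈ U := by
  obtain ⟨u, hu, h, hh, rfl⟩ := D.exists_uh hB
  -- `h` is a `2`-element modulo `U`
  obtain ⟨k, hk⟩ := hP ⟨u * h, hx⟩
  have hk' : (u * h) ^ 2 ^ k = 1 := congrArg Subtype.val hk
  have key : ∀ n : ℕ, ∃ v ∈ U, (u * h) ^ n = v * h ^ n := by
    intro n
    induction n with
    | zero => exact ⟨1, one_mem _, by simp⟩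
    | succ n ih =>
      obtain ⟨v, hv, e⟩ := ih
      refine ⟨v * (h ^ n * u * (h ^ n)⁻¹), mul_mem hv (conj_mem (D.HU (pow_mem hh n)) hu), ?_⟩
      rw [pow_succ, e, pow_succ]; group
  obtain ⟨v, hv, e⟩ := key (2 ^ k)
  rw [hk'] at e
  have h1 : h ^ 2 ^ k ∈ U := by
    have : h ^ 2 ^ k = v⁻¹ := (inv_eq_of_mul_eq_one_right e.symm).symm
    rw [this]; exact inv_mem hv
  have h2 : h ^ 2 ^ k = 1 := eq_one_of_odd_two D.odd D.twoU (pow_mem hh _) h1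
  have h3 : h = 1 := by
    obtain ⟨m, hm⟩ := D.odd
    have h4 : orderOf h ∣ 2 ^ k := orderOf_dvd_of_pow_eq_one h2
    have h5 : orderOf h ∣ Nat.card H := Subgroup.orderOf_dvd_natCard H hh
    have h6 : Nat.Coprime (2 ^ k) (Nat.card H) :=
      Nat.Coprime.pow_left k (Nat.coprime_two_left.mpr D.odd)
    exact orderOf_eq_one_iff.mp (Nat.eq_one_of_dvd_coprimes h6 h4 h5)
  rw [h3, mul_one]
  exact hu

theorem inter_B {n : G} {X : Subgroup G} (hX : U ⊓ cj n U ≤ X) {x : G}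
    (hx : x ∈ U) (hx' : n⁻¹ * x * n ∈ U ⊔ H) : x ∈ X := by
  refine hX ⟨hx, mem_cj.mpr ?_⟩
  exact D.two_mem_U (P := cj n⁻¹ U) (isPGroup_cj D.twoU)
    (by rw [mem_cj, inv_inv]; rwa [show n * (n⁻¹ * x * n) * n⁻¹ = x by group]) hx'

theorem n1_not : n1 ∉ U ⊔ H := fun h => D.cj_n1_U_ne (mem_norm_iff.mp (D.normB_U h))
theorem n2_not : n2 ∉ U ⊔ H := fun h => D.cj_n2_U_ne (mem_norm_iff.mp (D.normB_U h))

/-- Bruhat decomposition of a rank one parabolic. -/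
theorem memP_of {L X : Subgroup G} {n : G} (hR : RankOne L U X n) (hHL : H ≤ Subgroup.normalizer (L : Set G))
    (hb : ∀ g ∈ L, cj g U = U → g ∈ U ⊔ H) (x : G) :
    x ∈ L ⊔ H ↔ x ∈ U ⊔ H ∨ ∃ b ∈ U ⊔ H, ∃ c ∈ U ⊔ H, x = b * n * c := by
  constructor
  · intro hx
    rw [sup_comm] at hx
    obtain ⟨h, hh, g, hg, rfl⟩ := mem_sup_norm hHL hx
    rcases hR.trans g hg with h1 | ⟨u, hu, h1⟩
    · exact Or.inl (mul_mem (Subgroup.mem_sup_right hh) (hb g hg h1))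
    · right
      have h2 : cj ((u * n)⁻¹ * g) U = U := by rw [cj_mul, h1, cj_inv_cj]
      have h3 := hb _ (mul_mem (inv_mem (mul_mem (hR.UL hu) hR.nL)) hg) h2
      exact ⟨h * u, mul_mem (Subgroup.mem_sup_right hh) (Subgroup.mem_sup_left hu), _, h3, by group⟩
  · have hB : U ⊔ H ≤ L ⊔ H := sup_le_sup_right hR.UL H
    rintro (h | ⟨b, hb, c, hc, rfl⟩)
    · exact hB h
    · exact mul_mem (mul_mem (hB hb) (Subgroup.mem_sup_left hR.nL)) (hB hc)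

theorem two_of {L X : Subgroup G} {n : G} (hR : RankOne L U X n)
    (hnH : cj n H = H) (hmem : ∀ x, x ∈ L ⊔ H ↔ x ∈ U ⊔ H ∨ ∃ b ∈ U ⊔ H, ∃ c ∈ U ⊔ H, x = b * n * c)
    (hfix : ∀ u ∈ U, (∀ h ∈ H, h * u * h⁻¹ * u⁻¹ ∈ X) → u ∈ X) {g : G} (hg : g ∈ L ⊔ H)
    (hH : ∀ h ∈ H, g⁻¹ * h * g ∈ U ⊔ H) : g ∈ U ⊔ H ∨ n⁻¹ * g ∈ U ⊔ H := by
  rcases (hmem g).mp hg with h | ⟨b, hb, c, hc, rfl⟩
  · exact Or.inl h
  · right
    obtain ⟨u, hu, t, ht, rfl⟩ := D.exists_uh hb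
    have h1 : u ∈ X := by
      refine hfix u hu fun h hh => ?_
      -- `h u h⁻¹ u⁻¹ ∈ U ∩ n B n⁻¹`
      have hUh : h * u * h⁻¹ * u⁻¹ ∈ U := mul_mem (conj_mem (D.HU hh) hu) (inv_mem hu)
      refine D.inter_B hR.inter hUh ?_
      -- `(u t n c)⁻¹ h⁻¹ (u t n c) ∈ B`
      have h2 := hH h⁻¹ (inv_mem hh)
      have h3 : n⁻¹ * t⁻¹ * (u⁻¹ * h⁻¹ * u) * t * n ∈ U ⊔ H := by
        have := mul_mem (mul_mem hc h2) (inv_mem hc)
        rwa [show c * ((u * t * n * c)⁻¹ * h⁻¹ * (u * t * n * c)) * c⁻¹ =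
          n⁻¹ * t⁻¹ * (u⁻¹ * h⁻¹ * u) * t * n by group] at this
      have ht' : n⁻¹ * t * n ∈ H := conj_mem' (mem_norm_iff.mpr hnH) ht
      have hh' : n⁻¹ * h * n ∈ H := conj_mem' (mem_norm_iff.mpr hnH) hh
      have h4 := mul_mem (mul_mem (Subgroup.mem_sup_right (S := U) ht') h3)
        (inv_mem (Subgroup.mem_sup_right (S := U) ht'))
      rw [show n⁻¹ * t * n * (n⁻¹ * t⁻¹ * (u⁻¹ * h⁻¹ * u) * t * n) * (n⁻¹ * t * n)⁻¹ =
        n⁻¹ * (u⁻¹ * h⁻¹ * u) * n by group] at h4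
      -- so `n⁻¹ u n` version
      have h5 := mul_mem (Subgroup.mem_sup_right (S := U) hh') (h4)
      rw [show n⁻¹ * h * n * (n⁻¹ * (u⁻¹ * h⁻¹ * u) * n) = n⁻¹ * (h * u⁻¹ * h⁻¹ * u) * n by group] at h5
      -- `h u⁻¹ h⁻¹ u ∈ U ∩ nBn⁻¹ ≤ X`; conjugate
      have h6 : h * u⁻¹ * h⁻¹ * u ∈ X := by
        refine D.inter_B hR.inter ?_ h5
        exact mul_mem (conj_mem (D.HU hh) (inv_mem hu)) hu
      have h7 : h * u * h⁻¹ * u⁻¹ ∈ X := by
        have h8 := conj_mem (hR.norm (hR.UL hu)) (inv_mem h6)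
        have h9 := conj_mem (hR.norm (hR.UL hUh)) h8
        have e : u * (h * u⁻¹ * h⁻¹ * u)⁻¹ * u⁻¹ = h * u * h⁻¹ * u⁻¹ := by group
        rwa [e] at h8
      have h8 : n⁻¹ * (h * u * h⁻¹ * u⁻¹) * n ∈ U :=
        hR.QU (conj_mem' (hR.norm hR.nL) h7)
      exact Subgroup.mem_sup_left h8
    have h2 : n⁻¹ * u * n ∈ U := hR.QU (conj_mem' (hR.norm hR.nL) h1)
    have h3 : n⁻¹ * t * n ∈ H := conj_mem' (mem_norm_iff.mpr hnH) ht
    have h4 := mul_mem (mul_mem (Subgroup.mem_sup_left (T := H) h2) (Subgroup.mem_sup_right h3)) hc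
    rwa [show n⁻¹ * u * n * (n⁻¹ * t * n) * c = n⁻¹ * (u * t * n * c) by group] at h4

theorem fix1 : ∀ u ∈ U, (∀ h ∈ H, h * u * h⁻¹ * u⁻¹ ∈ V) → u ∈ V := D.fixU

theorem fix2' : ∀ u ∈ U, (∀ h ∈ H, h * u * h⁻¹ * u⁻¹ ∈ Q) → u ∈ Q := fun u hu h =>
  D.fix2 u hu fun x hx => h x (Subgroup.mem_inf.mp hx).1

/-- The frame of type `U4`. -/
def frame : Frame G where
  B := U ⊔ H
  H := H
  P i := if i then L2 ⊔ H else L1 ⊔ H
  n i := if i then n2 else n1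
  memP i x := by
    cases i
    · exact D.memP_of D.P1 D.HL1 D.borel1 x
    · exact D.memP_of D.P2 D.HL2 D.borel2 x
  inter := by
    have hB1 : U ⊔ H ≤ L1 ⊔ H := sup_le_sup_right D.UL1 H
    have hB2 : U ⊔ H ≤ L2 ⊔ H := sup_le_sup_right D.UL2 H
    refine le_antisymm ?_ (le_inf hB1 hB2)
    rintro x ⟨hx1, hx2⟩
    have h1 : x ∈ L1 ⊔ H := hx1
    have h2 : x ∈ L2 ⊔ H := hx2
    rcases (D.memP_of D.P1 D.HL1 D.borel1 x).mp h1 with h | ⟨b, hb, c, hc, rfl⟩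
    · exact h
    · exfalso
      -- `n1 ∈ L2 H` normalises `Q`
      have h3 : n1 ∈ L2 ⊔ H := by
        have := mul_mem (mul_mem (inv_mem (hB2 hb)) h2) (inv_mem (hB2 hc))
        rwa [show b⁻¹ * (b * n1 * c) * c⁻¹ = n1 by group] at this
      have h4 : n1 ∈ Subgroup.normalizer (Q : Set G) :=
        (sup_le D.P2.norm D.HQ) h3
      have h5 : cj n1 Y = Y := by
        rw [← D.VQ_inf, cj_inf, mem_norm_iff.mp D.n1V, mem_norm_iff.mp h4]
      have h6 : cj n1 Z ≤ Y := by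
        have := cj_mono (g := n1) D.ZY
        rwa [h5] at this
      have h7 := D.Edis
      rw [inf_eq_right.mpr h6] at h7
      exact D.E_ne h7
  H_le := le_sup_right
  n_norm i := by
    cases i
    · exact mem_norm_iff.mpr D.n1H
    · exact mem_norm_iff.mpr D.n2H
  n_not i := by
    cases i
    · exact D.n1_not
    · exact D.n2_not
  two i g hg h := by
    cases i
    · exact D.two_of D.P1 D.n1H (D.memP_of D.P1 D.HL1 D.borel1) D.fix1 hg h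
    · exact D.two_of D.P2 D.n2H (D.memP_of D.P2 D.HL2 D.borel2) D.fix2' hg h

@[simp] theorem frame_B : D.frame.B = U ⊔ H := rfl
@[simp] theorem frame_H : D.frame.H = H := rfl
@[simp] theorem frame_P0 : D.frame.P false = L1 ⊔ H := rfl
@[simp] theorem frame_P1 : D.frame.P true = L2 ⊔ H := rfl
@[simp] theorem frame_n0 : D.frame.n false = n1 := rfl
@[simp] theorem frame_n1 : D.frame.n true = n2 := rfl

/-- `W = Y ∩ Y^n1`. -/
theorem cj_n1_W : cj n1 (Y ⊓ cj n1 Y) = Y ⊓ cj n1 Y := by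
  rw [cj_inf, ← cj_mul, mem_norm_iff.mp (D.HY D.n1n1), inf_comm]

theorem HW : H ≤ Subgroup.normalizer ((Y ⊓ cj n1 Y : Subgroup G) : Set G) := fun h hh =>
  norm_inf (D.HY hh) (norm_cj (D.HY (conj_mem' (mem_norm_iff.mpr D.n1H) hh)))

theorem cj_n2_W : cj n2 (cj n2 (Y ⊓ cj n1 Y)) = Y ⊓ cj n1 Y := by
  rw [← cj_mul, mem_norm_iff.mp (D.HW D.n2n2)]

theorem WV_sup [Finite G] : cj n2 (Y ⊓ cj n1 Y) ⊔ V = U := by
  refine le_antisymm (sup_le (le_trans (cj_mono inf_le_left) D.Y'leU) D.VU) ?_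
  rw [← D.VY'_sup]
  refine sup_le le_sup_right ?_
  have h1 := cj_mono (g := n2) D.Ydec
  rw [cj_sup, D.cj_Z_of_L2 D.P2.nL] at h1
  exact h1.trans (sup_le (D.ZV.trans le_sup_right) le_sup_left)

variable [Finite G]

theorem WB : Y ⊓ cj n1 Y ≤ U ⊔ H := inf_le_left.trans (D.YleU.trans le_sup_left)
theorem W'B : cj n2 (Y ⊓ cj n1 Y) ≤ U ⊔ H :=
  le_trans (cj_mono inf_le_left) (D.Y'leU.trans le_sup_left)
theorem EB : cj n1 Z ≤ U ⊔ H := D.EU.trans le_sup_left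
theorem ZB : Z ≤ U ⊔ H := D.ZleU.trans le_sup_left

/-- (PATH). -/
theorem pathTo {k : ℕ} (hk : k < 4) : D.frame.PathTo k := by
  refine D.frame.pathTo_of_root
    (fun i => if i then (cj n1 Z : Set G) else (cj n2 (Y ⊓ cj n1 Y) : Set G)) ?_ ?_
  · intro i b hb
    obtain ⟨u, hu, h, hh, rfl⟩ := D.exists_uh hb
    cases i
    · rw [← D.WV_sup] at hu
      obtain ⟨x, hx, v, hv, rfl⟩ := mem_sup_norm
        ((le_trans (cj_mono inf_le_left) D.Y'leU).trans D.UV) hu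
      refine ⟨x, hx, v * h, mul_mem (Subgroup.mem_sup_left (D.VU hv)) (Subgroup.mem_sup_right hh),
        by group, ?_⟩
      show n1⁻¹ * (v * h) * n1 ∈ U ⊔ H
      rw [show n1⁻¹ * (v * h) * n1 = (n1⁻¹ * v * n1) * (n1⁻¹ * h * n1) by group]
      exact mul_mem (Subgroup.mem_sup_left (D.VU (conj_mem' D.n1V hv)))
        (Subgroup.mem_sup_right (conj_mem' (mem_norm_iff.mpr D.n1H) hh))
    · rw [← D.QE_sup, sup_comm] at hu
      obtain ⟨x, hx, v, hv, rfl⟩ := mem_sup_norm (D.EU.trans (D.UL2.trans D.P2.norm)) hu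
      refine ⟨x, hx, v * h, mul_mem (Subgroup.mem_sup_left (D.QU hv)) (Subgroup.mem_sup_right hh),
        by group, ?_⟩
      show n2⁻¹ * (v * h) * n2 ∈ U ⊔ H
      rw [show n2⁻¹ * (v * h) * n2 = (n2⁻¹ * v * n2) * (n2⁻¹ * h * n2) by group]
      exact mul_mem (Subgroup.mem_sup_left (D.QU (conj_mem' D.n2Q hv)))
        (Subgroup.mem_sup_right (conj_mem' (mem_norm_iff.mpr D.n2H) hh))
  · -- the words
    have key : ∀ (w : G) (X : Subgroup G), cj w X ≤ U ⊔ H → ∀ x ∈ X, w * x * w⁻¹ ∈ U ⊔ H :=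
      fun w X h x hx => h (conj_mem_cj hx)
    intro i x hx
    show alt D.frame.n i k * x * (alt D.frame.n i k)⁻¹ ∈ U ⊔ H
    interval_cases k
    · cases i
      · exact key 1 (cj n2 (Y ⊓ cj n1 Y)) (by rw [cj_one]; exact D.W'B) x hx
      · exact key 1 (cj n1 Z) (by rw [cj_one]; exact D.EB) x hx
    · cases i
      · refine key (n1 * 1) (cj n1 Z) ?_ x hx
        rw [mul_one, D.cj_n1_Z']; exact D.ZB
      · refine key (n2 * 1) (cj n2 (Y ⊓ cj n1 Y)) ?_ x hx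
        rw [mul_one, D.cj_n2_W]; exact D.WB
    · cases i
      · refine key (n1 * (n2 * 1)) (cj n2 (Y ⊓ cj n1 Y)) ?_ x hx
        rw [mul_one, cj_mul, D.cj_n2_W, D.cj_n1_W]; exact D.WB
      · refine key (n2 * (n1 * 1)) (cj n1 Z) ?_ x hx
        rw [mul_one, cj_mul, D.cj_n1_Z', D.cj_Z_of_L2 D.P2.nL]; exact D.ZB
    · cases i
      · refine key (n1 * (n2 * (n1 * 1))) (cj n1 Z) ?_ x hx
        rw [mul_one, cj_mul, cj_mul, D.cj_n1_Z', D.cj_Z_of_L2 D.P2.nL]; exact D.EB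
      · refine key (n2 * (n1 * (n2 * 1))) (cj n2 (Y ⊓ cj n1 Y)) ?_ x hx
        rw [mul_one, cj_mul, cj_mul, D.cj_n2_W, D.cj_n1_W]; exact D.W'B

/-- The braid relation of length `4`. -/
theorem braid (hB : Bender.{u}) (hC : ∀ z ∈ Z, z ≠ 1 → Core Q z) : D.frame.Braid 4 := by
  refine D.frame.braid_of_root (m := 3) (i := true) hB (D.root hC) D.n2L ?_ ?_ (by decide) ?_
  · show n2⁻¹ * n2 ∈ D.frame.H₁
    rw [inv_mul_cancel]; exact one_mem _
  · show _ ≤ L2 ⊔ H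
    exact D.LL2.trans le_sup_left
  · intro a ha
    show (n1 * (n2 * (n1 * 1)))⁻¹ * a * (n1 * (n2 * (n1 * 1))) ∈ _
    have h1 : cj (n1 * (n2 * (n1 * 1))) (cj n1 (A0 ⊔ (H ⊓ L2))) = cj n1 (A0 ⊔ (H ⊓ L2)) := by
      rw [mul_one, cj_mul, cj_mul, ← cj_mul n1 n1, mem_norm_iff.mp (D.HA' D.n1n1), D.n2A']
    rw [← mem_cj, h1]
    exact ha

/-- **Type `U4(q)`: the closing theorem.**  `⟨L1, L2⟩H` has a split BN-pair of rank two. -/
theorem exists_split (hB : Bender.{u}) (hC : ∀ z ∈ Z, z ≠ 1 → Core Q z) {X : Subgroup G}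
    (hX : (L1 ⊔ H) ⊔ (L2 ⊔ H) = X) :
    ∃ P : Cfsg.BNPair X, P.rank = 2 ∧ P.IsSplit ∧ P.B = (U ⊔ H).subgroupOf X ∧
      (∀ x : X, x ∈ P.N ↔ (x : G) ∈ D.frame.N) := by
  refine D.frame.exists_split_sup (D.braid hB hC) (by norm_num) (fun k hk => D.pathTo hk) ?_
    U le_sup_left (fun b hb u hu => conj_mem (D.normB_U hb) hu) ?_ ?_ hX
  · have key : ∀ n : G, cj n U ≠ U → ∃ b ∈ U ⊔ H, n * b * n⁻¹ ∉ U ⊔ H := by
      intro n hn
      by_contra hcon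
      push Not at hcon
      apply hn
      refine Subgroup.eq_of_le_of_card_ge (fun x hx => ?_) (le_of_eq (card_cj _ _).symm)
      refine D.two_mem_U (isPGroup_cj D.twoU) hx ?_
      rw [mem_cj] at hx
      have := hcon _ (Subgroup.mem_sup_left hx)
      rwa [show n * (n⁻¹ * x * n) * n⁻¹ = x by group] at this
    intro i
    cases i
    · exact key n1 D.cj_n1_U_ne
    · exact key n2 D.cj_n2_U_ne
  · have : Fact (Nat.Prime 2) := ⟨Nat.prime_two⟩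
    exact D.twoU.isNilpotent
  · intro b hb
    obtain ⟨u, hu, h, hh, rfl⟩ := D.exists_uh hb
    refine ⟨u, hu, ?_⟩
    rw [inv_mul_cancel_left]
    exact Subgroup.le_normalizer hh

/-- The hypothesis on `C_G(z)` from one involution of `Z(S)`. -/
theorem core_forall {z0 : G} (hz0 : z0 ∈ Z) (hz1 : z0 ≠ 1)
    (hS : ∀ P : Subgroup G, IsPGroup 2 P → S ≤ P → P ≤ S) (hSz : ∀ s ∈ S, s * z0 = z0 * s)
    (hR : ∃ R : Subgroup G, IsPGroup 2 R ∧ Core R z0) : ∀ z ∈ Z, z ≠ 1 → Core Q z :=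
  fun _ hz hzz => D.core_all hz0 hz1 (D.core_of hz0 hS hSz hR) hz hzz

end Close

end Data

end Cfsg.Agent.RankTwoClose.UFour
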