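import Mathlib
import Cfsg.Agent.RankTwoClose.Hall
import Cfsg.Agent.RankTwoClose.UFour.Close

/-!
# Type `U4(q)`: fusion of the central involutions and the overgroups of `S`

`S` a Sylow 2-subgroup of `G`, `Data S V U Z Y L1 L2 Q H A0 n1 n2`, `Core Q z` for `z ∈ Z#` and `Ext`.
Then the conjugates of `Z#` in `S` lie in `U`, those in `Q` lie in `Z`, and every `L ≥ S` with an abelian
normal subgroup `W ≤ S` generated by conjugates of elements of `Z` under `L` lies in `N(V)` or `N(Z)`.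
-/

set_option autoImplicit false
set_option linter.unusedSectionVars false

namespace Cfsg.Agent.RankTwoClose.UFour

variable {G : Type*} [Group G]

/-- Additional facts on `S` and `V`. -/
structure Ext (S V U Z Y L1 L2 : Subgroup G) (n1 : G) : Prop where
  /-- `S/U` has elementary abelian subgroups of order at most two -/
  two : ∀ x ∈ S, ∀ y ∈ S, x * x = 1 → y * y = 1 → x * y = y * x → x ∈ U ∨ y ∈ U ∨ x * y ∈ U
  /-- an involution of `S - U` centralises `Z` and another point -/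
  inv : ∀ r ∈ S, r ∉ U → r * r = 1 → (∀ z ∈ Z, r * z = z * r) ∧
    ∃ u ∈ U, ∀ z ∈ cj (u * n1) Z, r * z = z * r
  /-- `V` is weakly closed -/
  wc : ∀ g : G, cj g V ≤ S → cj g V = V
  /-- `[Y, u] = Z` -/
  yz : ∀ u ∈ U, u ∉ V → ∀ z ∈ Z, ∃ y ∈ Y, y * u * y⁻¹ * u⁻¹ = z
  cardY : Nat.card Y ≤ Nat.card Z ^ 3
  NV : Subgroup.normalizer (V : Set G) ≤ Subgroup.normalizer (L1 : Set G)
  NZ : Subgroup.normalizer (Z : Set G) ≤ Subgroup.normalizer (L2 : Set G)

/-- Sylow's theorem for a subgroup. -/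
theorem exists_conj_sylow_sub [Finite G] {L U W : Subgroup G} (hUL : U ≤ L) (hU : IsPGroup 2 U)
    (hS : ∀ R : Subgroup G, IsPGroup 2 R → U ≤ R → R ≤ L → R ≤ U) (hWL : W ≤ L)
    (hW : IsPGroup 2 W) : ∃ l ∈ L, cj l W ≤ U := by
  have : Fact (Nat.Prime 2) := ⟨Nat.prime_two⟩
  let P : Sylow 2 L :=
    { toSubgroup := U.subgroupOf L
      isPGroup' := hU.comap_subtype
      is_maximal' := by
        intro R hR hUR
        refine le_antisymm ?_ hUR
        have h1 : R.map L.subtype ≤ U := hS _ (hR.map _) (by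
          intro x hx
          exact ⟨⟨x, hUL hx⟩, hUR (Subgroup.mem_subgroupOf.mpr hx), rfl⟩) (Subgroup.map_subtype_le _)
        intro x hx
        exact Subgroup.mem_subgroupOf.mpr (h1 ⟨x, hx, rfl⟩) }
  obtain ⟨P', hP'⟩ := (hW.comap_subtype (K := L)).exists_le_sylow
  obtain ⟨l, hl⟩ := MulAction.exists_smul_eq L P' P
  refine ⟨l, l.2, ?_⟩
  intro x hx
  rw [mem_cj] at hx
  have h1 : (⟨_, hWL hx⟩ : L) ∈ P' := hP' (Subgroup.mem_subgroupOf.mpr hx)
  have h2 : l * ⟨_, hWL hx⟩ * l⁻¹ ∈ (l • P' : Sylow 2 L) := by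
    rw [Sylow.smul_def]
    exact ⟨_, h1, rfl⟩
  rw [hl] at h2
  have h3 : ((l * ⟨(l : G)⁻¹ * x * l, hWL hx⟩ * l⁻¹ : L) : G) ∈ U := Subgroup.mem_subgroupOf.mp h2
  have e : ((l * ⟨(l : G)⁻¹ * x * l, hWL hx⟩ * l⁻¹ : L) : G) = x := by
    show (l : G) * ((l : G)⁻¹ * x * l) * (l : G)⁻¹ = x
    group
  rwa [e] at h3

theorem le_norm_commutator (A B : Subgroup G) :
    A ≤ Subgroup.normalizer ((⁅A, B⁆ : Subgroup G) : Set G) := by
  refine le_normalizer_of fun u hu x hx => ?_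
  obtain ⟨y, hy, rfl⟩ := hx
  have key : (⁅A, B⁆ : Subgroup G) ≤ (⁅A, B⁆).comap (MulAut.conj u).toMonoidHom := by
    rw [Subgroup.commutator_le]
    intro a ha b hb
    rw [Subgroup.mem_comap]
    show u * (a * b * a⁻¹ * b⁻¹) * u⁻¹ ∈ _
    rw [show u * (a * b * a⁻¹ * b⁻¹) * u⁻¹ =
      ((u * a) * b * (u * a)⁻¹ * b⁻¹) * (u * b * u⁻¹ * b⁻¹)⁻¹ by group]
    exact mul_mem (Subgroup.commutator_mem_commutator (mul_mem hu ha) hb)
      (inv_mem (Subgroup.commutator_mem_commutator hu hb))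
  exact key hy

theorem eq_of_cj_le {G : Type*} [Group G] [Finite G] {g : G} {X W : Subgroup G} (h : cj g X ≤ W)
    (hc : Nat.card W ≤ Nat.card X) : cj g X = W :=
  Subgroup.eq_of_le_of_card_ge h (by rwa [card_cj])

namespace Data

/-- Cores are unique. -/
theorem Core.unique {Q Q' : Subgroup G} {z : G} (h : Core Q z) (h' : Core Q' z)
    (hQ : IsPGroup 2 Q) (hQ' : IsPGroup 2 Q') (hz : ∀ q ∈ Q, q * z = z * q)
    (hz' : ∀ q ∈ Q', q * z = z * q) : Q = Q' :=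
  le_antisymm (h'.max Q hQ hz h.norm) (h.max Q' hQ' hz' h'.norm)

theorem Core.conj {Q : Subgroup G} {z : G} (h : Core Q z) (g : G) :
    Core (cj g Q) (g * z * g⁻¹) := by
  have key : ∀ x, x * (g * z * g⁻¹) = g * z * g⁻¹ * x →
      (g⁻¹ * x * g) * z = z * (g⁻¹ * x * g) := by
    intro x hx
    calc (g⁻¹ * x * g) * z = g⁻¹ * (x * (g * z * g⁻¹)) * g := by group
      _ = g⁻¹ * (g * z * g⁻¹ * x) * g := by rw [hx]
      _ = z * (g⁻¹ * x * g) := by group
  have key' : ∀ x, x * z = z * x → (g * x * g⁻¹) * (g * z * g⁻¹) = g * z * g⁻¹ * (g * x * g⁻¹) := by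
    intro x hx
    calc (g * x * g⁻¹) * (g * z * g⁻¹) = g * (x * z) * g⁻¹ := by group
      _ = g * (z * x) * g⁻¹ := by rw [hx]
      _ = _ := by group
  refine ⟨fun x hx => norm_cj (h.norm _ (key x hx)), fun x hx hq => ?_, fun R hR hRz hRn => ?_⟩
  · rw [mem_cj]
    refine h.self _ (key x hx) fun q hq' => ?_
    have h1 := hq _ (conj_mem_cj (g := g) hq')
    calc g⁻¹ * x * g * q = g⁻¹ * (x * (g * q * g⁻¹)) * g := by group
      _ = g⁻¹ * (g * q * g⁻¹ * x) * g := by rw [h1]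
      _ = _ := by group
  · have h1 : cj g⁻¹ R ≤ Q := by
      refine h.max _ (isPGroup_cj hR) ?_ ?_
      · intro r hr
        rw [mem_cj, inv_inv] at hr
        have := key _ (hRz _ hr)
        rwa [show g⁻¹ * (g * r * g⁻¹) * g = r by group] at this
      · intro x hx
        refine norm_cj ?_
        rw [inv_inv]
        exact hRn _ (key' x hx)
    have h2 := cj_mono (g := g) h1
    rwa [cj_cj_inv] at h2

variable {V U Z Y L1 L2 Q H A0 : Subgroup G} {n1 n2 : G} {S : Sylow 2 G}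
  (D : Data (S : Subgroup G) V U Z Y L1 L2 Q H A0 n1 n2)
  (E : Ext (S : Subgroup G) V U Z Y L1 L2 n1) (hC : ∀ z ∈ Z, z ≠ 1 → Core Q z)

include D in
theorem sqZ {z : G} (hz : z ∈ Z) : z * z = 1 := D.sqV z (D.ZV hz)

include D in
theorem QZcomm {q z : G} (hq : q ∈ Q) (hz : z ∈ Z) : q * z = z * q := (D.zu hz (D.QU hq)).symm

include D in
/-- `N(Q) ≤ N(Z)`. -/
theorem normQZ [Finite G] {g : G} (hg : g ∈ Subgroup.normalizer (Q : Set G)) :
    g ∈ Subgroup.normalizer (Z : Set G) := by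
  have key : ∀ x ∈ Subgroup.normalizer (Q : Set G), cj x Z ≤ Z := by
    intro x hx y hy
    rw [mem_cj] at hy
    have h1 : x * (x⁻¹ * y * x) * x⁻¹ ∈ Q := conj_mem hx (D.ZQ hy)
    rw [show x * (x⁻¹ * y * x) * x⁻¹ = y by group] at h1
    refine D.centre h1 fun q hq => ?_
    have h2 := D.QZcomm (conj_mem' hx hq) hy
    calc y * q = x * ((x⁻¹ * y * x) * (x⁻¹ * q * x)) * x⁻¹ := by group
      _ = x * ((x⁻¹ * q * x) * (x⁻¹ * y * x)) * x⁻¹ := by rw [h2]
      _ = q * y := by group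
  exact le_normalizer_of key hg

include D hC

/-- **TI**. -/
theorem ti [Finite G] {z g : G} (hz : z ∈ Z) (hz1 : z ≠ 1) (hg : g * z * g⁻¹ ∈ Z) : cj g Z = Z := by
  have h1 : g * z * g⁻¹ ≠ 1 := by simpa using hz1
  have h2 := (hC z hz hz1).conj g
  have h3 := hC _ hg h1
  have h4 : cj g Q = Q := h2.unique h3 (isPGroup_cj D.twoQ) D.twoQ (by
    intro q hq
    rw [mem_cj] at hq
    have := D.QZcomm hq hz
    calc q * (g * z * g⁻¹) = g * ((g⁻¹ * q * g) * z) * g⁻¹ := by group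
      _ = g * (z * (g⁻¹ * q * g)) * g⁻¹ := by rw [this]
      _ = _ := by group) fun q hq => D.QZcomm hq hg
  exact mem_norm_iff.mp (D.normQZ (mem_norm_iff.mpr h4))

theorem ti' [Finite G] {x g l : G} (hx1 : x ≠ 1) (hg : x ∈ cj g Z) (hl : x ∈ cj l Z) :
    cj g Z = cj l Z := by
  rw [mem_cj] at hg hl
  have h1 : g⁻¹ * x * g ≠ 1 := by
    intro h
    apply hx1
    have : x = g * (g⁻¹ * x * g) * g⁻¹ := by group
    rw [this, h]; group
  have h2 := D.ti hC (g := l⁻¹ * g) hg h1 (by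
    rwa [show l⁻¹ * g * (g⁻¹ * x * g) * (l⁻¹ * g)⁻¹ = l⁻¹ * x * l by group])
  rw [cj_mul] at h2
  have h3 := congrArg (cj l) h2
  rwa [cj_cj_inv] at h3

/-- The centraliser of an element of `Z^g` normalises `Z^g` and `Q^g`. -/
theorem cent_norm [Finite G] {x c g : G} (hx1 : x ≠ 1) (hg : x ∈ cj g Z) (hc : c * x = x * c) :
    c ∈ Subgroup.normalizer ((cj g Q : Subgroup G) : Set G) ∧
      c ∈ Subgroup.normalizer ((cj g Z : Subgroup G) : Set G) := by
  rw [mem_cj] at hg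
  have h1 : g⁻¹ * x * g ≠ 1 := by
    intro h
    apply hx1
    have : x = g * (g⁻¹ * x * g) * g⁻¹ := by group
    rw [this, h]; group
  have h2 : (g⁻¹ * c * g) * (g⁻¹ * x * g) = (g⁻¹ * x * g) * (g⁻¹ * c * g) := by
    calc (g⁻¹ * c * g) * (g⁻¹ * x * g) = g⁻¹ * (c * x) * g := by group
      _ = g⁻¹ * (x * c) * g := by rw [hc]
      _ = _ := by group
  have h3 := (hC _ hg h1).norm _ h2
  exact ⟨norm_cj h3, norm_cj (D.normQZ h3)⟩

omit hC
section Points

variable [Finite G]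

theorem cj_Z_of_U {l : G} (hl : l ∈ L1) (h : cj l U = U) : cj l Z = Z :=
  mem_norm_iff.mp (D.normZ (D.P1.norm hl) (mem_norm_iff.mpr h))

theorem point_eq {l : G} (hl : l ∈ L1) : cj l Z = Z ∨ ∃ u ∈ U, cj l Z = cj (u * n1) Z := by
  rcases D.P1.trans l hl with h | ⟨u, hu, h⟩
  · exact Or.inl (D.cj_Z_of_U hl h)
  · right
    refine ⟨u, hu, ?_⟩
    have h1 : cj ((u * n1)⁻¹ * l) U = U := by rw [cj_mul, h, cj_inv_cj]
    have h2 := D.cj_Z_of_U (mul_mem (inv_mem (mul_mem (D.UL1 hu) D.P1.nL)) hl) h1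
    rw [cj_mul] at h2
    have h3 := congrArg (cj (u * n1)) h2
    rwa [cj_cj_inv] at h3

theorem Y_inf_point {u : G} (hu : u ∈ U) : Y ⊓ cj (u * n1) Z = ⊥ := by
  have h1 := congrArg (cj u) D.Edis
  rw [cj_inf, mem_norm_iff.mp (D.UY hu), ← cj_mul] at h1
  rw [h1]
  exact Subgroup.map_bot _

theorem norm_Z_L1 {y : G} (hy : y ∈ L1) (h : cj y Z = Z) : cj y U = U := by
  rcases D.P1.trans y hy with h1 | ⟨u, hu, h1⟩
  · exact h1
  · exfalso
    have h2 : cj ((u * n1)⁻¹ * y) U = U := by rw [cj_mul, h1, cj_inv_cj]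
    have h3 := D.cj_Z_of_U (mul_mem (inv_mem (mul_mem (D.UL1 hu) D.P1.nL)) hy) h2
    rw [cj_mul, h] at h3
    have h4 := congrArg (cj (u * n1)) h3
    rw [cj_cj_inv] at h4
    have h5 := D.Y_inf_point hu
    rw [← h4, inf_eq_right.mpr D.ZY] at h5
    exact D.Z_ne h5

/-- An element of `U` normalising a point different from `Z` lies in `V`. -/
theorem mem_V_of_norm_point {x u : G} (hu : u ∈ U) (hx : x ∈ U)
    (h : x ∈ Subgroup.normalizer ((cj (u * n1) Z : Subgroup G) : Set G)) : x ∈ V := by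
  have hg : u * n1 ∈ L1 := mul_mem (D.UL1 hu) D.P1.nL
  have h1 : (u * n1)⁻¹ * x * (u * n1) ∈ L1 := mul_mem (mul_mem (inv_mem hg) (D.UL1 hx)) hg
  have h2 : cj ((u * n1)⁻¹ * x * (u * n1)) Z = Z := by
    rw [cj_mul, cj_mul, mem_norm_iff.mp h, cj_inv_cj]
  have h3 := D.norm_Z_L1 h1 h2
  have h4 : (u * n1)⁻¹ * x * (u * n1) ∈ U := D.two_mem_U (P := cj (u * n1)⁻¹ U)
    (isPGroup_cj D.twoU) (by
      rw [mem_cj, inv_inv]
      rwa [show u * n1 * ((u * n1)⁻¹ * x * (u * n1)) * (u * n1)⁻¹ = x by group])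
    (D.borel1 _ h1 h3)
  have h5 : u⁻¹ * x * u ∈ U ⊓ cj n1 U := by
    refine Subgroup.mem_inf.mpr ⟨mul_mem (mul_mem (inv_mem hu) hx) hu, ?_⟩
    rw [mem_cj]
    rwa [show n1⁻¹ * (u⁻¹ * x * u) * n1 = (u * n1)⁻¹ * x * (u * n1) by group]
  have h6 := D.P1.inter h5
  have := conj_mem (D.UV hu) h6
  rwa [show u * (u⁻¹ * x * u) * u⁻¹ = x by group] at this

/-- `U` is a Sylow `2`-subgroup of the parabolics. -/
theorem sylow_of {L : Subgroup G} (hb : ∀ g ∈ L, cj g U = U → g ∈ U ⊔ H) {R : Subgroup G}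
    (hR : IsPGroup 2 R) (hUR : U ≤ R) (hRL : R ≤ L) : R ≤ U := by
  by_contra hcon
  have : Fact (Nat.Prime 2) := ⟨Nat.prime_two⟩
  have hnil := hR.isNilpotent
  have h1 : U.subgroupOf R < ⊤ := by
    rw [lt_top_iff_ne_top]
    intro h
    exact hcon (Subgroup.subgroupOf_eq_top.mp h)
  have h2 := Group.normalizerCondition_of_isNilpotent _ h1
  obtain ⟨r, hr, hr'⟩ := SetLike.exists_of_lt h2
  rw [Subgroup.mem_subgroupOf] at hr'
  apply hr'
  have hrN : (r : G) ∈ Subgroup.normalizer (U : Set G) := by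
    rw [Subgroup.mem_normalizer_iff] at hr ⊢
    intro g
    constructor
    · intro hg
      have := (hr ⟨g, hUR hg⟩).mp (Subgroup.mem_subgroupOf.mpr hg)
      exact Subgroup.mem_subgroupOf.mp this
    · intro hg
      have hgR : g ∈ R := by
        have := mul_mem (mul_mem (inv_mem r.2) (hUR hg)) r.2
        rwa [show (r : G)⁻¹ * ((r : G) * g * (r : G)⁻¹) * r = g by group] at this
      have := (hr ⟨g, hgR⟩).mpr (Subgroup.mem_subgroupOf.mpr hg)
      exact Subgroup.mem_subgroupOf.mp this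
  exact D.two_mem_U hR r.2 (hb r (hRL r.2) (mem_norm_iff.mp hrN))

include E

theorem NU_V {g : G} (hg : g ∈ Subgroup.normalizer (U : Set G)) :
    g ∈ Subgroup.normalizer (V : Set G) := by
  rw [mem_norm_iff] at hg ⊢
  refine E.wc g ?_
  have := cj_mono (g := g) D.VU
  rw [hg] at this
  exact this.trans D.US

theorem NU_Z {g : G} (hg : g ∈ Subgroup.normalizer (U : Set G)) :
    g ∈ Subgroup.normalizer (Z : Set G) := D.normZ (D.NU_V E hg) hg

/-- Frattini. -/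
theorem frattini1 {g : G} (hg : g ∈ Subgroup.normalizer (V : Set G)) :
    ∃ l ∈ L1, ∃ n ∈ Subgroup.normalizer (U : Set G), g = l * n := by
  have h1 : cj g U ≤ L1 := by
    have := cj_mono (g := g) D.UL1
    rwa [mem_norm_iff.mp (E.NV hg)] at this
  obtain ⟨l, hl, h2⟩ := exists_conj_sylow_sub D.UL1 D.twoU (fun R => D.sylow_of D.borel1) h1
    (isPGroup_cj D.twoU)
  refine ⟨l⁻¹, inv_mem hl, l * g, mem_norm_iff.mpr ?_, by group⟩
  rw [cj_mul]
  exact eq_of_cj_le h2 (card_cj _ _).ge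

/-- Frattini. -/
theorem frattini2 {g : G} (hg : g ∈ Subgroup.normalizer (Z : Set G)) :
    ∃ l ∈ L2, ∃ n ∈ Subgroup.normalizer (U : Set G), g = l * n := by
  have h1 : cj g U ≤ L2 := by
    have := cj_mono (g := g) D.UL2
    rwa [mem_norm_iff.mp (E.NZ hg)] at this
  obtain ⟨l, hl, h2⟩ := exists_conj_sylow_sub D.UL2 D.twoU (fun R => D.sylow_of D.borel2) h1
    (isPGroup_cj D.twoU)
  refine ⟨l⁻¹, inv_mem hl, l * g, mem_norm_iff.mpr ?_, by group⟩
  rw [cj_mul]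
  exact eq_of_cj_le h2 (card_cj _ _).ge

/-- `N(V)` and `N(Z)` normalise `⟨L1, L2⟩`. -/
theorem NV_norm {g : G} (hg : g ∈ Subgroup.normalizer (V : Set G)) :
    g ∈ Subgroup.normalizer ((L1 ⊔ L2 : Subgroup G) : Set G) := by
  obtain ⟨l, hl, n, hn, rfl⟩ := D.frattini1 E hg
  refine mul_mem (Subgroup.le_normalizer (Subgroup.mem_sup_left hl)) ?_
  exact norm_sup (E.NV (D.NU_V E hn)) (E.NZ (D.NU_Z E hn))

theorem NZ_norm {g : G} (hg : g ∈ Subgroup.normalizer (Z : Set G)) :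
    g ∈ Subgroup.normalizer ((L1 ⊔ L2 : Subgroup G) : Set G) := by
  obtain ⟨l, hl, n, hn, rfl⟩ := D.frattini2 E hg
  refine mul_mem (Subgroup.le_normalizer (Subgroup.mem_sup_right hl)) ?_
  exact norm_sup (E.NV (D.NU_V E hn)) (E.NZ (D.NU_Z E hn))

/-- Points are permuted by `N(V)`. -/
theorem point_NV {g : G} (hg : g ∈ Subgroup.normalizer (V : Set G)) :
    ∃ l ∈ L1, cj g Z = cj l Z := by
  obtain ⟨l, hl, n, hn, rfl⟩ := D.frattini1 E hg
  refine ⟨l, hl, ?_⟩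
  rw [cj_mul, mem_norm_iff.mp (D.NU_Z E hn)]

end Points

section Fusion

variable [Finite G]

include D in
/-- For `v ∈ V - Y` the elements `q` of `Q` with `[v, q] ∈ Z` lie in `Y`. -/
theorem mem_Y_of_comm {v q : G} (hv : v ∈ V) (hvY : v ∉ Y) (hq : q ∈ Q)
    (h : v * q * v⁻¹ * q⁻¹ ∈ Z) : q ∈ Y := by
  have hcent : ∀ z ∈ Z, ∀ q ∈ Q, q * z = z * q := fun z hz q hq => D.QZcomm hq hz
  let T : Subgroup G :=
    { carrier := {q | q ∈ Q ∧ v * q * v⁻¹ * q⁻¹ ∈ Z}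
      one_mem' := ⟨one_mem _, by
        rw [show v * 1 * v⁻¹ * 1⁻¹ = 1 by group]; exact one_mem _⟩
      mul_mem' := by
        rintro a b ⟨ha, ha'⟩ ⟨hb, hb'⟩
        refine ⟨mul_mem ha hb, ?_⟩
        have e : v * (a * b) * v⁻¹ * (a * b)⁻¹ =
            (v * a * v⁻¹ * a⁻¹) * (a * (v * b * v⁻¹ * b⁻¹) * a⁻¹) := by group
        rw [e, hcent _ hb' a ha, mul_inv_cancel_right]
        exact mul_mem ha' hb'
      inv_mem' := by
        rintro a ⟨ha, ha'⟩
        refine ⟨inv_mem ha, ?_⟩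
        have e : v * a⁻¹ * v⁻¹ * a⁻¹⁻¹ = a⁻¹ * (v * a * v⁻¹ * a⁻¹)⁻¹ * a⁻¹⁻¹ := by group
        rw [e, hcent _ (inv_mem ha') _ (inv_mem ha), mul_inv_cancel_right]
        exact inv_mem ha' }
  have hTQ : T ≤ Q := fun x hx => hx.1
  have hAT : A0 ≤ Subgroup.normalizer (T : Set G) := by
    refine le_normalizer_of fun a ha x hx => ?_
    rw [mem_cj] at hx
    obtain ⟨h1, h2⟩ := hx
    have hxQ : x ∈ Q := by
      have := conj_mem (D.HQ (D.AH ha)) h1
      rwa [show a * (a⁻¹ * x * a) * a⁻¹ = x by group] at this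
    refine ⟨hxQ, ?_⟩
    -- `a⁻¹ v a = y v`
    set y := a⁻¹ * v * a⁻¹⁻¹ * v⁻¹ with hy
    have hyY : y ∈ Y := D.AE a⁻¹ (inv_mem ha) v hv
    have hyQ := D.YQ hyY
    have h3 : (y * v) * (a⁻¹ * x * a) * (y * v)⁻¹ * (a⁻¹ * x * a)⁻¹ ∈ Z := by
      have e : (y * v) * (a⁻¹ * x * a) * (y * v)⁻¹ * (a⁻¹ * x * a)⁻¹ =
          (y * (v * (a⁻¹ * x * a) * v⁻¹ * (a⁻¹ * x * a)⁻¹) * y⁻¹) *
            (y * (a⁻¹ * x * a) * y⁻¹ * (a⁻¹ * x * a)⁻¹) := by group
      rw [e]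
      exact mul_mem (conj_mem (D.QZ hyQ) h2) (D.QQ hyQ h1)
    have h4 := conj_mem (D.HZ (D.AH ha)) h3
    rwa [show a * ((y * v) * (a⁻¹ * x * a) * (y * v)⁻¹ * (a⁻¹ * x * a)⁻¹) * a⁻¹ =
      v * x * v⁻¹ * x⁻¹ by rw [hy]; group] at h4
  rcases D.irrU (T ⊔ V) le_sup_right (sup_le (hTQ.trans D.QU) D.VU)
    (fun a ha => norm_sup (hAT ha) (D.HV (D.AH ha))) with h1 | h1
  · have h2 : q ∈ V := by rw [← h1]; exact Subgroup.mem_sup_left ⟨hq, h⟩
    rw [← D.VQ_inf]; exact ⟨h2, hq⟩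
  · exfalso
    apply hvY
    refine D.Yup v hv fun u hu => ?_
    rw [← h1] at hu
    obtain ⟨t, ht, w, hw, rfl⟩ := mem_sup_norm ((hTQ.trans D.QU).trans D.UV) hu
    have e : v * (t * w) * v⁻¹ * (t * w)⁻¹ = (v * t * v⁻¹ * t⁻¹) := by
      have h2 := D.commV v hv w hw
      calc v * (t * w) * v⁻¹ * (t * w)⁻¹ = v * t * (w * v⁻¹) * w⁻¹ * t⁻¹ := by group
        _ = v * t * (v⁻¹ * w) * w⁻¹ * t⁻¹ := by rw [D.commV w hw _ (inv_mem hv)]
        _ = _ := by group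
    rw [e]; exact ht.2

include D in
/-- Involutions of `U - Q` lie in `V`. -/
theorem invol_mem_V {r : G} (hr : r ∈ U) (hrQ : r ∉ Q) (h2 : r * r = 1) : r ∈ V := by
  obtain ⟨q, hq, v, hv, rfl⟩ := D.exists_qv hr
  have hvY : v ∉ Y := fun h => hrQ (mul_mem hq (D.YQ h))
  have hvv := D.sqV v hv
  have h3 : v * q * v⁻¹ * q⁻¹ = q⁻¹ * q⁻¹ := by
    have h4 : v⁻¹ = v := inv_eq_of_mul_eq_one_left hvv
    have h5 : v * q * v = q⁻¹ := by
      have : q * (v * q * v) = 1 := by rw [← h2]; group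
      exact (inv_eq_of_mul_eq_one_right this).symm
    rw [h4, h5]
  -- squares of `Q` lie in `Z`
  have h6 : q⁻¹ * q⁻¹ ∈ Z := by
    obtain ⟨y', hy', y, hy, e⟩ := D.exists_yy (inv_mem hq)
    rw [e]
    have hy1 : y * y = 1 := D.sqV y (D.YV hy)
    have hy2 : y' * y' = 1 := by
      rw [mem_cj] at hy'
      have := D.sqV _ (D.YV hy')
      calc y' * y' = n2 * ((n2⁻¹ * y' * n2) * (n2⁻¹ * y' * n2)) * n2⁻¹ := by group
        _ = 1 := by rw [this]; group
    have h7 := D.QQ (D.Y'Q hy') (D.YQ hy)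
    rwa [inv_eq_of_mul_eq_one_left hy1, inv_eq_of_mul_eq_one_left hy2,
      show y' * y * y' * y = y' * y * (y' * y) by group] at h7
  rw [← h3] at h6
  exact mul_mem (D.YV (D.mem_Y_of_comm hv hvY hq h6)) hv

include D E in
/-- Involutions of `Q` are conjugate under `L2` to elements of `Y`. -/
theorem invol_Q {x : G} (hx : x ∈ Q) (h2 : x * x = 1) : ∃ c ∈ L2, x ∈ cj c Y := by
  obtain ⟨y', hy', y, hy, rfl⟩ := D.exists_yy hx
  by_cases hZ : y' ∈ Z
  · exact ⟨1, one_mem _, by rw [cj_one]; exact mul_mem (D.ZY hZ) hy⟩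
  have hy1 : y * y = 1 := D.sqV y (D.YV hy)
  have sq' : ∀ w ∈ cj n2 Y, w * w = 1 := by
    intro w hw
    rw [mem_cj] at hw
    have := D.sqV _ (D.YV hw)
    calc w * w = n2 * ((n2⁻¹ * w * n2) * (n2⁻¹ * w * n2)) * n2⁻¹ := by group
      _ = 1 := by rw [this]; group
  have hy2 := sq' y' hy'
  have hcomm : y * y' = y' * y := by
    have e1 : y⁻¹ = y := inv_eq_of_mul_eq_one_left hy1
    have e2 : y'⁻¹ = y' := inv_eq_of_mul_eq_one_left hy2
    calc y * y' = (y' * y)⁻¹ := by rw [mul_inv_rev, e1, e2]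
      _ = y' * y := inv_eq_of_mul_eq_one_left h2
  have hy'V : y' ∉ V := by
    intro h
    apply hZ
    have h' : y' ∈ Y := by
      rw [← D.VQ_inf]; exact ⟨h, D.Y'Q hy'⟩
    rw [← D.YY'_inf]
    exact ⟨h', hy'⟩
  -- `C_Y(y')`
  set C : Subgroup G := Y ⊓ Subgroup.centralizer {y'} with hC'
  have hCcard : Nat.card C ≤ Nat.card Z ^ 2 := by
    have hcent : ∀ a ∈ Y, ∀ z ∈ Z, a * z = z * a := fun a ha z hz => D.QZcomm (D.YQ ha) hz
    let f : Y →* Z :=
      { toFun := fun a => ⟨(a : G) * y' * (a : G)⁻¹ * y'⁻¹, D.YU a a.2 y' (D.Y'leU hy')⟩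
        map_one' := Subtype.ext (by
          show ((1 : Y) : G) * y' * ((1 : Y) : G)⁻¹ * y'⁻¹ = 1
          rw [Subgroup.coe_one]; group)
        map_mul' := fun a b => Subtype.ext (by
          show ((a * b : Y) : G) * y' * ((a * b : Y) : G)⁻¹ * y'⁻¹ =
            ((a : G) * y' * (a : G)⁻¹ * y'⁻¹) * ((b : G) * y' * (b : G)⁻¹ * y'⁻¹)
          have h3 := hcent a a.2 _ (D.YU b b.2 y' (D.Y'leU hy'))
          have h4 := D.QZcomm (D.Y'Q hy') (D.YU b b.2 y' (D.Y'leU hy'))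
          rw [Subgroup.coe_mul]
          set z := (b : G) * y' * (b : G)⁻¹ * y'⁻¹ with hz
          have e : (b : G) * y' * (b : G)⁻¹ = z * y' := by rw [hz]; group
          calc (a : G) * b * y' * ((a : G) * b)⁻¹ * y'⁻¹
              = a * ((b : G) * y' * (b : G)⁻¹) * (a : G)⁻¹ * y'⁻¹ := by group
            _ = (a * z) * y' * (a : G)⁻¹ * y'⁻¹ := by rw [e]; group
            _ = z * (a * y' * (a : G)⁻¹ * y'⁻¹) := by rw [h3]; group
            _ = (a * y' * (a : G)⁻¹ * y'⁻¹) * z :=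
              (hcent _ (D.ZY (D.YU a a.2 y' (D.Y'leU hy'))) z
                (D.YU b b.2 y' (D.Y'leU hy'))).symm) }
    have hf : Function.Surjective f := by
      intro z
      obtain ⟨a, ha, e⟩ := E.yz y' (D.Y'leU hy') hy'V z z.2
      exact ⟨⟨a, ha⟩, Subtype.ext e⟩
    have h3 : Nat.card Y = Nat.card f.ker * Nat.card Z := by
      rw [Subgroup.card_eq_card_quotient_mul_card_subgroup f.ker, mul_comm,
        Nat.card_congr (QuotientGroup.quotientKerEquivOfSurjective f hf).toEquiv]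
    have h4 : Nat.card f.ker = Nat.card C := by
      have : f.ker.map Y.subtype = C := by
        ext a
        constructor
        · rintro ⟨b, hb, rfl⟩
          refine Subgroup.mem_inf.mpr ⟨b.2, Subgroup.mem_centralizer_singleton_iff.mpr ?_⟩
          have h5 : (b : G) * y' * (b : G)⁻¹ * y'⁻¹ = 1 :=
            congrArg Subtype.val (MonoidHom.mem_ker.mp hb)
          show (b : G) * y' = y' * (b : G)
          calc (b : G) * y' = ((b : G) * y' * (b : G)⁻¹ * y'⁻¹) * (y' * b) := by group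
            _ = y' * b := by rw [h5, one_mul]
        · intro ha
          obtain ⟨h5, h6⟩ := Subgroup.mem_inf.mp ha
          rw [Subgroup.mem_centralizer_singleton_iff] at h6
          refine ⟨⟨a, h5⟩, MonoidHom.mem_ker.mpr (Subtype.ext ?_), rfl⟩
          show a * y' * a⁻¹ * y'⁻¹ = 1
          rw [h6]; group
      rw [← this]
      exact Nat.card_congr (f.ker.equivMapOfInjective Y.subtype Y.subtype_injective).toEquiv
    have h5 := E.cardY
    rw [h3, h4, pow_succ] at h5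
    exact Nat.le_of_mul_le_mul_right h5 Nat.card_pos
  -- the elements `[e, y'] z`
  have hE : cj n1 Z ≤ V := D.EV
  have hYe : ∀ e ∈ cj n1 Z, e * y' * e⁻¹ * y'⁻¹ ∈ Y := fun e he => D.vuY (hE he) (D.Y'leU hy')
  have hzy' : ∀ z ∈ Z, z * y' = y' * z := fun z hz => (D.QZcomm (D.Y'Q hy') hz).symm
  have hmem : ∀ (e : cj n1 Z) (z : Z), (e : G) * y' * (e : G)⁻¹ * y'⁻¹ * z ∈ C := by
    intro e z
    have h3 := hYe e e.2
    refine Subgroup.mem_inf.mpr ⟨mul_mem h3 (D.ZY z.2),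
      Subgroup.mem_centralizer_singleton_iff.mpr ?_⟩
    -- `[e, y']` commutes with `y'`
    set w := (e : G) * y' * (e : G)⁻¹ * y'⁻¹ with hw
    have h4 : w * w = 1 := D.sqV w (D.YV h3)
    have h5 : (w * y') * (w * y') = 1 := by
      have : w * y' = e * y' * (e : G)⁻¹ := by rw [hw]; group
      rw [this]
      calc (e : G) * y' * (e : G)⁻¹ * (e * y' * (e : G)⁻¹) = e * (y' * y') * (e : G)⁻¹ := by group
        _ = 1 := by rw [hy2]; group
    have h6 : w * y' = y' * w := by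
      have e1 : w⁻¹ = w := inv_eq_of_mul_eq_one_left h4
      have e2 : y'⁻¹ = y' := inv_eq_of_mul_eq_one_left hy2
      calc w * y' = (w * y')⁻¹ := (inv_eq_of_mul_eq_one_left h5).symm
        _ = y' * w := by rw [mul_inv_rev, e1, e2]
    calc w * z * y' = w * (z * y') := by group
      _ = w * y' * z := by rw [hzy' z z.2]; group
      _ = y' * (w * z) := by rw [h6]; group
  let g : cj n1 Z × Z → C := fun p => ⟨(p.1 : G) * y' * (p.1 : G)⁻¹ * y'⁻¹ * p.2, hmem p.1 p.2⟩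
  have hg : Function.Injective g := by
    rintro ⟨e, z⟩ ⟨e', z'⟩ h
    have h3 : (e : G) * y' * (e : G)⁻¹ * y'⁻¹ * z = e' * y' * (e' : G)⁻¹ * y'⁻¹ * z' :=
      congrArg Subtype.val h
    -- `[e'⁻¹ e, y'] ∈ Z`
    have h4 : ((e' : G)⁻¹ * e) * y' * ((e' : G)⁻¹ * e)⁻¹ * y'⁻¹ ∈ Z := by
      have h5 : (e : G) * y' * (e : G)⁻¹ * y'⁻¹ = e' * y' * (e' : G)⁻¹ * y'⁻¹ * (z' * (z : G)⁻¹) := by
        rw [← mul_assoc, ← h3]; group
      have h6 : ((e' : G)⁻¹ * e) * y' * ((e' : G)⁻¹ * e)⁻¹ * y'⁻¹ =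
          (e' : G)⁻¹ * ((e : G) * y' * (e : G)⁻¹ * y'⁻¹) * (e' * y' * (e' : G)⁻¹ * y'⁻¹)⁻¹ *
            e' := by group
      have hzz : (z' : G) * (z : G)⁻¹ ∈ Z := mul_mem z'.2 (inv_mem z.2)
      have h7 : ((e' : G)⁻¹ * e) * y' * ((e' : G)⁻¹ * e)⁻¹ * y'⁻¹ = z' * (z : G)⁻¹ := by
        rw [h6, h5]
        set c := (e' : G) * y' * (e' : G)⁻¹ * y'⁻¹ with hc
        have h8 : c * (z' * (z : G)⁻¹) = (z' * (z : G)⁻¹) * c :=
          D.commV c (D.YV (hYe e' e'.2)) _ (D.ZV hzz)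
        have h9 : (e' : G)⁻¹ * (z' * (z : G)⁻¹) = (z' * (z : G)⁻¹) * (e' : G)⁻¹ :=
          D.commV _ (inv_mem (hE e'.2)) _ (D.ZV hzz)
        rw [h8]
        calc (e' : G)⁻¹ * (z' * (z : G)⁻¹ * c) * c⁻¹ * e' = ((e' : G)⁻¹ * (z' * (z : G)⁻¹)) * e' := by
              group
          _ = _ := by rw [h9]; group
      rw [h7]; exact hzz
    have h5 : (e' : G)⁻¹ * e ∈ Y := by
      by_contra hcon
      apply hZ
      have := D.mem_Y_of_comm (mul_mem (inv_mem (hE e'.2)) (hE e.2)) hcon (D.Y'Q hy') h4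
      rw [← D.YY'_inf]
      exact ⟨this, hy'⟩
    have h6 : (e' : G)⁻¹ * e ∈ Y ⊓ cj n1 Z :=
      Subgroup.mem_inf.mpr ⟨h5, mul_mem (inv_mem e'.2) e.2⟩
    rw [D.Edis, Subgroup.mem_bot] at h6
    have h7 : (e : G) = e' := by
      have := inv_eq_of_mul_eq_one_right h6
      rw [inv_inv] at this
      exact this.symm
    have h8 : e = e' := Subtype.ext h7
    subst h8
    have h9 : z = z' := Subtype.ext (mul_left_cancel h3)
    rw [h9]
  have hbij := Function.Injective.bijective_of_nat_card_le hg (by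
    rw [Nat.card_prod, card_cj, ← pow_two]
    exact hCcard)
  have hyC : y ∈ C := Subgroup.mem_inf.mpr ⟨hy, Subgroup.mem_centralizer_singleton_iff.mpr hcomm⟩
  obtain ⟨⟨e, z⟩, he⟩ := hbij.2 ⟨y, hyC⟩
  have he' : (e : G) * y' * (e : G)⁻¹ * y'⁻¹ * z = y := congrArg Subtype.val he
  refine ⟨e * n2, mul_mem (D.UL2 (D.VU (hE e.2))) D.P2.nL, ?_⟩
  have h3 : y' * y = e * (z * y') * (e : G)⁻¹ := by
    have h5 : (e : G) * z = z * e := D.commV _ (hE e.2) _ (D.ZV z.2)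
    have h6 : (z : G) * (e : G)⁻¹ = (e : G)⁻¹ * z :=
      D.commV _ (D.ZV z.2) _ (inv_mem (hE e.2))
    rw [← hcomm, ← he']
    calc (e : G) * y' * (e : G)⁻¹ * y'⁻¹ * z * y' = e * y' * (e : G)⁻¹ * y'⁻¹ * (z * y') := by group
      _ = e * y' * ((e : G)⁻¹ * z) := by rw [hzy' z z.2]; group
      _ = e * (y' * z) * (e : G)⁻¹ := by rw [← h6]; group
      _ = e * (z * y') * (e : G)⁻¹ := by rw [hzy' z z.2]
  rw [h3, cj_mul]
  exact conj_mem_cj (mul_mem (D.ZY' z.2) hy')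

end Fusion

section FusionV

variable [Finite G]

include D E hC

/-- **(A)** Conjugates of elements of `Z#` in `V` lie in points of `V`. -/
theorem fusV {x g : G} (hx : x ∈ V) (hx1 : x ≠ 1) (hg : x ∈ cj g Z) : ∃ l ∈ L1, cj g Z = cj l Z := by
  have : Fact (Nat.Prime 2) := ⟨Nat.prime_two⟩
  have hS : ∀ R : Subgroup G, IsPGroup 2 R → (S : Subgroup G) ≤ R → R ≤ ⊤ → R ≤ S :=
    fun R hR h _ => (S.is_maximal' hR h).le
  have hV2 : IsPGroup 2 V := D.twoU.to_le D.VU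
  set C : Subgroup G := Subgroup.centralizer {x} with hCdef
  have hVC : V ≤ C := fun v hv => Subgroup.mem_centralizer_singleton_iff.mpr (D.commV v hv x hx)
  have hgC : cj g V ≤ C := by
    intro v hv
    rw [mem_cj] at hv
    rw [mem_cj] at hg
    have := D.commV _ hv _ (D.ZV hg)
    refine Subgroup.mem_centralizer_singleton_iff.mpr ?_
    calc v * x = g * ((g⁻¹ * v * g) * (g⁻¹ * x * g)) * g⁻¹ := by group
      _ = g * ((g⁻¹ * x * g) * (g⁻¹ * v * g)) * g⁻¹ := by rw [this]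
      _ = x * v := by group
  obtain ⟨P, hP⟩ := (hV2.comap_subtype (K := C)).exists_le_sylow
  have hPmax : ∀ R : Subgroup G, IsPGroup 2 R → (P : Subgroup C).map C.subtype ≤ R → R ≤ C →
      R ≤ (P : Subgroup C).map C.subtype := by
    intro R hR hPR hRC
    have h1 : R.subgroupOf C = P := P.is_maximal' hR.comap_subtype (fun y hy =>
      Subgroup.mem_subgroupOf.mpr (hPR ⟨y, hy, rfl⟩))
    rw [← h1, Subgroup.map_subgroupOf_eq_of_le hRC]
  obtain ⟨c, hc, hcV⟩ := exists_conj_sylow_sub (Subgroup.map_subtype_le (P : Subgroup C))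
    (P.isPGroup'.map _) hPmax hgC (isPGroup_cj hV2)
  obtain ⟨y, -, hy⟩ := exists_conj_sylow_sub (L := ⊤) le_top S.isPGroup' hS le_top
    (P.isPGroup'.map C.subtype)
  have hVP : V ≤ (P : Subgroup C).map C.subtype := fun v hv =>
    ⟨⟨v, hVC hv⟩, hP (Subgroup.mem_subgroupOf.mpr hv), rfl⟩
  have h1 : cj y V = V := E.wc y ((cj_mono hVP).trans hy)
  have h2 : cj (y * (c * g)) V = V := by
    refine E.wc _ ?_
    rw [cj_mul, cj_mul]
    exact (cj_mono hcV).trans hy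
  have h3 : cj (c * g) V = V := by
    rw [cj_mul] at h2
    have := congrArg (cj y⁻¹) (h2.trans h1.symm)
    rwa [cj_inv_cj, cj_inv_cj] at this
  obtain ⟨l, hl, h4⟩ := D.point_NV E (mem_norm_iff.mpr h3)
  refine ⟨l, hl, ?_⟩
  rw [← h4]
  refine D.ti' hC hx1 hg ?_
  rw [mem_cj] at hg ⊢
  have hcx : c * x = x * c := Subgroup.mem_centralizer_singleton_iff.mp hc
  have : c⁻¹ * x * c = x := by rw [mul_assoc, ← hcx]; group
  rwa [show (c * g)⁻¹ * x * (c * g) = g⁻¹ * (c⁻¹ * x * c) * g by group, this]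

theorem fusV' {x g : G} (hx : x ∈ V) (hx1 : x ≠ 1) (hg : x ∈ cj g Z) :
    cj g Z = Z ∨ ∃ u ∈ U, cj g Z = cj (u * n1) Z := by
  obtain ⟨l, hl, h⟩ := D.fusV E hC hx hx1 hg
  rcases D.point_eq hl with h1 | ⟨u, hu, h1⟩
  · exact Or.inl (h.trans h1)
  · exact Or.inr ⟨u, hu, h.trans h1⟩

theorem sq_of_mem {x g : G} (hg : x ∈ cj g Z) : x * x = 1 := by
  rw [mem_cj] at hg
  have := D.sqZ hg
  calc x * x = g * ((g⁻¹ * x * g) * (g⁻¹ * x * g)) * g⁻¹ := by group
    _ = 1 := by rw [this]; group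

/-- Conjugates of elements of `Z#` in `Q` lie in `Z`. -/
theorem fusQ {x g : G} (hx : x ∈ Q) (hx1 : x ≠ 1) (hg : x ∈ cj g Z) : cj g Z = Z := by
  obtain ⟨c, hc, hxc⟩ := D.invol_Q E hx (D.sq_of_mem E hC hg)
  rw [mem_cj] at hxc
  have h1 : c⁻¹ * x * c ≠ 1 := by
    intro h
    apply hx1
    calc x = c * (c⁻¹ * x * c) * c⁻¹ := by group
      _ = 1 := by rw [h]; group
  have h2 : c⁻¹ * x * c ∈ cj (c⁻¹ * g) Z := by
    rw [mem_cj] at hg ⊢
    rwa [show (c⁻¹ * g)⁻¹ * (c⁻¹ * x * c) * (c⁻¹ * g) = g⁻¹ * x * g by group]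
  rcases D.fusV' E hC (D.YV hxc) h1 h2 with h3 | ⟨u, hu, h3⟩
  · rw [cj_mul] at h3
    have h4 := congrArg (cj c) h3
    rwa [cj_cj_inv, D.cj_Z_of_L2 hc] at h4
  · exfalso
    rw [h3] at h2
    have h4 := Subgroup.mem_inf.mpr ⟨hxc, h2⟩
    rw [D.Y_inf_point hu, Subgroup.mem_bot] at h4
    exact h1 h4

/-- Conjugates of elements of `Z#` in `U`. -/
theorem fusU {x g : G} (hx : x ∈ U) (hx1 : x ≠ 1) (hg : x ∈ cj g Z) :
    cj g Z = Z ∨ x ∈ V ∧ ∃ u ∈ U, cj g Z = cj (u * n1) Z := by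
  by_cases hQ : x ∈ Q
  · exact Or.inl (D.fusQ E hC hQ hx1 hg)
  · have hV := D.invol_mem_V hx hQ (D.sq_of_mem E hC hg)
    rcases D.fusV' E hC hV hx1 hg with h | h
    · exact Or.inl h
    · exact Or.inr ⟨hV, h⟩

end FusionV

section FusionS

variable [Finite G]

include D E

theorem cent_two {k : G} {R : Subgroup G} (hk : cj k R = Z) {a b : G} (ha : k * a * k⁻¹ ∈ S)
    (hb : k * b * k⁻¹ ∈ S) (ha2 : a * a = 1) (hb2 : b * b = 1) (hab : a * b = b * a) :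
    (∀ r ∈ R, a * r = r * a) ∨ (∀ r ∈ R, b * r = r * b) ∨ ∀ r ∈ R, (a * b) * r = r * (a * b) := by
  have key : ∀ c : G, k * c * k⁻¹ ∈ U → ∀ r ∈ R, c * r = r * c := by
    intro c hc r hr
    have h1 : k * r * k⁻¹ ∈ Z := by rw [← hk]; exact conj_mem_cj hr
    have h2 := D.zu h1 hc
    calc c * r = k⁻¹ * ((k * c * k⁻¹) * (k * r * k⁻¹)) * k := by group
      _ = k⁻¹ * ((k * r * k⁻¹) * (k * c * k⁻¹)) * k := by rw [h2]
      _ = r * c := by group
  rcases E.two _ ha _ hb (by rw [show k * a * k⁻¹ * (k * a * k⁻¹) = k * (a * a) * k⁻¹ by group, ha2]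
                             group)
    (by rw [show k * b * k⁻¹ * (k * b * k⁻¹) = k * (b * b) * k⁻¹ by group, hb2]; group)
    (by rw [show k * a * k⁻¹ * (k * b * k⁻¹) = k * (a * b) * k⁻¹ by group, hab]; group) with
    h | h | h
  · exact Or.inl (key a h)
  · exact Or.inr (Or.inl (key b h))
  · refine Or.inr (Or.inr (key (a * b) ?_))
    rwa [show k * a * k⁻¹ * (k * b * k⁻¹) = k * (a * b) * k⁻¹ by group] at h

/-- Among the involutions of a conjugate of `Z` normalising... one centralises `R`. -/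
theorem exists_cent {k g : G} {R : Subgroup G} (hk : cj k R = Z)
    (hS : ∀ a ∈ cj g Z, k * a * k⁻¹ ∈ (S : Subgroup G)) :
    ∃ a ∈ cj g Z, a ≠ 1 ∧ ∀ r ∈ R, a * r = r * a := by
  obtain ⟨a, ha, b, hb, ha1, hb1, hab⟩ := D.Zbig
  have sq : ∀ c ∈ Z, (g * c * g⁻¹) * (g * c * g⁻¹) = 1 := by
    intro c hc
    rw [show g * c * g⁻¹ * (g * c * g⁻¹) = g * (c * c) * g⁻¹ by group, D.sqZ hc]; group
  have ne : ∀ c : G, c ≠ 1 → g * c * g⁻¹ ≠ 1 := fun c hc h => hc (by simpa using h)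
  have hcomm : (g * a * g⁻¹) * (g * b * g⁻¹) = (g * b * g⁻¹) * (g * a * g⁻¹) := by
    rw [show g * a * g⁻¹ * (g * b * g⁻¹) = g * (a * b) * g⁻¹ by group,
      D.commV a (D.ZV ha) b (D.ZV hb)]; group
  have hab1 : a * b ≠ 1 := by
    intro h
    apply hab
    have h1 := D.sqZ hb
    exact mul_right_cancel (h.trans h1.symm)
  rcases D.cent_two E hk (hS _ (conj_mem_cj ha)) (hS _ (conj_mem_cj hb)) (sq a ha) (sq b hb) hcomm
    with h | h | h
  · exact ⟨_, conj_mem_cj ha, ne a ha1, h⟩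
  · exact ⟨_, conj_mem_cj hb, ne b hb1, h⟩
  · refine ⟨g * (a * b) * g⁻¹, conj_mem_cj (mul_mem ha hb), ne _ hab1, ?_⟩
    intro r hr
    have := h r hr
    rwa [show g * a * g⁻¹ * (g * b * g⁻¹) = g * (a * b) * g⁻¹ by group] at this

include hC

/-- **(d)** `S - U` contains no conjugate of an element of `Z#`. -/
theorem fusS {r g : G} (hr : r ∈ (S : Subgroup G)) (hr1 : r ≠ 1) (hg : r ∈ cj g Z) : r ∈ U := by
  by_contra hrU
  have hSmax : ∀ (L : Subgroup G), ∀ R : Subgroup G, IsPGroup 2 R → (S : Subgroup G) ≤ R → R ≤ L →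
      R ≤ S := fun L R hR h _ => (S.is_maximal' hR h).le
  have hr2 := D.sq_of_mem E hC hg
  obtain ⟨hrZ, u, hu, hrZ'⟩ := E.inv r hr hrU hr2
  have hg1 : u * n1 ∈ L1 := mul_mem (D.UL1 hu) D.P1.nL
  -- `Z'`
  have hZ'V : cj (u * n1) Z ≤ V := by
    have := cj_mono (g := u * n1) D.ZV
    rwa [mem_norm_iff.mp (D.P1.norm hg1)] at this
  -- `V_1 = Z Z' ≤ N(R_r)`
  set V1 := Z ⊔ cj (u * n1) Z with hV1
  have hV1V : V1 ≤ V := sup_le D.ZV hZ'V
  have hV1r : ∀ v ∈ V1, v * r = r * v := by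
    have : V1 ≤ Subgroup.centralizer {r} := sup_le
      (fun z hz => Subgroup.mem_centralizer_singleton_iff.mpr (hrZ z hz).symm)
      (fun z hz => Subgroup.mem_centralizer_singleton_iff.mpr (hrZ' z hz).symm)
    exact fun v hv => Subgroup.mem_centralizer_singleton_iff.mp (this hv)
  have hV1N : V1 ≤ Subgroup.normalizer ((cj g Z : Subgroup G) : Set G) := fun v hv =>
    (D.cent_norm hC hr1 hg (hV1r v hv)).2
  have hV12 : IsPGroup 2 V1 := (D.twoU.to_le D.VU).to_le hV1V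
  -- move `V_1` into `S` inside `N(Z)`
  have h1 : cj g⁻¹ V1 ≤ Subgroup.normalizer (Z : Set G) := by
    intro v hv
    rw [mem_cj, inv_inv] at hv
    have h2 := hV1N hv
    rw [mem_norm_iff, cj_mul, cj_mul] at h2
    have h3 := congrArg (cj g⁻¹) h2
    rw [cj_inv_cj, cj_inv_cj] at h3
    exact mem_norm_iff.mpr h3
  obtain ⟨c, hc, hcV⟩ := exists_conj_sylow_sub D.SZ S.isPGroup' (hSmax _) h1 (isPGroup_cj hV12)
  have hk : cj (c * g⁻¹) (cj g Z) = Z := by
    rw [cj_mul, cj_inv_cj, mem_norm_iff.mp hc]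
  have hkV : ∀ v ∈ V1, (c * g⁻¹) * v * (c * g⁻¹)⁻¹ ∈ (S : Subgroup G) := by
    intro v hv
    apply hcV
    rw [← cj_mul]
    exact conj_mem_cj hv
  obtain ⟨z1, hz1, hz11, hz1c⟩ := D.exists_cent E (g := 1) hk (fun a ha => hkV a (by
    rw [cj_one] at ha; exact Subgroup.mem_sup_left ha))
  rw [cj_one] at hz1
  obtain ⟨z2, hz2, hz21, hz2c⟩ := D.exists_cent E (g := u * n1) hk
    (fun a ha => hkV a (Subgroup.mem_sup_right ha))
  -- `R_r` normalises `Q` and `Z'`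
  have h2 : ∀ ρ ∈ cj g Z, ρ ∈ Subgroup.normalizer (U : Set G) := by
    intro ρ hρ
    have h3 := (D.cent_norm hC hz11 (g := 1) (by rwa [cj_one]) (hz1c ρ hρ).symm).1
    rw [cj_one] at h3
    have h4 := (D.cent_norm hC hz21 hz2 (hz2c ρ hρ).symm).2
    have h5 : Q ⊔ cj (u * n1) Z = U := by
      refine le_antisymm (sup_le D.QU (hZ'V.trans D.VU)) ?_
      rw [← D.QV_sup]
      refine sup_le le_sup_left ?_
      have h6 := cj_mono (g := u) D.Vdec
      rw [mem_norm_iff.mp (D.UV hu), cj_sup, mem_norm_iff.mp (D.UY hu), ← cj_mul] at h6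
      exact h6.trans (sup_le (D.YQ.trans le_sup_left) le_sup_right)
    rw [← h5]
    exact norm_sup h3 h4
  have hRV : cj g Z ≤ Subgroup.normalizer (V : Set G) := fun ρ hρ => D.NU_V E (h2 ρ hρ)
  -- move `R_r` into `S` inside `N(V)`
  obtain ⟨m, hm, hmR⟩ := exists_conj_sylow_sub D.SV S.isPGroup' (hSmax _) hRV
    (isPGroup_cj ((D.twoU.to_le D.VU).to_le D.ZV))
  -- an element of `R_r` in `m⁻¹ U m`
  obtain ⟨x, hx, hx1, hxU⟩ : ∃ x ∈ cj g Z, x ≠ 1 ∧ m * x * m⁻¹ ∈ U := by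
    obtain ⟨a, ha, b, hb, ha1, hb1, hab⟩ := D.Zbig
    have sq : ∀ c ∈ Z, (m * (g * c * g⁻¹) * m⁻¹) * (m * (g * c * g⁻¹) * m⁻¹) = 1 := by
      intro c hc
      rw [show m * (g * c * g⁻¹) * m⁻¹ * (m * (g * c * g⁻¹) * m⁻¹) = m * (g * (c * c) * g⁻¹) * m⁻¹ by
        group, D.sqZ hc]; group
    have ne : ∀ c : G, c ≠ 1 → g * c * g⁻¹ ≠ 1 := fun c hc h => hc (by simpa using h)
    have hab1 : a * b ≠ 1 := by
      intro h
      apply hab
      have h1 := D.sqZ hb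
      exact mul_right_cancel (h.trans h1.symm)
    have hmem : ∀ c ∈ Z, m * (g * c * g⁻¹) * m⁻¹ ∈ (S : Subgroup G) := fun c hc =>
      hmR (conj_mem_cj (conj_mem_cj hc))
    have hcomm : (m * (g * a * g⁻¹) * m⁻¹) * (m * (g * b * g⁻¹) * m⁻¹) =
        (m * (g * b * g⁻¹) * m⁻¹) * (m * (g * a * g⁻¹) * m⁻¹) := by
      rw [show m * (g * a * g⁻¹) * m⁻¹ * (m * (g * b * g⁻¹) * m⁻¹) = m * (g * (a * b) * g⁻¹) * m⁻¹ by
        group, D.commV a (D.ZV ha) b (D.ZV hb)]; group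
    rcases E.two _ (hmem a ha) _ (hmem b hb) (sq a ha) (sq b hb) hcomm with h | h | h
    · exact ⟨_, conj_mem_cj ha, ne a ha1, h⟩
    · exact ⟨_, conj_mem_cj hb, ne b hb1, h⟩
    · refine ⟨g * (a * b) * g⁻¹, conj_mem_cj (mul_mem ha hb), ne _ hab1, ?_⟩
      rwa [show m * (g * a * g⁻¹) * m⁻¹ * (m * (g * b * g⁻¹) * m⁻¹) = m * (g * (a * b) * g⁻¹) * m⁻¹ by
        group] at h
  -- `x` normalises the points `Z`, `Z'`
  have hxZ : x ∈ Subgroup.normalizer (Z : Set G) := by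
    have := (D.cent_norm hC hz11 (g := 1) (by rwa [cj_one]) (hz1c x hx).symm).2
    rwa [cj_one] at this
  have hxZ' : x ∈ Subgroup.normalizer ((cj (u * n1) Z : Subgroup G) : Set G) :=
    (D.cent_norm hC hz21 hz2 (hz2c x hx).symm).2
  have hZZ' : Z ≠ cj (u * n1) Z := by
    intro h
    have h3 := D.Y_inf_point hu
    rw [← h, inf_eq_right.mpr D.ZY] at h3
    exact D.Z_ne h3
  -- points `m Z`, `m Z'`
  have hm1 : m * (u * n1) ∈ Subgroup.normalizer (V : Set G) := mul_mem hm (D.P1.norm hg1)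
  obtain ⟨l, hl, e1⟩ := D.point_NV E hm
  obtain ⟨l', hl', e2⟩ := D.point_NV E hm1
  have hne : cj l Z ≠ cj l' Z := by
    rw [← e1, ← e2, cj_mul]
    intro h
    have := congrArg (cj m⁻¹) h
    rw [cj_inv_cj, cj_inv_cj] at this
    exact hZZ' this
  have hx'1 : m * x * m⁻¹ ∈ Subgroup.normalizer ((cj l Z : Subgroup G) : Set G) := by
    rw [← e1]
    refine norm_cj ?_
    rwa [show m⁻¹ * (m * x * m⁻¹) * m = x by group]
  have hx'2 : m * x * m⁻¹ ∈ Subgroup.normalizer ((cj l' Z : Subgroup G) : Set G) := by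
    rw [← e2, cj_mul]
    refine norm_cj ?_
    rwa [show m⁻¹ * (m * x * m⁻¹) * m = x by group]
  have hx'V : m * x * m⁻¹ ∈ V := by
    rcases D.point_eq hl with h3 | ⟨u1, hu1, h3⟩
    · rcases D.point_eq hl' with h4 | ⟨u2, hu2, h4⟩
      · exact absurd (h3.trans h4.symm) hne
      · rw [h4] at hx'2
        exact D.mem_V_of_norm_point hu2 hxU hx'2
    · rw [h3] at hx'1
      exact D.mem_V_of_norm_point hu1 hxU hx'1
  have hxV : x ∈ V := by
    have := conj_mem' hm hx'V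
    rwa [show m⁻¹ * (m * x * m⁻¹) * m = x by group] at this
  obtain ⟨k, hk', e3⟩ := D.fusV E hC hxV hx1 hx
  have h6 : cj g Z ≤ V := by
    rw [e3]
    have := cj_mono (g := k) D.ZV
    rwa [mem_norm_iff.mp (D.P1.norm hk')] at this
  exact hrU (D.VU (h6 hg))

/-- **(e)** THEOREM ALL for `U4(q)`. -/
theorem all {L W Z0 : Subgroup G} (hSL : (S : Subgroup G) ≤ L) (hWS : W ≤ S)
    (hLW : L ≤ Subgroup.normalizer (W : Set G)) (hWW : ∀ a ∈ W, ∀ b ∈ W, a * b = b * a)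
    (hZ0 : Z0 ≤ Z) (hZ01 : Z0 ≠ ⊥) (hZ0W : Z0 ≤ W) (hgen : W ≤ ⨆ l : L, cj (l : G) Z0) :
    L ≤ Subgroup.normalizer (V : Set G) ∨ L ≤ Subgroup.normalizer (Z : Set G) := by
  obtain ⟨⟨z0, hz0⟩, hz01'⟩ := Subgroup.ne_bot_iff_exists_ne_one.mp hZ01
  have hz01 : z0 ≠ 1 := fun h => hz01' (Subtype.ext h)
  have hcl : ∀ l : L, cj (l : G) Z0 ≤ W := by
    intro l x hx
    rw [mem_cj] at hx
    have := conj_mem (hLW l.2) (hZ0W hx)
    rwa [show (l : G) * ((l : G)⁻¹ * x * l) * (l : G)⁻¹ = x by group] at this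
  have hclZ : ∀ (l : G) {x : G}, x ∈ cj l Z0 → x ∈ cj l Z := fun l x hx => cj_mono hZ0 hx
  have hWU : W ≤ U := by
    refine hgen.trans (iSup_le fun l => ?_)
    intro x hx
    by_cases hx1 : x = 1
    · rw [hx1]; exact one_mem _
    · exact D.fusS E hC (hWS (hcl l hx)) hx1 (hclZ _ hx)
  by_cases hall : ∀ l : L, cj (l : G) Z0 ≤ Z
  · -- `W ≤ Z`
    right
    have hWZ : W ≤ Z := hgen.trans (iSup_le hall)
    intro g hg
    have h1 : g * z0 * g⁻¹ ∈ Z := hWZ (conj_mem (hLW hg) (hZ0W hz0))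
    exact mem_norm_iff.mpr (D.ti hC (hZ0 hz0) hz01 h1)
  · left
    push Not at hall
    obtain ⟨l, hl⟩ := hall
    obtain ⟨x, hx, hxZ⟩ := SetLike.not_le_iff_exists.mp hl
    have hx1 : x ≠ 1 := fun h => hxZ (h ▸ one_mem _)
    have hxW := hcl l hx
    obtain ⟨hxV, u, hu, e1⟩ : x ∈ V ∧ ∃ u ∈ U, cj (l : G) Z = cj (u * n1) Z := by
      rcases D.fusU E hC (hWU hxW) hx1 (hclZ _ hx) with h | h
      · exact absurd (h ▸ hclZ _ hx) hxZ
      · exact h
    have hUW : U ≤ Subgroup.normalizer (W : Set G) := (D.US.trans hSL).trans hLW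
    -- `z' = u⁻¹ x u ∈ Z^{n1}`
    set z' := u⁻¹ * x * u with hz'
    have hz'W : z' ∈ W := conj_mem' (hUW hu) hxW
    have hz'E : z' ∈ cj n1 Z := by
      have h1 : x ∈ cj (u * n1) Z := e1 ▸ hclZ _ hx
      rw [cj_mul, mem_cj] at h1
      exact h1
    have hz'1 : z' ≠ 1 := by
      intro h
      apply hx1
      calc x = u * z' * u⁻¹ := by rw [hz']; group
        _ = 1 := by rw [h]; group
    have hz'V : z' ∈ V := D.EV hz'E
    -- the group `T = [U, z']`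
    set T : Subgroup G := ⁅U, Subgroup.zpowers z'⁆ with hT
    have hzz : Subgroup.zpowers z' ≤ V := by rw [Subgroup.zpowers_le]; exact hz'V
    have hTY : T ≤ Y := by
      rw [hT, D.Ydef, Subgroup.commutator_comm]
      exact Subgroup.commutator_mono hzz le_rfl
    have hUT : U ≤ Subgroup.normalizer (T : Set G) := by
      rw [hT]
      exact le_norm_commutator _ _
    have hA0U : A0 ≤ Subgroup.normalizer (U : Set G) := D.AH.trans D.HU
    have hA0z : ∀ a ∈ A0, a * z' * a⁻¹ = z' := by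
      intro a ha
      have h1 : n1⁻¹ * a * n1 ∈ A0 := conj_mem' (mem_norm_iff.mpr D.n1A) ha
      have h2 : n1⁻¹ * z' * n1 ∈ Z := mem_cj.mp hz'E
      have h3 := D.AZ _ h1 _ h2
      calc a * z' * a⁻¹ = n1 * ((n1⁻¹ * a * n1) * (n1⁻¹ * z' * n1)) * (n1⁻¹ * a * n1)⁻¹ * n1⁻¹ := by
            group
        _ = n1 * ((n1⁻¹ * z' * n1) * (n1⁻¹ * a * n1)) * (n1⁻¹ * a * n1)⁻¹ * n1⁻¹ := by rw [h3]
        _ = z' := by group
    have hA0T : A0 ≤ Subgroup.normalizer (T : Set G) := by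
      intro a ha
      rw [mem_norm_iff, hT, cj_comm, mem_norm_iff.mp (hA0U ha)]
      congr 1
      show (Subgroup.zpowers z').map (MulAut.conj a).toMonoidHom = _
      rw [MonoidHom.map_zpowers]
      show Subgroup.zpowers (a * z' * a⁻¹) = _
      rw [hA0z a ha]
    have hYT : Y ≤ T := by
      rcases D.irrY (Z ⊔ T) le_sup_left (sup_le D.ZY hTY)
        (fun a ha => norm_sup (D.HZ (D.AH ha)) (hA0T ha)) with h1 | h1
      · exfalso
        have hTZ : T ≤ Z := by rw [← h1]; exact le_sup_right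
        have h2 : z' ∈ Y := D.Yup z' hz'V fun u' hu' => by
          have h3 : u' * z' * u'⁻¹ * z'⁻¹ ∈ T :=
            Subgroup.commutator_mem_commutator hu' (Subgroup.mem_zpowers z')
          have h4 := inv_mem (hTZ h3)
          rwa [show (u' * z' * u'⁻¹ * z'⁻¹)⁻¹ = z' * u' * z'⁻¹ * u'⁻¹ by group] at h4
        have h3 : z' ∈ Y ⊓ cj n1 Z := Subgroup.mem_inf.mpr ⟨h2, hz'E⟩
        rw [D.Edis, Subgroup.mem_bot] at h3
        exact hz'1 h3
      · -- `Z ≤ [Y, U] = [T, U] ≤ T`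
        have h2 : ⁅Y, U⁆ ≤ T := by
          rw [Subgroup.commutator_le]
          intro y hy w hw
          rw [← h1] at hy
          obtain ⟨z, hz, t, ht, rfl⟩ := mem_sup_norm (D.ZleU.trans hUT) hy
          have h3 := D.zu hz hw
          have e : z * t * w * (z * t)⁻¹ * w⁻¹ = z * (t * (w * t⁻¹ * w⁻¹)) * z⁻¹ := by
            calc z * t * w * (z * t)⁻¹ * w⁻¹ = z * t * w * t⁻¹ * (z⁻¹ * w⁻¹) := by group
              _ = z * t * w * t⁻¹ * (w⁻¹ * z⁻¹) := by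
                rw [show z⁻¹ * w⁻¹ = (w * z)⁻¹ by group, ← h3]; group
              _ = _ := by group
          show z * t * w * (z * t)⁻¹ * w⁻¹ ∈ T
          rw [e]
          exact conj_mem (hUT (D.ZleU hz)) (mul_mem ht (conj_mem (hUT hw) (inv_mem ht)))
        have h3 : Z ≤ T := D.Zle.trans h2
        rw [← h1]
        exact sup_le h3 le_rfl
    have hTW : T ≤ W := by
      rw [hT, Subgroup.commutator_le]
      intro a ha b hb
      have hbW : b ∈ W := (Subgroup.zpowers_le.mpr hz'W) hb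
      exact mul_mem (conj_mem (hUW ha) hbW) (inv_mem hbW)
    have hYW := hYT.trans hTW
    have hWV : W ≤ V := fun w hw => D.cUY w (hWU hw) fun y hy => hWW y (hYW hy) w hw
    -- `V = ⟨Z^g : Z^g ∩ W ≠ 1⟩`
    have hVeq : V = ⨆ g : {g : G // ∃ y ∈ cj g Z, y ∈ W ∧ y ≠ 1}, cj (g : G) Z := by
      refine le_antisymm ?_ (iSup_le ?_)
      · have hbig : ∀ g : G, (∃ y ∈ cj g Z, y ∈ W ∧ y ≠ 1) →
            cj g Z ≤ ⨆ g : {g : G // ∃ y ∈ cj g Z, y ∈ W ∧ y ≠ 1}, cj (g : G) Z := fun g hg =>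
          le_iSup (fun g : {g : G // ∃ y ∈ cj g Z, y ∈ W ∧ y ≠ 1} => cj (g : G) Z) ⟨g, hg⟩
        set B := ⨆ g : {g : G // ∃ y ∈ cj g Z, y ∈ W ∧ y ≠ 1}, cj (g : G) Z with hB
        have hn1B : cj n1 Z ≤ B := hbig n1 ⟨z', hz'E, hz'W, hz'1⟩
        have hTB : T ≤ B := by
          rw [hT, Subgroup.commutator_le]
          intro a ha b hb
          have hb' : b ∈ cj n1 Z := (Subgroup.zpowers_le.mpr hz'E) hb
          refine mul_mem ?_ (inv_mem (hn1B hb'))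
          have h3 : cj (a * n1) Z ≤ B := by
            refine hbig _ ⟨a * z' * a⁻¹, ?_, conj_mem (hUW ha) hz'W, ?_⟩
            · rw [cj_mul]; exact conj_mem_cj hz'E
            · intro h
              apply hz'1
              simpa using h
          apply h3
          rw [cj_mul]; exact conj_mem_cj hb'
        exact D.Vdec.trans (sup_le (hYT.trans hTB) hn1B)
      · rintro ⟨g, y, hy, hyW, hy1⟩
        obtain ⟨k, hk, e⟩ := D.fusV E hC (hWV hyW) hy1 hy
        show cj g Z ≤ V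
        rw [e]
        have := cj_mono (g := k) D.ZV
        rwa [mem_norm_iff.mp (D.P1.norm hk)] at this
    refine le_normalizer_of fun a ha => ?_
    have h1 : cj a V ≤ ⨆ g : {g : G // ∃ y ∈ cj g Z, y ∈ W ∧ y ≠ 1}, cj (g : G) Z := by
      conv_lhs => rw [hVeq]
      unfold cj
      rw [Subgroup.map_iSup]
      refine iSup_le ?_
      rintro ⟨g, y, hy, hyW, hy1⟩
      have h2 := le_iSup (fun g : {g : G // ∃ y ∈ cj g Z, y ∈ W ∧ y ≠ 1} => cj (g : G) Z)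
        ⟨a * g, a * y * a⁻¹, by rw [cj_mul]; exact conj_mem_cj hy, conj_mem (hLW ha) hyW, by
          intro h
          apply hy1
          simpa using h⟩
      have h3 : cj (a * g) Z = cj a (cj g Z) := cj_mul _ _ _
      have h4 : cj (a * g) Z ≤ ⨆ g : {g : G // ∃ y ∈ cj g Z, y ∈ W ∧ y ≠ 1}, cj (g : G) Z := h2
      rw [h3] at h4
      exact h4
    rwa [← hVeq] at h1

end FusionS

end Data

end Cfsg.Agent.RankTwoClose.UFour
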