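import Cfsg.Agent.RankTwoClose.UFour.Model

/-!
# The torus and the reflection in the natural `O4^-(q)`-module

For a complement `H1` of `U` in `N_{L1}(U)` the basis can be chosen so that `H1` is diagonal; there is
an involution `n1` inverting `H1`.
-/

set_option autoImplicit false
set_option linter.unusedSectionVars false

namespace Cfsg.Agent.RankTwoClose.UFour

open MField

namespace Model

variable {G : Type*} [Group G] {K : Type*} [Field K] [CharP K 2] {s : K ≃+* K}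
  {V L : Subgroup G} (m : Model K s V L)

/-! ### Change of basis -/

theorem map_mul' (M N : Matrix (Fin 2) (Fin 2) K) : (M * N).map s = M.map s * N.map s := by
  ext i j
  simp [Matrix.mul_apply, Matrix.map_apply]

theorem map_map' (hs : ∀ k, s (s k) = k) (M : Matrix (Fin 2) (Fin 2) K) : (M.map s).map s = M := by
  ext i j
  simp [Matrix.map_apply, hs]

theorem star_star (hs : ∀ k, s (s k) = k) (M : Matrix (Fin 2) (Fin 2) K) :
    (M.transpose.map s).transpose.map s = M := by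
  ext i j
  simp [Matrix.map_apply, hs]

theorem star_mul (M N : Matrix (Fin 2) (Fin 2) K) :
    (M * N).transpose.map s = N.transpose.map s * M.transpose.map s := by
  rw [Matrix.transpose_mul, map_mul']

theorem star_one : (1 : Matrix (Fin 2) (Fin 2) K).transpose.map s = 1 := by
  rw [Matrix.transpose_one]
  exact Matrix.map_one s (map_zero s) (map_one s)

theorem cancel4 {A B M C D : Matrix (Fin 2) (Fin 2) K} (h1 : B * A = 1) (h2 : C * D = 1) :
    B * (A * M * C) * D = M := by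
  calc B * (A * M * C) * D = (B * A) * M * (C * D) := by simp only [mul_assoc]
    _ = M := by rw [h1, h2, one_mul, mul_one]

theorem act4 {A B M C D P Q : Matrix (Fin 2) (Fin 2) K} (h1 : B * A = 1) (h2 : C * D = 1) :
    A * (P * M * Q) * C = A * P * B * (A * M * C) * (D * (Q * C)) := by
  calc A * (P * M * Q) * C = A * P * 1 * M * 1 * (Q * C) := by simp only [mul_assoc, one_mul]
    _ = A * P * (B * A) * M * (C * D) * (Q * C) := by rw [h1, h2]
    _ = _ := by simp only [mul_assoc]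

/-- Conjugation by `g`. -/
def conj (hs : ∀ k, s (s k) = k) (g : Matrix.SpecialLinearGroup (Fin 2) K) : Model K s V L where
  le := m.le
  π := (MulAut.conj g).toMonoidHom.comp m.π
  surj := (MulAut.conj g).surjective.comp m.surj
  ker x := by
    rw [← m.ker]
    show g * m.π x * g⁻¹ = 1 ↔ m.π x = 1
    rw [mul_inv_eq_one, mul_eq_left]
  norm := m.norm
  h v := (g : Matrix (Fin 2) (Fin 2) K) * m.h v * ((g : Matrix (Fin 2) (Fin 2) K).transpose.map s)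
  mul v w := by rw [m.mul, mul_add, add_mul]
  herm v := by
    rw [star_mul, star_mul, star_star hs, m.herm, mul_assoc]
  inj v hv := by
    apply m.inj
    have h1 : ((g⁻¹ : Matrix.SpecialLinearGroup (Fin 2) K) : Matrix (Fin 2) (Fin 2) K) *
        (g : Matrix (Fin 2) (Fin 2) K) = 1 := by
      rw [← Matrix.SpecialLinearGroup.coe_mul, inv_mul_cancel, Matrix.SpecialLinearGroup.coe_one]
    have h2 : ((g : Matrix (Fin 2) (Fin 2) K).transpose.map s) *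
        (((g⁻¹ : Matrix.SpecialLinearGroup (Fin 2) K) : Matrix (Fin 2) (Fin 2) K).transpose.map s)
          = 1 := by
      rw [← star_mul, h1, star_one]
    rw [← cancel4 (M := m.h v) h1 h2, hv, mul_zero, zero_mul]
  onto M hM := by
    have h1 : (g : Matrix (Fin 2) (Fin 2) K) *
        ((g⁻¹ : Matrix.SpecialLinearGroup (Fin 2) K) : Matrix (Fin 2) (Fin 2) K) = 1 := by
      rw [← Matrix.SpecialLinearGroup.coe_mul, mul_inv_cancel, Matrix.SpecialLinearGroup.coe_one]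
    have h2 : (((g⁻¹ : Matrix.SpecialLinearGroup (Fin 2) K) :
          Matrix (Fin 2) (Fin 2) K).transpose.map s) *
        ((g : Matrix (Fin 2) (Fin 2) K).transpose.map s) = 1 := by
      rw [← star_mul, h1, star_one]
    obtain ⟨v, hv⟩ := m.onto
      (((g⁻¹ : Matrix.SpecialLinearGroup (Fin 2) K) : Matrix (Fin 2) (Fin 2) K) * M *
        (((g⁻¹ : Matrix.SpecialLinearGroup (Fin 2) K) :
          Matrix (Fin 2) (Fin 2) K).transpose.map s)) (by
      rw [star_mul, star_mul, star_star hs, hM, mul_assoc])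
    refine ⟨v, ?_⟩
    rw [hv]
    exact cancel4 h1 h2
  act x v := by
    rw [m.act]
    have h1 : ((g⁻¹ : Matrix.SpecialLinearGroup (Fin 2) K) : Matrix (Fin 2) (Fin 2) K) *
        (g : Matrix (Fin 2) (Fin 2) K) = 1 := by
      rw [← Matrix.SpecialLinearGroup.coe_mul, inv_mul_cancel, Matrix.SpecialLinearGroup.coe_one]
    have h2 : ((g : Matrix (Fin 2) (Fin 2) K).transpose.map s) *
        (((g⁻¹ : Matrix.SpecialLinearGroup (Fin 2) K) : Matrix (Fin 2) (Fin 2) K).transpose.map s)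
          = 1 := by
      rw [← star_mul, h1, star_one]
    have e : (((MulAut.conj g).toMonoidHom.comp m.π) x : Matrix.SpecialLinearGroup (Fin 2) K) =
        g * m.π x * g⁻¹ := rfl
    rw [e, Matrix.SpecialLinearGroup.coe_mul, Matrix.SpecialLinearGroup.coe_mul, star_mul, star_mul]
    exact act4 h1 h2

theorem conj_P (hs : ∀ k, s (s k) = k) (g : Matrix.SpecialLinearGroup (Fin 2) K) (x : L)
    (i j : Fin 2) : (m.conj hs g).P x i j =
      (((g * m.π x * g⁻¹ : Matrix.SpecialLinearGroup (Fin 2) K) :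
        Matrix (Fin 2) (Fin 2) K)) i j := rfl

theorem exists_conj (hs : ∀ k, s (s k) = k) (g : L) : ∃ m' : Model K s V L,
    ∀ x i j, m'.P x i j = m.P (g * x * g⁻¹) i j :=
  ⟨m.conj hs (m.π g), fun x i j => by
    rw [conj_P]
    unfold P
    rw [map_mul, map_mul, map_inv]⟩

/-! ### The torus -/

variable {m}

theorem IsT.mul {t t' : K} {x y : L} (h : m.IsT t x) (h' : m.IsT t' y) : m.IsT (t * t') (x * y) := by
  obtain ⟨h0, h1, h2, h3, h4⟩ := h
  obtain ⟨g0, g1, g2, g3, g4⟩ := h'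
  refine ⟨mul_ne_zero h0 g0, ?_, ?_, ?_, ?_⟩
  · rw [m.P_mul, h1, h2, g1, zero_mul, add_zero]
  · rw [m.P_mul, h2, g2, zero_mul, mul_zero, add_zero]
  · rw [m.P_mul, h3, g3, zero_mul, mul_zero, add_zero]
  · rw [m.P_mul, h3, h4, g4, zero_mul, zero_add, mul_inv]

variable (m) in
theorem isT_one : m.IsT 1 1 := by
  refine ⟨one_ne_zero, ?_, ?_, ?_, ?_⟩ <;> rw [m.P_one] <;> simp

theorem IsT.zpow {t : K} {x : L} (h : m.IsT t x) (k : ℤ) : m.IsT (t ^ k) (x ^ k) := by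
  induction k using Int.induction_on with
  | zero => rw [zpow_zero, zpow_zero]; exact m.isT_one
  | succ k ih =>
    rw [zpow_add_one, zpow_add_one₀ h.1]
    exact ih.mul h
  | pred k ih =>
    rw [zpow_sub_one, zpow_sub_one₀ h.1]
    exact ih.mul h.inv

theorem IsT.unique {t t' : K} {x : L} (h : m.IsT t x) (h' : m.IsT t' x) : t = t' := by
  rw [← h.2.1, h'.2.1]

/-- `H1` is generated by a diagonal element of maximal order. -/
structure Std (m : Model K s V L) (H1 : Subgroup G) (ζ : Kˣ) (h : L) : Prop where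
  mem : (h : G) ∈ H1
  T : m.IsT (ζ : K) h
  gen : ∀ x ∈ H1, ∃ k : ℤ, x = (h : G) ^ k
  all : ∀ t : Kˣ, ∃ k : ℤ, ζ ^ k = t

namespace Std

variable {H1 : Subgroup G} {ζ : Kˣ} {h : L} (S : Std m H1 ζ h)
  (hs : ∀ k, s (s k) = k) (hne : s ≠ RingEquiv.refl K)

include S

theorem onto : ∀ t : K, t ≠ 0 → ∃ x : L, (x : G) ∈ H1 ∧ m.IsT t x := by
  intro t ht
  obtain ⟨k, hk⟩ := S.all (Units.mk0 t ht)
  refine ⟨h ^ k, ?_, ?_⟩
  · rw [Subgroup.coe_zpow]; exact zpow_mem S.mem k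
  · have := S.T.zpow k
    rwa [← Units.val_zpow_eq_zpow_val, hk] at this

theorem isT : ∀ x ∈ H1, ∃ y : L, (y : G) = x ∧ ∃ t, m.IsT t y := by
  intro x hx
  obtain ⟨k, rfl⟩ := S.gen x hx
  exact ⟨h ^ k, Subgroup.coe_zpow _ _ _, _, S.T.zpow k⟩

include hne in
theorem ζ_moved : s (ζ : K) ≠ ζ := by
  intro hfix
  apply hne
  ext x
  show s x = x
  by_cases hx : x = 0
  · rw [hx, map_zero]
  · obtain ⟨k, hk⟩ := S.all (Units.mk0 x hx)
    have e : x = (ζ : K) ^ k := by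
      have := congrArg Units.val hk
      rw [Units.val_zpow_eq_zpow_val] at this
      exact this.symm
    rw [e, map_zpow₀, hfix]

include hs hne in
theorem ζ_norm [Finite K] (hK : 4 < Nat.card K) : (ζ : K) * s (ζ : K) ≠ 1 := by
  intro h1
  obtain ⟨f, hf, hf0, hf1⟩ := exists_fix hs hne hK
  obtain ⟨t, ht⟩ := exists_norm (s := s) hf
  have ht0 : t ≠ 0 := by
    intro h
    rw [h, zero_mul] at ht
    exact hf0 ht.symm
  obtain ⟨k, hk⟩ := S.all (Units.mk0 t ht0)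
  have e : t = (ζ : K) ^ k := by
    have := congrArg Units.val hk
    rw [Units.val_zpow_eq_zpow_val] at this
    exact this.symm
  rw [e, map_zpow₀, ← mul_zpow, h1, one_zpow] at ht
  exact hf1 ht.symm

include hne in
theorem ζ_one : (ζ : K) ≠ 1 := fun h1 => S.ζ_moved hne (by rw [h1, map_one])

/-- `h` has no fixed points on `V`. -/
theorem fix_eq_one [Finite K] (hs : ∀ k, s (s k) = k) (hne : s ≠ RingEquiv.refl K)
    (hK : 4 < Nat.card K) {v : V} (hv : m.cg h v = v) : v = 1 := by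
  obtain ⟨h1, h2, h3⟩ := S.T.act v
  rw [hv] at h1 h2 h3
  have hsζ : s (ζ : K) ≠ 0 := fun h => ζ.ne_zero (s.injective (by rw [h, map_zero]))
  refine m.eq_one ?_ ?_ ?_
  · by_contra ha
    exact S.ζ_norm hs hne hK (mul_right_cancel₀ ha (by rw [one_mul]; exact h1.symm))
  · by_contra ha
    have := mul_right_cancel₀ ha (show (ζ : K) * (s ζ)⁻¹ * m.b v = 1 * m.b v by
      rw [one_mul]; exact h2.symm)
    exact S.ζ_moved hne ((mul_inv_eq_one₀ hsζ).mp this).symm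
  · by_contra ha
    have := mul_right_cancel₀ ha (show (ζ : K)⁻¹ * (s ζ)⁻¹ * m.c v = 1 * m.c v by
      rw [one_mul]; exact h3.symm)
    rw [← mul_inv, inv_eq_one] at this
    exact S.ζ_norm hs hne hK this

/-- An involution inverting the torus. -/
theorem exists_n [Finite K] [Finite V] (hs : ∀ k, s (s k) = k) (hne : s ≠ RingEquiv.refl K)
    (hK : 4 < Nat.card K) : ∃ n : L, m.IsN 1 n ∧ n * n = 1 ∧ n * h * n⁻¹ = h⁻¹ := by
  obtain ⟨n0, p1, p2, p3, p4⟩ := m.exists_P (p := 0) (q := 1) (r := 1) (t := 0) (by ring)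
  have hn0 : m.IsN 1 n0 := ⟨one_ne_zero, p1, p2, by rw [p3, inv_one], p4⟩
  -- `n0 h n0⁻¹ h ∈ V`
  have hv : ((n0 * h * n0⁻¹ * h : L) : G) ∈ V := by
    obtain ⟨g1, g2, g3, g4⟩ := m.P_inv n0
    obtain ⟨h0, t1, t2, t3, t4⟩ := S.T
    rw [m.mem_V_iff]
    have hζ := ζ.ne_zero
    refine ⟨?_, ?_, ?_, ?_⟩
    · simp only [m.P_mul, g1, g2, g3, g4, p1, p2, p3, p4, t1, t2, t3, t4]
      field_simp
      ring
    · simp only [m.P_mul, g1, g2, g3, g4, p1, p2, p3, p4, t1, t2, t3, t4]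
      ring
    · simp only [m.P_mul, g1, g2, g3, g4, p1, p2, p3, p4, t1, t2, t3, t4]
      ring
    · simp only [m.P_mul, g1, g2, g3, g4, p1, p2, p3, p4, t1, t2, t3, t4]
      field_simp
      ring
  -- `w ↦ w (h⁻¹ w h)` is onto
  let f : V → V := fun w => w * m.cg h⁻¹ w
  have hinj : Function.Injective f := by
    intro w w' hw
    have h1 : m.cg h (w * w') = w * w' := by
      -- `w (h⁻¹ w h) = w' (h⁻¹ w' h)`, so `w w'` is fixed by `h⁻¹`
      have h2 : m.cg h⁻¹ (w * w') = w * w' := by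
        have e1 : m.cg h⁻¹ (w * w') = m.cg h⁻¹ w * m.cg h⁻¹ w' := Subtype.ext (by
          show ((h⁻¹ : L) : G) * (w * w') * ((h⁻¹ : L) : G)⁻¹ =
            ((h⁻¹ : L) : G) * w * ((h⁻¹ : L) : G)⁻¹ * (((h⁻¹ : L) : G) * w' * ((h⁻¹ : L) : G)⁻¹)
          group)
        have e2 : w * m.cg h⁻¹ w = w' * m.cg h⁻¹ w' := hw
        have e3 : m.cg h⁻¹ w = w * (w' * m.cg h⁻¹ w') := by
          rw [← e2, ← mul_assoc, m.mul_self, one_mul]
        rw [e1, e3]
        calc w * (w' * m.cg h⁻¹ w') * m.cg h⁻¹ w' = w * w' * (m.cg h⁻¹ w' * m.cg h⁻¹ w') := by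
              simp only [mul_assoc]
          _ = w * w' := by rw [m.mul_self, mul_one]
      have e4 : m.cg h (m.cg h⁻¹ (w * w')) = w * w' := Subtype.ext (by
        show (h : G) * (((h⁻¹ : L) : G) * (w * w') * ((h⁻¹ : L) : G)⁻¹) * (h : G)⁻¹ = w * w'
        rw [Subgroup.coe_inv]
        group)
      rw [h2] at e4
      exact e4
    have h3 := S.fix_eq_one hs hne hK h1
    rw [← m.inv_eq w]
    exact inv_eq_of_mul_eq_one_right h3
  obtain ⟨w, hw⟩ := (Finite.surjective_of_injective hinj) ⟨_, hv⟩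
  have hwL : (w : G) ∈ L := m.le w.2
  have hPw := (m.mem_V_iff ⟨w, hwL⟩).1 w.2
  set w' : L := ⟨w, hwL⟩ with hw'
  -- the relation `w h⁻¹ w h = n0 h n0⁻¹ h`
  have key : w' * (h⁻¹ * w' * h) = n0 * h * n0⁻¹ * h := by
    apply Subtype.ext
    have e1 : ((f w : V) : G) = _ := congrArg Subtype.val hw
    have e2 : ((f w : V) : G) = (w : G) * (((h⁻¹ : L) : G) * w * ((h⁻¹ : L) : G)⁻¹) := rfl
    rw [e2] at e1
    rw [Subgroup.coe_inv, inv_inv] at e1
    exact e1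
  have hw2 : w'⁻¹ = w' := Subtype.ext (by
    show ((w : G))⁻¹ = w
    exact congrArg Subtype.val (m.inv_eq w))
  have hN : m.IsN 1 (w'⁻¹ * n0) := by
    obtain ⟨g1, g2, g3, g4⟩ := m.P_inv w'
    obtain ⟨q1, q2, q3, q4⟩ := hPw
    refine ⟨one_ne_zero, ?_, ?_, ?_, ?_⟩
    · rw [m.P_mul, g1, g2, p1, p3, q2, q4]; ring
    · rw [m.P_mul, g1, g2, p2, p4, q2, q4]; ring
    · rw [m.P_mul, g3, g4, p1, p3, q1, q3, inv_one]; ring
    · rw [m.P_mul, g3, g4, p2, p4, q1, q3]; ring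
  have hinv : (w'⁻¹ * n0) * h * (w'⁻¹ * n0)⁻¹ = h⁻¹ := by
    have e1 : n0 * h * n0⁻¹ = w' * h⁻¹ * w' := by
      have := congrArg (· * h⁻¹) key
      simp only [mul_inv_cancel_right] at this
      rw [← this]
      group
    calc (w'⁻¹ * n0) * h * (w'⁻¹ * n0)⁻¹ = w'⁻¹ * (n0 * h * n0⁻¹) * w' := by group
      _ = w'⁻¹ * (w' * h⁻¹ * w'⁻¹) * w' := by rw [e1, hw2]
      _ = h⁻¹ := by group
  refine ⟨w'⁻¹ * n0, hN, ?_, hinv⟩
  set n := w'⁻¹ * n0
  -- `n * n ∈ V` is centralised by `h`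
  have hnn : ((n * n : L) : G) ∈ V := by
    obtain ⟨-, g1, g2, g3, g4⟩ := hN
    rw [inv_one] at g3
    rw [m.mem_V_iff]
    refine ⟨?_, ?_, ?_, ?_⟩
    · rw [m.P_mul, g1, g2, g3]; ring
    · rw [m.P_mul, g1, g2, g4]; ring
    · rw [m.P_mul, g1, g3, g4]; ring
    · rw [m.P_mul, g2, g3, g4]; ring
  have hfix : m.cg h ⟨_, hnn⟩ = ⟨_, hnn⟩ := by
    apply Subtype.ext
    show (h : G) * ((n * n : L) : G) * (h : G)⁻¹ = ((n * n : L) : G)
    have e1 : h * (n * n) * h⁻¹ = n * n := by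
      have e2 : n * h⁻¹ * n⁻¹ = h := by
        calc n * h⁻¹ * n⁻¹ = (n * h * n⁻¹)⁻¹ := by group
          _ = h := by rw [hinv, inv_inv]
      calc h * (n * n) * h⁻¹ = (n * h⁻¹ * n⁻¹) * (n * n) * h⁻¹ := by rw [e2]
        _ = n * (h⁻¹ * (n * h * n⁻¹)⁻¹) * n := by group
        _ = n * n := by rw [hinv, inv_inv, inv_mul_cancel, mul_one]
    exact congrArg Subtype.val e1
  have h5 := S.fix_eq_one hs hne hK hfix
  apply Subtype.ext
  have h6 : (((⟨_, hnn⟩ : V)) : G) = ((1 : V) : G) := congrArg Subtype.val h5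
  exact h6

end Std

/-! ### A given complement is diagonal in a suitable basis -/

section Diag

variable {H1 : Subgroup G} (hs : ∀ k, s (s k) = k) (hne : s ≠ RingEquiv.refl K)

theorem IsU.sq_mem {x : L} (h : m.IsU x) : ((x * x : L) : G) ∈ V := by
  obtain ⟨h1, h2, h3⟩ := h
  rw [m.mem_V_iff]
  refine ⟨?_, ?_, ?_, ?_⟩
  · rw [m.P_mul, h1, h2]; ring
  · rw [m.P_mul, h1, h3, one_mul, mul_one, add_self]
  · rw [m.P_mul, h2]; ring
  · rw [m.P_mul, h2, h3]; ring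

theorem IsU.pow_four {x : L} (h : m.IsU x) : x ^ 4 = 1 := by
  have h1 := h.sq_mem
  have h2 := m.sqV _ h1
  apply Subtype.ext
  rw [Subgroup.coe_mul] at h2
  rw [Subgroup.coe_pow]
  rw [show (4 : ℕ) = 2 * 2 by norm_num, pow_mul, pow_two, pow_two]
  exact h2

/-- Odd order elements of `U` are trivial. -/
theorem IsU.eq_one_of_odd {x : L} (h : m.IsU x) (hx : (x : G) ∈ H1) (hodd : Odd (Nat.card H1)) :
    x = 1 := by
  have h1 : orderOf (x : G) ∣ 4 := orderOf_dvd_of_pow_eq_one (by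
    rw [← Subgroup.coe_pow, h.pow_four]; rfl)
  have h2 : orderOf (x : G) ∣ Nat.card H1 := Subgroup.orderOf_dvd_natCard H1 hx
  have h3 : Nat.Coprime 4 (Nat.card H1) := by
    rw [show 4 = 2 ^ 2 by norm_num]
    exact (Nat.coprime_two_left.mpr hodd).pow_left 2
  have h4 : orderOf (x : G) = 1 := Nat.eq_one_of_dvd_coprimes h3 h1 h2
  exact Subtype.ext (orderOf_eq_one_iff.mp h4)

variable (m) in
include hs in
theorem conj_diag [Finite K] (hL : H1 ≤ L) (hU : H1 ≤ Subgroup.normalizer (m.U : Set G))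
    (hodd : Odd (Nat.card H1)) (hcov : ∀ g ∈ L, cj g m.U = m.U → g ∈ m.U ⊔ H1) 
    (h1K : ∃ t : K, t ≠ 0 ∧ t ≠ 1) :
    ∃ (m' : Model K s V L) (ζ : Kˣ) (h : L), (∀ x : L, m'.IsU x ↔ m.IsU x) ∧ Std m' H1 ζ h := by
  -- elements of `H1`
  have hlow : ∀ x : L, (x : G) ∈ H1 → m.P x 1 0 = 0 := fun x hx =>
    borel_of_cjU (mem_norm_iff.1 (hU hx))
  have h11 : ∀ x : L, (x : G) ∈ H1 → m.P x 0 0 * m.P x 1 1 = 1 := fun x hx => by
    have := m.P_det x
    rwa [hlow x hx, mul_zero, add_zero] at this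
  let τ0 : H1 →* K :=
    { toFun := fun x => m.P ⟨x, hL x.2⟩ 0 0
      map_one' := by
        have : (⟨((1 : H1) : G), hL (1 : H1).2⟩ : L) = 1 := rfl
        rw [this, m.P_one]; simp
      map_mul' := fun x y => by
        have : (⟨((x * y : H1) : G), hL (x * y).2⟩ : L) = ⟨x, hL x.2⟩ * ⟨y, hL y.2⟩ := rfl
        rw [this, m.P_mul, hlow ⟨y, hL y.2⟩ y.2, mul_zero, add_zero] }
  let τ : H1 →* Kˣ := MonoidHom.toHomUnits τ0
  have hτ : ∀ x : H1, (τ x : K) = m.P ⟨x, hL x.2⟩ 0 0 := fun x => rfl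
  have hinj : Function.Injective τ := by
    rw [injective_iff_map_eq_one]
    intro x hx
    have h1 : m.P ⟨x, hL x.2⟩ 0 0 = 1 := by rw [← hτ, hx]; rfl
    have h2 := h11 ⟨x, hL x.2⟩ x.2
    rw [h1, one_mul] at h2
    have h3 : m.IsU ⟨x, hL x.2⟩ := ⟨h1, hlow _ x.2, h2⟩
    have h4 := h3.eq_one_of_odd (H1 := H1) x.2 hodd
    have h5 : ((⟨x, hL x.2⟩ : L) : G) = ((1 : L) : G) := congrArg Subtype.val h4
    exact Subtype.ext h5
  have hsurj : Function.Surjective τ := by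
    intro t
    obtain ⟨g, p1, p2, p3, p4⟩ := m.exists_P (p := (t : K)) (q := 0) (r := 0) (t := (t : K)⁻¹)
      (by rw [mul_inv_cancel₀ t.ne_zero]; ring)
    have h1 := hcov g g.2 (cjU_of_borel p3)
    have h2 : (g : G) ∈ ((m.U ⊔ H1 : Subgroup G) : Set G) := h1
    rw [Subgroup.coe_mul_of_right_le_normalizer_left _ _ hU] at h2
    obtain ⟨_, ⟨u, rfl, hu⟩, x, hx, hux⟩ := h2
    refine ⟨⟨x, hx⟩, Units.ext ?_⟩
    rw [hτ]
    have h3 : (⟨x, hL hx⟩ : L) = u⁻¹ * g := Subtype.ext (by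
      show x = (u : G)⁻¹ * g
      rw [← hux]
      simp)
    rw [h3, m.P_mul, p1, p3, (m.P_inv u).1, hu.2.2, one_mul, mul_zero, add_zero]
  obtain ⟨ζ, hζ⟩ := IsCyclic.exists_generator (α := Kˣ)
  obtain ⟨x0, hx0⟩ := hsurj ζ
  set h : L := ⟨x0, hL x0.2⟩ with hdef
  have hh : m.P h 0 0 = ζ := by rw [← hx0]; rfl
  have hζ1 : (ζ : K) ≠ 1 := by
    intro h1
    obtain ⟨t, ht0, ht1⟩ := h1K
    obtain ⟨k, hk⟩ := Subgroup.mem_zpowers_iff.1 (hζ (Units.mk0 t ht0))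
    apply ht1
    have h2 : ζ = 1 := Units.ext h1
    rw [h2, one_zpow] at hk
    have := congrArg Units.val hk
    exact this.symm
  have hζ2 : (ζ : K) + (ζ : K)⁻¹ ≠ 0 := by
    intro h1
    have h2 := eq_of_add_eq_zero h1
    apply hζ1
    apply MField.mul_self_inj
    rw [mul_one]
    calc (ζ : K) * ζ = ζ * (ζ : K)⁻¹ := by rw [← h2]
      _ = 1 := mul_inv_cancel₀ ζ.ne_zero
  -- the change of basis
  obtain ⟨u, hu, hw⟩ := m.exists_U (m.P h 0 1 * ((ζ : K) + (ζ : K)⁻¹)⁻¹)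
  obtain ⟨m', hm'⟩ := m.exists_conj hs u
  refine ⟨m', ζ, h, ?_, ?_⟩
  · intro x
    have e : m'.IsU x ↔ m.IsU (u * x * u⁻¹) := by
      unfold IsU
      rw [hm', hm', hm']
    rw [e, ← m.mem_U, ← m.mem_U]
    have huU := m.mem_U.2 hu
    show (u : G) * x * (u : G)⁻¹ ∈ m.U ↔ _
    rw [Subgroup.mul_mem_cancel_right _ (inv_mem huU), Subgroup.mul_mem_cancel_left _ huU]
  · refine ⟨x0.2, ⟨ζ.ne_zero, ?_, ?_, ?_, ?_⟩, ?_, ?_⟩
    · rw [hm', m.P_mul, m.P_mul, m.P_mul, (m.P_inv u).1, (m.P_inv u).2.2.1, hu.1, hu.2.1, hu.2.2,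
        hh, hlow h x0.2]
      ring
    · have e1 : m.P h 1 1 = (ζ : K)⁻¹ := by
        have := h11 h x0.2
        rw [hh] at this
        exact eq_inv_of_mul_eq_one_right this
      have e2 : m.P h 0 1 * ((ζ : K) + (ζ : K)⁻¹)⁻¹ * ((ζ : K) + (ζ : K)⁻¹) = m.P h 0 1 := by
        rw [mul_assoc, inv_mul_cancel₀ hζ2, mul_one]
      rw [hm', m.P_mul, m.P_mul, m.P_mul, (m.P_inv u).2.1, (m.P_inv u).2.2.2, hu.1, hw, hh,
        hlow h x0.2, e1]
      calc _ = m.P h 0 1 * ((ζ : K) + (ζ : K)⁻¹)⁻¹ * ((ζ : K) + (ζ : K)⁻¹) + m.P h 0 1 := by ring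
        _ = 0 := by rw [e2, add_self]
    · rw [hm', m.P_mul, m.P_mul, m.P_mul, (m.P_inv u).1, (m.P_inv u).2.2.1, hu.2.1, hu.2.2,
        hlow h x0.2]
      ring
    · have e1 : m.P h 1 1 = (ζ : K)⁻¹ := by
        have := h11 h x0.2
        rw [hh] at this
        exact eq_inv_of_mul_eq_one_right this
      rw [hm', m.P_mul, m.P_mul, m.P_mul, (m.P_inv u).2.1, (m.P_inv u).2.2.2, hu.1, hu.2.1,
        hu.2.2, hlow h x0.2, e1]
      ring
    · intro x hx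
      obtain ⟨k, hk⟩ := Subgroup.mem_zpowers_iff.1 (hζ (τ ⟨x, hx⟩))
      refine ⟨k, ?_⟩
      have h1 : τ (x0 ^ k) = τ ⟨x, hx⟩ := by rw [map_zpow, hx0, hk]
      have h2 := hinj h1
      have h3 : ((x0 ^ k : H1) : G) = x := congrArg Subtype.val h2
      rw [← h3, Subgroup.coe_zpow]
    · intro t
      exact Subgroup.mem_zpowers_iff.1 (hζ t)

end Diag

end Model

/-- The fields of `Data` for the first parabolic, with `H1` for `H`. -/
structure PartOne {G : Type*} [Group G] (V U Z Y L1 H1 A0 : Subgroup G) (n1 : G) : Prop where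
  P1 : RankOne L1 U V n1
  commV : ∀ a ∈ V, ∀ b ∈ V, a * b = b * a
  sqV : ∀ a ∈ V, a * a = 1
  memZ : ∀ v, v ∈ Z ↔ v ∈ V ∧ ∀ u ∈ U, v * u = u * v
  Ydef : Y = ⁅V, U⁆
  YU : ∀ y ∈ Y, ∀ u ∈ U, y * u * y⁻¹ * u⁻¹ ∈ Z
  Zle : Z ≤ ⁅Y, U⁆
  Yup : ∀ v ∈ V, (∀ u ∈ U, v * u * v⁻¹ * u⁻¹ ∈ Z) → v ∈ Y
  cUVZ : ∀ u ∈ U, (∀ v ∈ V, v * u * v⁻¹ * u⁻¹ ∈ Z) → u ∈ V
  cUY : ∀ u ∈ U, (∀ y ∈ Y, y * u = u * y) → u ∈ V
  Vgen : ∀ R : Subgroup G, R ≤ V → Z ≤ R → L1 ≤ Subgroup.normalizer (R : Set G) → V ≤ R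
  Vdec : V ≤ Y ⊔ cj n1 Z
  Edis : Y ⊓ cj n1 Z = ⊥
  Ydec : Y ≤ Z ⊔ (Y ⊓ cj n1 Y)
  n1n1 : n1 * n1 = 1
  n1inv : ∀ h ∈ H1, n1 * h * n1⁻¹ = h⁻¹
  n1H : cj n1 H1 = H1
  borel1 : ∀ g ∈ L1, cj g U = U → g ∈ U ⊔ H1
  Zbig : ∃ a ∈ Z, ∃ b ∈ Z, a ≠ 1 ∧ b ≠ 1 ∧ a ≠ b
  Hcomm : ∀ a ∈ H1, ∀ b ∈ H1, a * b = b * a
  AH : A0 ≤ H1
  AL1 : A0 ≤ L1
  Acomm : ∀ a ∈ A0, ∀ b ∈ A0, a * b = b * a
  n1A : cj n1 A0 = A0
  AZ : ∀ a ∈ A0, ∀ z ∈ Z, a * z = z * a
  AE : ∀ a ∈ A0, ∀ v ∈ V, a * v * a⁻¹ * v⁻¹ ∈ Y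
  irrY : ∀ R : Subgroup G, Z ≤ R → R ≤ Y → A0 ≤ Subgroup.normalizer (R : Set G) → R = Z ∨ R = Y
  irrU : ∀ R : Subgroup G, V ≤ R → R ≤ U → A0 ≤ Subgroup.normalizer (R : Set G) → R = V ∨ R = U
  irrE : ∀ R : Subgroup G, Y ≤ R → R ≤ V → H1 ≤ Subgroup.normalizer (R : Set G) → R = Y ∨ R = V
  fixY : ∀ y ∈ Y, (∀ a ∈ A0, a * y = y * a) → y ∈ Z
  fixU : ∀ u ∈ U, (∀ a ∈ A0, a * u * a⁻¹ * u⁻¹ ∈ V) → u ∈ V
  fixE : ∀ v ∈ V, (∀ h ∈ H1, h * v * h⁻¹ * v⁻¹ ∈ Y) → v ∈ Y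
  transZ : ∀ z ∈ Z, ∀ z' ∈ Z, z ≠ 1 → z' ≠ 1 → ∃ h ∈ H1, h * z * h⁻¹ = z'

theorem cj_eq_of_inv {G : Type*} [Group G] {n : G} {X : Subgroup G}
    (h : ∀ x ∈ X, n * x * n⁻¹ = x⁻¹) : cj n X = X := by
  ext x
  rw [mem_cj]
  constructor
  · intro hx
    have h1 := h _ hx
    have h2 : x = (n⁻¹ * x * n)⁻¹ := by rw [← h1]; group
    rw [h2]
    exact inv_mem hx
  · intro hx
    have h1 := h _ hx
    have h2 : n⁻¹ * x * n = x⁻¹ := by
      calc n⁻¹ * x * n = n⁻¹ * (x⁻¹)⁻¹ * n := by rw [inv_inv]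
        _ = n⁻¹ * (n * x * n⁻¹)⁻¹ * n := by rw [h1]
        _ = x⁻¹ := by group
    rw [h2]
    exact inv_mem hx

namespace Model

variable {G : Type*} [Group G] {K : Type*} [Field K] [CharP K 2] {s : K ≃+* K}
  {V L : Subgroup G} (m : Model K s V L)

/-- **The P1 block** for a given complement `H1` of `U` in `N_L(U)`, `A0 = C_{H1}(Z)`. -/
theorem partOne [Finite K] [Finite V] (hs : ∀ k, s (s k) = k) (hne : s ≠ RingEquiv.refl K)
    (hK : 4 < Nat.card K) {H1 : Subgroup G} (hL : H1 ≤ L)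
    (hU : H1 ≤ Subgroup.normalizer (m.U : Set G)) (hodd : Odd (Nat.card H1))
    (hcov : ∀ g ∈ L, cj g m.U = m.U → g ∈ m.U ⊔ H1) :
    ∃ n1 ∈ L, PartOne V m.U m.Z m.Y L H1 (H1 ⊓ Subgroup.centralizer (m.Z : Set G)) n1 := by
  obtain ⟨f, hf, hf0, hf1⟩ := exists_fix hs hne hK
  obtain ⟨m', ζ, h, hm', S⟩ := m.conj_diag hs hL hU hodd hcov ⟨f, hf0, hf1⟩
  have eU : m'.U = m.U := by
    ext x
    constructor
    · rintro ⟨y, rfl, hy⟩
      exact m.mem_U.2 ((hm' y).1 hy)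
    · rintro ⟨y, rfl, hy⟩
      exact m'.mem_U.2 ((hm' y).2 hy)
  have eZ : m'.Z = m.Z := by
    ext x
    rw [m'.memZ hs hne, m.memZ hs hne, eU]
  have eY : m'.Y = m.Y := by rw [m'.Ydef hs hne, m.Ydef hs hne, eU]
  obtain ⟨n, hn, hnn, hinv⟩ := S.exists_n hs hne hK
  have hinv' : ∀ x ∈ H1, (n : G) * x * (n : G)⁻¹ = x⁻¹ := by
    intro x hx
    obtain ⟨k, rfl⟩ := S.gen x hx
    have h1 : (n : G) * h * (n : G)⁻¹ = (h : G)⁻¹ := by
      have := congrArg Subtype.val hinv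
      simpa using this
    have h2 : (n : G) * (h : G) ^ k * (n : G)⁻¹ = ((n : G) * h * (n : G)⁻¹) ^ k := by
      have := map_zpow (MulAut.conj (n : G)) (h : G) k
      simpa using this
    rw [h2, h1, inv_zpow]
  have hcomm : ∀ a ∈ H1, ∀ b ∈ H1, a * b = b * a := by
    intro a ha b hb
    obtain ⟨k, rfl⟩ := S.gen a ha
    obtain ⟨l, rfl⟩ := S.gen b hb
    exact (Commute.refl (h : G)).zpow_zpow k l
  set A0 := H1 ⊓ Subgroup.centralizer (m.Z : Set G) with hA0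
  have hAH : A0 ≤ H1 := inf_le_left
  have hA : ∀ x ∈ A0, ∃ y : L, (y : G) = x ∧ ∃ t, t * s t = 1 ∧ m'.IsT t y := by
    intro x hx
    obtain ⟨y, rfl, t, ht⟩ := S.isT x hx.1
    refine ⟨y, rfl, t, ?_, ht⟩
    obtain ⟨v, v1, v2, v3⟩ := m'.exists_v hs 0 (map_one s) (map_zero s)
    have hvZ : (v : G) ∈ m.Z := by rw [← eZ]; exact m'.coe_mem_Z.2 ⟨v2, v3⟩
    have h1 : (v : G) * y = y * v := (Subgroup.mem_centralizer_iff.1 hx.2 v hvZ)
    have h2 := (m'.comm_iff y v).1 h1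
    have h3 := (ht.act v).1
    rw [h2, v1, mul_one] at h3
    exact h3.symm
  have hA' : ∀ t, t * s t = 1 → ∃ y : L, (y : G) ∈ A0 ∧ m'.IsT t y := by
    intro t ht
    have ht0 : t ≠ 0 := by
      intro h
      rw [h, zero_mul] at ht
      exact zero_ne_one ht
    obtain ⟨y, hy, hT⟩ := S.onto t ht0
    refine ⟨y, Subgroup.mem_inf.2 ⟨hy, Subgroup.mem_centralizer_iff.2 ?_⟩, hT⟩
    intro z hz
    rw [SetLike.mem_coe, ← eZ] at hz
    obtain ⟨v, rfl, hb, hc⟩ := hz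
    refine (m'.comm_iff y v).2 ?_
    obtain ⟨h1, h2, h3⟩ := hT.act v
    exact m'.ext' (by rw [h1, ht, one_mul]) (by rw [h2, hb, mul_zero]) (by rw [h3, hc, mul_zero])
  refine ⟨n, n.2, ?_⟩
  rw [← eU, ← eZ, ← eY]
  exact
    { P1 := rankOne hn
      commV := m'.commV
      sqV := m'.sqV
      memZ := m'.memZ hs hne
      Ydef := m'.Ydef hs hne
      YU := m'.YU
      Zle := m'.Zle hs hne
      Yup := m'.Yup
      cUVZ := m'.cUVZ hs
      cUY := m'.cUY hs hne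
      Vgen := Vgen hs hne hn
      Vdec := Vdec hs hn
      Edis := Edis hn
      Ydec := Ydec hs hn
      n1n1 := by
        have := congrArg Subtype.val hnn
        simpa using this
      n1inv := hinv'
      n1H := cj_eq_of_inv hinv'
      borel1 := borel S.onto
      Zbig := Zbig hs hne hK
      Hcomm := hcomm
      AH := hAH
      AL1 := hAH.trans hL
      Acomm := fun a ha b hb => hcomm a (hAH ha) b (hAH hb)
      n1A := cj_eq_of_inv fun x hx => hinv' x (hAH hx)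
      AZ := AZ hA
      AE := AE hA
      irrY := irrY hs hne hA'
      irrU := irrU hs hne hA'
      irrE := irrE S.onto
      fixY := fixY hs hne hA'
      fixU := fixU hs hne hA'
      fixE := fixE hs hne hK S.onto
      transZ := transZ hs S.onto }

end Model

end Cfsg.Agent.RankTwoClose.UFour
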