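import Mathlib
import Cfsg.Agent.RankTwoClose.Hall
import Cfsg.Agent.RankTwoClose.UFour.ModelTorus

/-!
# Type `U4(q)`: the data from the two parabolics

`L1/V = SL(2, q²)` on the natural `O4^-(q)`-module `V` (`Model`), `L2/Q = SL(2, F)` (`SLPre`), with the
same Sylow `2`-subgroup `U`, each Borel subgroup normalising the other parabolic: then there are
`H ≤ L1 L2`, `A0`, `n1`, `n2` with `Data`.
-/

set_option autoImplicit false
set_option linter.unusedSectionVars false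

namespace Cfsg.Agent.RankTwoClose

open SLTwo UFour

variable {G : Type*} [Group G]

namespace SLPre

variable {F : Type*} [Field F] [CharP F 2] {L U Q H : Subgroup G} {π : L →* SL F}
  (D : SLPre L U Q π)
include D

theorem LQ : L ≤ Subgroup.normalizer (Q : Set G) := by
  refine le_normalizer_of fun g hg x hx => ?_
  rw [mem_cj] at hx
  have h1 := (D.ker ⟨_, D.QL hx⟩).mpr hx
  have hxL : x ∈ L := by
    have := mul_mem (mul_mem hg (D.QL hx)) (inv_mem hg)
    rwa [show g * (g⁻¹ * x * g) * g⁻¹ = x by group] at this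
  have e : (⟨x, hxL⟩ : L) = ⟨g, hg⟩ * ⟨_, D.QL hx⟩ * ⟨g, hg⟩⁻¹ := Subtype.ext (by
    show x = g * (g⁻¹ * x * g) * g⁻¹; group)
  refine (D.ker ⟨x, hxL⟩).mp ?_
  rw [e, map_mul, map_mul, h1, mul_one, map_inv, mul_inv_cancel]

/-- `N(L) ≤ N(Q)`. -/
theorem norm_Q [Finite G] [Finite F] {g : G} (hg : g ∈ Subgroup.normalizer (L : Set G)) :
    g ∈ Subgroup.normalizer (Q : Set G) := by
  rw [mem_norm_iff]
  refine Subgroup.eq_of_le_of_card_ge (D.le_Q (isPGroup_cj (D.two.to_le D.QU)) ?_ ?_)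
    (card_cj _ _).ge
  · have := cj_mono (g := g) D.QL
    rwa [mem_norm_iff.mp hg] at this
  · intro x hx
    refine norm_cj (D.LQ ?_)
    exact conj_mem' hg hx

/-- An element commuting with a torus element has lower entry zero. -/
theorem low_of_comm {x k : L} (hk : (k : G) ∈ U) {t : Fˣ} (ht : t ≠ 1)
    (h : π x * (π k * dg t * (π k)⁻¹) = (π k * dg t * (π k)⁻¹) * π x) : (π x).1 1 0 = 0 := by
  have ek := D.eq_up hk
  set a := (π k).1 0 1
  rw [ek, up_inv] at h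
  have h1 : up (-a) * π x * up a * dg t = dg t * (up (-a) * π x * up a) := by
    have e : up (-a) = (up a)⁻¹ := (up_inv a).symm
    rw [e] at h ⊢
    calc (up a)⁻¹ * π x * up a * dg t
        = (up a)⁻¹ * (π x * (up a * dg t * (up a)⁻¹)) * up a := by group
      _ = (up a)⁻¹ * ((up a * dg t * (up a)⁻¹) * π x) * up a := by rw [h]
      _ = _ := by group
  have h2 := (SLTwo.ext_iff'.mp h1).2.2.1
  simp only [mul_00, mul_01, mul_10, mul_11, up_00, up_01, up_10, up_11, dg_00, dg_01, dg_10,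
    dg_11] at h2
  have h3 : ((t : F) - ((t⁻¹ : Fˣ) : F)) * (π x).1 1 0 = 0 := by linear_combination h2
  rcases mul_eq_zero.mp h3 with h4 | h4
  · exfalso
    apply ht
    have h10 : (t : F) * t = 1 := by
      nth_rewrite 2 [sub_eq_zero.mp h4]; exact Units.mul_inv t
    have h12 : ((t : F) - 1) * ((t : F) - 1) = 0 := by
      have h2' : (2 : F) = 0 := CharTwo.two_eq_zero
      linear_combination h10 + (1 - (t : F)) * h2'
    exact Units.ext (sub_eq_zero.mp (mul_self_eq_zero.mp h12))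
  · exact h4

end SLPre

namespace UFour

namespace PartOne

variable {V U Z Y L1 H1 A0 : Subgroup G} {n1 : G} (P : PartOne V U Z Y L1 H1 A0 n1)
include P

theorem cent_U {u : G} (hu : u ∈ U) (h : ∀ a ∈ H1, a * u = u * a) : u = 1 := by
  have h1 : u ∈ V := P.fixU u hu fun a ha => by
    rw [h a (P.AH ha)]
    have : u * a * a⁻¹ * u⁻¹ = 1 := by group
    rw [this]; exact one_mem _
  have h2 : u ∈ Y := P.fixE u h1 fun a ha => by
    rw [h a ha]
    have : u * a * a⁻¹ * u⁻¹ = 1 := by group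
    rw [this]; exact one_mem _
  have h3 : u ∈ Z := P.fixY u h2 fun a ha => h a (P.AH ha)
  by_contra hu1
  have key : ∀ c ∈ Z, c ≠ 1 → c = u := by
    intro c hc hc1
    obtain ⟨a, ha, e⟩ := P.transZ u h3 c hc hu1 hc1
    rw [← e, h a ha]; group
  obtain ⟨a, ha, b, hb, ha1, hb1, hab⟩ := P.Zbig
  exact hab ((key a ha ha1).trans (key b hb hb1).symm)

end PartOne

theorem Model.toPre {K : Type*} [Field K] [CharP K 2] {s : K ≃+* K} {V L : Subgroup G}
    (m : Model K s V L) (h2 : IsPGroup 2 m.U) : SLPre L m.U V m.π where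
  surj := m.surj
  ker := m.ker
  QL := m.le
  UL := by
    rintro _ ⟨y, rfl, -⟩
    exact y.2
  memU x := by
    rw [Model.mem_U]
    constructor
    · rintro ⟨h1, h2, -⟩
      exact ⟨h1, h2⟩
    · rintro ⟨h1, h2⟩
      refine ⟨h1, h2, ?_⟩
      have := det_eq (m.π x)
      rw [h1, h2] at this
      show (m.π x).1 1 1 = 1
      simpa using this
  two := h2

/-- **The data of type `U4(q)` from the two parabolics**, with the first parabolic's facts. -/
theorem exists_data' [Finite G] {K F : Type*} [Field K] [Finite K] [CharP K 2] [Field F] [Finite F]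
    [CharP F 2] {s : K ≃+* K} (hs : ∀ k, s (s k) = k) (hne : s ≠ RingEquiv.refl K)
    (hK : 4 < Nat.card K) (hF : ∃ t : Fˣ, t ≠ 1) {S V L1 L2 Q : Subgroup G} (m : Model K s V L1)
    {π2 : L2 →* SL F} (D2 : SLPre L2 m.U Q π2) (twoS : IsPGroup 2 S) (US : m.U ≤ S)
    (SU : S ≤ Subgroup.normalizer (m.U : Set G)) (SL1 : S ≤ Subgroup.normalizer (L1 : Set G))
    (SL2 : S ≤ Subgroup.normalizer (L2 : Set G)) (cSV : ∀ s ∈ S, (∀ v ∈ V, s * v = v * s) → s ∈ V)
    (N1 : ∀ g ∈ L1, cj g m.U = m.U → g ∈ Subgroup.normalizer (L2 : Set G))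
    (N2 : ∀ g ∈ L2, cj g m.U = m.U → g ∈ Subgroup.normalizer (L1 : Set G))
    (ZL2 : ∀ z ∈ m.Z, ∀ x ∈ L2, z * x = x * z)
    (cQ : ∀ x ∈ L2, (∀ q ∈ Q, x * q = q * x) → x ∈ Q) (ne : Q ≠ V) {X : Subgroup G → G → Prop}
    (hX : ∀ H1 : Subgroup G, H1 ≤ L1 → H1 ≤ Subgroup.normalizer (m.U : Set G) →
      Odd (Nat.card H1) → (∀ g ∈ L1, cj g m.U = m.U → g ∈ m.U ⊔ H1) →
      ∃ n1 ∈ L1, PartOne V m.U m.Z m.Y L1 H1 (H1 ⊓ Subgroup.centralizer m.Z) n1 ∧ X H1 n1) :
    ∃ (H A0 : Subgroup G) (n1 n2 : G), H ≤ (L1 ⊓ Subgroup.normalizer (m.U : Set G)) ⊔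
      (L2 ⊓ Subgroup.normalizer (m.U : Set G)) ∧
      Data S V m.U m.Z m.Y L1 L2 Q H A0 n1 n2 ∧ PartOne V m.U m.Z m.Y L1 (H ⊓ L1) A0 n1 ∧
      X (H ⊓ L1) n1 := by
  have twoU : IsPGroup 2 m.U := twoS.to_le US
  have D1 : SLPre L1 m.U V m.π := m.toPre twoU
  set B1 := L1 ⊓ Subgroup.normalizer (m.U : Set G) with hB1
  set B2 := L2 ⊓ Subgroup.normalizer (m.U : Set G) with hB2
  have hB1L2 : B1 ≤ Subgroup.normalizer (L2 : Set G) := fun g hg => N1 g hg.1 (mem_norm_iff.mp hg.2)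
  have hB2L1 : B2 ≤ Subgroup.normalizer (L1 : Set G) := fun g hg => N2 g hg.1 (mem_norm_iff.mp hg.2)
  have hB21 : B2 ≤ Subgroup.normalizer (B1 : Set G) := fun g hg =>
    norm_inf (hB2L1 hg) (Subgroup.le_normalizer hg.2)
  have hUB1 : m.U ≤ B1 := le_inf D1.UL Subgroup.le_normalizer
  have hUB2 : m.U ≤ B2 := le_inf D2.UL Subgroup.le_normalizer
  have hBU : B2 ⊔ B1 ≤ Subgroup.normalizer (m.U : Set G) := sup_le inf_le_right inf_le_right
  have hodd : Odd (m.U.relIndex (B2 ⊔ B1)) := by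
    refine odd_relIndex_of_pow hBU (odd_pow_sup hB21 D1.odd_pow fun b hb => ?_)
    obtain ⟨k, hk, h1⟩ := D2.odd_pow b hb
    exact ⟨k, hk, hUB1 h1⟩
  obtain ⟨H, hHB, hHodd, hUH⟩ := exists_hall (hUB1.trans le_sup_right) hBU twoU hodd
  have HU : H ≤ Subgroup.normalizer (m.U : Set G) := hHB.trans hBU
  have HL1 : H ≤ Subgroup.normalizer (L1 : Set G) :=
    hHB.trans (sup_le hB2L1 (inf_le_left.trans Subgroup.le_normalizer))
  have HL2 : H ≤ Subgroup.normalizer (L2 : Set G) :=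
    hHB.trans (sup_le (inf_le_left.trans Subgroup.le_normalizer) hB1L2)
  have bor1 : ∀ g ∈ L1, cj g m.U = m.U → g ∈ m.U ⊔ H := fun g hg h => by
    rw [hUH]; exact Subgroup.mem_sup_right ⟨hg, mem_norm_iff.mpr h⟩
  have bor2 : ∀ g ∈ L2, cj g m.U = m.U → g ∈ m.U ⊔ H := fun g hg h => by
    rw [hUH]; exact Subgroup.mem_sup_left ⟨hg, mem_norm_iff.mpr h⟩
  have R1 : SLPar L1 m.U V H m.π := D1.toPar hHodd HL1 HU fun x hx =>
    bor1 x x.2 ((D1.normU x).mpr hx)
  have R2 : SLPar L2 m.U Q H π2 := D2.toPar hHodd HL2 HU fun x hx =>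
    bor2 x x.2 ((D2.normU x).mpr hx)
  have hK1 : ∃ t : Kˣ, t ≠ 1 := by
    obtain ⟨f, hf, hf0, hf1⟩ := MField.exists_fix hs hne hK
    exact ⟨Units.mk0 f hf0, fun h => hf1 (congrArg Units.val h)⟩
  obtain ⟨k, hk, n, P1', hnH, hnn, hnn', hπn, htor, hall, hinv, hfix⟩ := R1.exists_rankOne hK1
  obtain ⟨k2, hk2, n2, P2, hn2H, hn22, hn22', hπn2, htor2, hall2, hinv2, hfix2⟩ :=
    R2.exists_rankOne hF
  -- the first parabolic with `H1 = H ∩ L1`
  set H1 := H ⊓ L1 with hH1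
  have hH1odd : Odd (Nat.card H1) := hHodd.of_dvd_nat (Subgroup.card_dvd_of_le inf_le_left)
  have hcov : ∀ g ∈ L1, cj g m.U = m.U → g ∈ m.U ⊔ H1 := by
    intro g hg h
    have h1 := bor1 g hg h
    rw [sup_comm] at h1
    obtain ⟨a, ha, u, hu, rfl⟩ := mem_sup_norm HU h1
    refine mul_mem (Subgroup.mem_sup_right ⟨ha, ?_⟩) (Subgroup.mem_sup_left hu)
    have := mul_mem hg (inv_mem (D1.UL hu))
    rwa [mul_inv_cancel_right] at this
  obtain ⟨n1, hn1L, P, hXn⟩ := hX H1 inf_le_right (inf_le_left.trans HU) hH1odd hcov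
  set A0 := H1 ⊓ Subgroup.centralizer (m.Z : Set G) with hA0
  have hH1H : H1 ≤ H := inf_le_left
  -- `C_U(H) = 1`
  have hCU : ∀ u ∈ m.U, (∀ a ∈ H, a * u = u * a) → u = 1 := fun u hu h =>
    P.cent_U hu fun a ha => h a (hH1H ha)
  -- `n1 ∈ n H1`
  have hx : (n : G)⁻¹ * n1 ∈ H := by
    set x : L1 := n⁻¹ * ⟨n1, hn1L⟩ with hxdef
    have hxc : ∀ a ∈ H1, (x : G) * a = a * x := by
      intro a ha
      have h1 : (n : G) * a * (n : G)⁻¹ = a⁻¹ := hinv a ha
      have h2 : n1 * a * n1⁻¹ = a⁻¹ := P.n1inv a ha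
      show (n : G)⁻¹ * n1 * a = a * ((n : G)⁻¹ * n1)
      have h3 : n1 * a = a⁻¹ * n1 := by rw [← h2]; group
      have h4 : (n : G)⁻¹ * a⁻¹ = a * (n : G)⁻¹ := by rw [← h1]; group
      calc (n : G)⁻¹ * n1 * a = (n : G)⁻¹ * (n1 * a) := by group
        _ = (n : G)⁻¹ * a⁻¹ * n1 := by rw [h3]; group
        _ = a * ((n : G)⁻¹ * n1) := by rw [h4]; group
    obtain ⟨t, ht⟩ := hK1
    obtain ⟨a, haH, ha⟩ := hall t
    have hlow : (m.π x).1 1 0 = 0 := by
      refine D1.low_of_comm hk ht ?_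
      rw [← ha, ← map_mul, ← map_mul]
      congr 1
      exact Subtype.ext (hxc a ⟨haH, a.2⟩)
    have h5 := hcov x x.2 ((D1.normU x).mpr hlow)
    rw [sup_comm] at h5
    obtain ⟨b, hb, u, hu, e⟩ := mem_sup_norm (hH1H.trans HU) h5
    have h6 : u = 1 := P.cent_U hu fun a ha => by
      have h7 := hxc a ha
      rw [e] at h7
      have h8 := P.Hcomm a ha b hb
      have : b * (a * u) = b * (u * a) := by
        rw [← mul_assoc, ← h8, mul_assoc, ← h7, mul_assoc]
      exact mul_left_cancel this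
    rw [h6, mul_one] at e
    show (x : G) ∈ H
    rw [e]; exact hH1H hb
  have hn1H : cj n1 H = H := by
    have e : n1 = n * ((n : G)⁻¹ * n1) := by group
    rw [e, cj_mul, cj_eq_of_mem hx, hnH]
  have hZH : H ≤ Subgroup.normalizer (m.Z : Set G) := by
    have HV : H ≤ Subgroup.normalizer (V : Set G) := fun g hg => D1.norm_Q (HL1 hg)
    refine le_normalizer_of fun g hg z hz => ?_
    rw [mem_cj] at hz
    obtain ⟨h1, h2⟩ := (P.memZ _).mp hz
    refine (P.memZ _).mpr ⟨?_, fun u hu => ?_⟩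
    · have := conj_mem (HV hg) h1
      rwa [show g * (g⁻¹ * z * g) * g⁻¹ = z by group] at this
    · have h3 := h2 _ (conj_mem' (HU hg) hu)
      have h4 := congrArg (fun y => g * y * g⁻¹) h3
      simpa [mul_assoc] using h4
  refine ⟨H, A0, n1, n2, ?_, ?_, P, hXn⟩
  · rw [sup_comm]; exact hHB
  exact
    { twoS := twoS
      US := US
      SV := fun g hg => D1.norm_Q (SL1 hg)
      SU := SU
      SL1 := SL1
      SL2 := SL2
      cSV := cSV
      P1 := P.P1
      commV := P.commV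
      sqV := P.sqV
      memZ := P.memZ
      Ydef := P.Ydef
      YU := P.YU
      Zle := P.Zle
      Yup := P.Yup
      cUVZ := P.cUVZ
      cUY := P.cUY
      Vgen := P.Vgen
      Vdec := P.Vdec
      Edis := P.Edis
      Ydec := P.Ydec
      n1n1 := by rw [P.n1n1]; exact one_mem _
      borel1 := bor1
      Zbig := P.Zbig
      odd := hHodd
      HV := fun g hg => D1.norm_Q (HL1 hg)
      HU := HU
      HL1 := HL1
      HL2 := HL2
      n1H := hn1H
      n2H := hn2H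
      AH := inf_le_left.trans hH1H
      AL1 := P.AL1
      Acomm := P.Acomm
      n1A := P.n1A
      HA := fun g hg => norm_inf (norm_inf (Subgroup.le_normalizer hg) (HL1 hg)) (by
        rw [Subgroup.mem_normalizer_iff]
        intro y
        have key : ∀ a ∈ H, ∀ y, y ∈ Subgroup.centralizer (m.Z : Set G) →
            a * y * a⁻¹ ∈ Subgroup.centralizer (m.Z : Set G) := by
          intro a ha y hy
          rw [Subgroup.mem_centralizer_iff] at hy ⊢
          intro z hz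
          have h1 := hy (a⁻¹ * z * a) (conj_mem' (hZH ha) hz)
          have h2 := congrArg (fun y => a * y * a⁻¹) h1
          simpa [mul_assoc] using h2
        refine ⟨key g hg y, fun h => ?_⟩
        have := key g⁻¹ (inv_mem hg) _ h
        rwa [show g⁻¹ * (g * y * g⁻¹) * g⁻¹⁻¹ = y by group] at this)
      AZ := P.AZ
      AE := P.AE
      irrY := P.irrY
      irrU := P.irrU
      irrE := fun R h1 h2 h3 => P.irrE R h1 h2 (hH1H.trans h3)
      fixY := P.fixY
      fixU := fun u hu h => P.fixU u hu fun a ha => h a (hH1H (P.AH ha))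
      transZ := fun z hz z' hz' h1 h2 => by
        obtain ⟨h, hh, e⟩ := P.transZ z hz z' hz' h1 h2
        exact ⟨h, hH1H hh, e⟩
      P2 := P2
      ZL2 := ZL2
      Qmax := fun R h1 h2 h3 => D2.le_Q h1 h2 h3
      cQ := cQ
      ne := ne
      n2n2 := by
        rw [hCU _ (D2.QU hn22) fun a ha => (hn22' a ha).symm]; exact one_mem _
      borel2 := bor2
      H2ne := by
        obtain ⟨t, ht⟩ := hF
        obtain ⟨h, hh, e⟩ := hall2 t
        refine ⟨h, ⟨hh, h.2⟩, fun h1 => ht ?_⟩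
        have h2 : h = 1 := Subtype.ext h1
        rw [h2, map_one] at e
        have h3 : dg t = 1 := by
          calc dg t = (π2 k2)⁻¹ * (π2 k2 * dg t * (π2 k2)⁻¹) * π2 k2 := by group
            _ = 1 := by rw [← e]; group
        exact Units.ext ((SLTwo.ext_iff'.mp h3).1)
      H2inv := hinv2
      fix2 := hfix2 }

/-- **The data of type `U4(q)` from the two parabolics.** -/
theorem exists_data [Finite G] {K F : Type*} [Field K] [Finite K] [CharP K 2] [Field F] [Finite F]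
    [CharP F 2] {s : K ≃+* K} (hs : ∀ k, s (s k) = k) (hne : s ≠ RingEquiv.refl K)
    (hK : 4 < Nat.card K) (hF : ∃ t : Fˣ, t ≠ 1) {S V L1 L2 Q : Subgroup G} (m : Model K s V L1)
    {π2 : L2 →* SL F} (D2 : SLPre L2 m.U Q π2) (twoS : IsPGroup 2 S) (US : m.U ≤ S)
    (SU : S ≤ Subgroup.normalizer (m.U : Set G)) (SL1 : S ≤ Subgroup.normalizer (L1 : Set G))
    (SL2 : S ≤ Subgroup.normalizer (L2 : Set G)) (cSV : ∀ s ∈ S, (∀ v ∈ V, s * v = v * s) → s ∈ V)
    (N1 : ∀ g ∈ L1, cj g m.U = m.U → g ∈ Subgroup.normalizer (L2 : Set G))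
    (N2 : ∀ g ∈ L2, cj g m.U = m.U → g ∈ Subgroup.normalizer (L1 : Set G))
    (ZL2 : ∀ z ∈ m.Z, ∀ x ∈ L2, z * x = x * z)
    (cQ : ∀ x ∈ L2, (∀ q ∈ Q, x * q = q * x) → x ∈ Q) (ne : Q ≠ V) :
    ∃ (H A0 : Subgroup G) (n1 n2 : G), H ≤ (L1 ⊓ Subgroup.normalizer (m.U : Set G)) ⊔
      (L2 ⊓ Subgroup.normalizer (m.U : Set G)) ∧
      Data S V m.U m.Z m.Y L1 L2 Q H A0 n1 n2 := by
  have : Finite V := inferInstance
  obtain ⟨H, A0, n1, n2, h1, h2, -⟩ := exists_data' hs hne hK hF m D2 twoS US SU SL1 SL2 cSV N1 N2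
    ZL2 cQ ne (X := fun _ _ => True) (fun H1 hL hU hodd hcov => by
      obtain ⟨n1, hn1, P⟩ := m.partOne hs hne hK (H1 := H1) hL hU hodd hcov
      exact ⟨n1, hn1, P, trivial⟩)
  exact ⟨H, A0, n1, n2, h1, h2⟩

end UFour

end Cfsg.Agent.RankTwoClose
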