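import Mathlib
import Cfsg.Agent.RankTwoClose.UFour.All
import Cfsg.Agent.RankTwoClose.UFour.OfPar

/-!
# Type `U4(q)`: the facts `Ext` on `S` and `V`

`S = U N_S(H)`, and elements of `N_S(H)` centralising `H ∩ L1` are trivial.
-/

set_option autoImplicit false
set_option linter.unusedSectionVars false

namespace Cfsg.Agent.RankTwoClose.UFour.Data

universe u

variable {G : Type u} [Group G] {S V U Z Y L1 L2 Q H A0 H1 : Subgroup G} {n1 n2 : G}

/-- `S = U N_S(H)`. -/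
theorem exists_norm_H [Finite G] (D : Data S V U Z Y L1 L2 Q H A0 n1 n2)
    (hH : H ≤ (L1 ⊓ Subgroup.normalizer (U : Set G)) ⊔ (L2 ⊓ Subgroup.normalizer (U : Set G)))
    {s : G} (hs : s ∈ S) : ∃ u ∈ U, u * s ∈ Subgroup.normalizer (H : Set G) := by
  have : Fact (Nat.Prime 2) := ⟨Nat.prime_two⟩
  have hU2 : (Nat.card H).Coprime (Nat.card U) := by
    obtain ⟨k, hk⟩ := (IsPGroup.iff_card (p := 2)).mp D.twoU
    rw [hk]
    exact Nat.Coprime.pow_right k (Nat.coprime_two_right.mpr D.odd)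
  have hUs : Group.IsSolvable U := by
    have := D.twoU.isNilpotent
    infer_instance
  set B := (L1 ⊓ Subgroup.normalizer (U : Set G)) ⊔ (L2 ⊓ Subgroup.normalizer (U : Set G)) with hB
  have hBUH : B ≤ H ⊔ U := by
    rw [sup_comm]
    refine sup_le ?_ ?_
    · exact fun g hg => D.borel1 g hg.1 (mem_norm_iff.mp hg.2)
    · exact fun g hg => D.borel2 g hg.1 (mem_norm_iff.mp hg.2)
  have hsU : cj s (Subgroup.normalizer (U : Set G)) = Subgroup.normalizer (U : Set G) :=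
    cj_eq_of_mem (D.SU hs)
  have hsB : cj s B = B := by
    rw [hB, cj_sup, cj_inf, cj_inf, mem_norm_iff.mp (D.SL1 hs), mem_norm_iff.mp (D.SL2 hs), hsU]
  have h1 : cj s H ≤ H ⊔ U := by
    have := cj_mono (g := s) hH
    rw [hsB] at this
    exact this.trans hBUH
  obtain ⟨u, hu, hu1⟩ := Solvable.Glauberman.exists_conj_of_le_sup H U D.HU hU2 (Or.inr hUs)
    (cj s H) h1 (card_cj _ _)
  have hu2 : cj u H = cj s H := hu1
  refine ⟨u⁻¹, inv_mem hu, mem_norm_iff.mpr ?_⟩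
  rw [cj_mul, ← hu2, cj_inv_cj]

/-- An element of `S` centralising `H1 = H ∩ L1` is trivial. -/
theorem eq_one_of_cent [Finite G] (D : Data S V U Z Y L1 L2 Q H A0 n1 n2)
    (P : PartOne V U Z Y L1 H1 A0 n1) {g : G} (hg : g ∈ S) (h : ∀ a ∈ H1, a * g = g * a) :
    g = 1 := by
  have hgS : Subgroup.zpowers g ≤ S := by rw [Subgroup.zpowers_le]; exact hg
  have hA : A0 ≤ Subgroup.normalizer ((Subgroup.zpowers g : Subgroup G) : Set G) := by
    intro a ha
    rw [Subgroup.mem_normalizer_iff]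
    have key : ∀ b : G, b * g = g * b → ∀ x ∈ Subgroup.zpowers g, b * x * b⁻¹ ∈ Subgroup.zpowers g := by
      intro b hb x hx
      obtain ⟨k, rfl⟩ := Subgroup.mem_zpowers_iff.mp hx
      have : b * g ^ k = g ^ k * b := (Commute.zpow_right (h := (hb : Commute b g)) k)
      rw [this, mul_inv_cancel_right]; exact hx
    intro x
    refine ⟨key a (h a (P.AH ha)) x, fun hx => ?_⟩
    have h1 : a⁻¹ * g = g * a⁻¹ := h a⁻¹ (inv_mem (P.AH ha))
    have := key a⁻¹ h1 _ hx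
    rwa [show a⁻¹ * (a * x * a⁻¹) * a⁻¹⁻¹ = x by group] at this
  have h1 := trivial_of_irr (R := Subgroup.zpowers g) D.twoS D.US D.VU D.SV D.SU D.UnV hgS hA
    (D.AH.trans D.HV) (D.AH.trans D.HU) D.irrU
  -- a nontrivial element of `Z` centralised by `S`
  have hZS : Z ≤ S := D.ZleU.trans D.US
  obtain ⟨z0, hz0, hz01, hz0S⟩ : ∃ z0 ∈ Z, z0 ≠ 1 ∧ ∀ s ∈ S, s * z0 = z0 * s := by
    have hbot : S ≤ Subgroup.normalizer ((⊥ : Subgroup G) : Set G) := fun s _ =>
      mem_norm_iff.mpr (Subgroup.map_bot _)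
    obtain ⟨z, hz, hz1, hc⟩ := exists_central_mod D.twoS hZS bot_le hbot D.SZ
      (fun h => D.Z_ne (le_bot_iff.mp h))
    refine ⟨z, hz, fun h => hz1 (Subgroup.mem_bot.mpr h), fun s hs => ?_⟩
    have h2 := Subgroup.mem_bot.mp (hc s hs)
    calc s * z = (s * z * s⁻¹ * z⁻¹) * (z * s) := by group
      _ = z * s := by rw [h2, one_mul]
  have hZ : ∀ z ∈ Z, g * z = z * g := by
    intro z hz
    by_cases hz1 : z = 1
    · rw [hz1]; group
    · obtain ⟨a, ha, rfl⟩ := P.transZ z0 hz0 z hz hz01 hz1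
      have h2 := h a ha
      have h3 := hz0S g hg
      have h4 : a⁻¹ * g = g * a⁻¹ := h a⁻¹ (inv_mem ha)
      calc g * (a * z0 * a⁻¹) = (g * a) * z0 * a⁻¹ := by group
        _ = a * (g * z0) * a⁻¹ := by rw [← h2]; group
        _ = a * z0 * (g * a⁻¹) := by rw [h3]; group
        _ = _ := by rw [← h4]; group
  have h2 : g ∈ U := D.mem_U_of hg (fun u hu => h1 g (Subgroup.mem_zpowers g) u hu) hZ
  exact P.cent_U h2 h

/-- An element of `U ∩ N(H)` is trivial. -/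
theorem eq_one_of_norm [Finite G] (D : Data S V U Z Y L1 L2 Q H A0 n1 n2)
    (P : PartOne V U Z Y L1 H1 A0 n1) (hH1 : H1 ≤ H) {u : G} (hu : u ∈ U)
    (hn : u ∈ Subgroup.normalizer (H : Set G)) : u = 1 := by
  refine P.cent_U hu fun a ha => ?_
  have haH := hH1 ha
  have h1 : u * a * u⁻¹ * a⁻¹ ∈ H := mul_mem (conj_mem hn haH) (inv_mem haH)
  have h2 : u * a * u⁻¹ * a⁻¹ ∈ U := by
    rw [show u * a * u⁻¹ * a⁻¹ = u * (a * u⁻¹ * a⁻¹) by group]
    exact mul_mem hu (conj_mem (D.HU haH) (inv_mem hu))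
  have h3 := eq_one_of_odd_two D.odd D.twoU h1 h2
  calc a * u = (u * a * u⁻¹ * a⁻¹)⁻¹ * (u * a) := by group
    _ = u * a := by rw [h3]; group

/-- The elements of `N_S(H)` acting as the involution of the field on `L1/V`. -/
structure Frob (V U Z L1 H1 : Subgroup G) (n1 : G) (F : G → Prop) : Prop where
  dich : ∀ g, g ∈ Subgroup.normalizer (V : Set G) → g ∈ Subgroup.normalizer (L1 : Set G) →
    g ∈ Subgroup.normalizer (U : Set G) → g ∈ Subgroup.normalizer (H1 : Set G) → g * g = 1 →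
    (∀ a ∈ H1, a * g = g * a) ∨ F g
  mul : ∀ g g', F g → F g' → ∀ a ∈ H1, a * (g * g') = (g * g') * a
  fixZ : ∀ g, F g → ∀ z ∈ Z, g * z = z * g
  fixE : ∀ g, F g → ∀ z ∈ cj n1 Z, g * z = z * g
  coset : ∀ g, F g → g * g = 1 → ∀ u ∈ U, (u * g) * (u * g) = 1 →
    ∃ w ∈ U, ∃ v ∈ V, u * g = v * (w * g * w⁻¹)
  card : ∀ g, F g → g * g = 1 →
    4 * Nat.card ↥(V ⊓ Subgroup.centralizer {g}) ≤ Nat.card V
  abel : ∀ A : Subgroup G, A ≤ U → (∀ a ∈ A, a * a = 1) → (∀ a ∈ A, ∀ b ∈ A, a * b = b * a) →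
    ¬ A ≤ V → 2 * Nat.card A < Nat.card V

section Ext

variable [Finite G] (D : Data S V U Z Y L1 L2 Q H A0 n1 n2) (P : PartOne V U Z Y L1 H1 A0 n1)
  (hH1 : H1 = H ⊓ L1)
  (hH : H ≤ (L1 ⊓ Subgroup.normalizer (U : Set G)) ⊔ (L2 ⊓ Subgroup.normalizer (U : Set G)))
  {F : G → Prop} (Fr : Frob V U Z L1 H1 n1 F)
include D P hH1 hH Fr

theorem exists_frob {x : G} (hx : x ∈ S) (hx2 : x * x = 1) (hxU : x ∉ U) :
    ∃ u ∈ U, F (u * x) ∧ (u * x) * (u * x) = 1 := by
  obtain ⟨u, hu, hg⟩ := D.exists_norm_H hH hx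
  have hxn := D.SU hx
  have hgS : u * x ∈ S := mul_mem (D.US hu) hx
  have h1 : (u * x) * (u * x) ∈ U := by
    have e : (u * x) * (u * x) = u * (x * u * x⁻¹) * (x * x) := by group
    rw [e, hx2, mul_one]
    exact mul_mem hu (conj_mem hxn hu)
  have h2 : (u * x) * (u * x) = 1 := D.eq_one_of_norm P (hH1 ▸ inf_le_left) h1 (mul_mem hg hg)
  refine ⟨u, hu, ?_, h2⟩
  rcases Fr.dich (u * x) (D.SV hgS) (D.SL1 hgS) (D.SU hgS)
    (hH1 ▸ norm_inf hg (D.SL1 hgS)) h2 with h3 | h3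
  · exfalso
    apply hxU
    have h4 := D.eq_one_of_cent P hgS h3
    have h5 : x = u⁻¹ := (inv_eq_of_mul_eq_one_right h4).symm
    rw [h5]; exact inv_mem hu
  · exact h3

theorem ext_two {x y : G} (hx : x ∈ S) (hy : y ∈ S) (hx2 : x * x = 1) (hy2 : y * y = 1) :
    x ∈ U ∨ y ∈ U ∨ x * y ∈ U := by
  by_cases hxU : x ∈ U
  · exact Or.inl hxU
  by_cases hyU : y ∈ U
  · exact Or.inr (Or.inl hyU)
  right; right
  obtain ⟨u, hu, h1, -⟩ := D.exists_frob P hH1 hH Fr hx hx2 hxU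
  obtain ⟨w, hw, h2, -⟩ := D.exists_frob P hH1 hH Fr hy hy2 hyU
  have h3 := D.eq_one_of_cent P (mul_mem (mul_mem (D.US hu) hx) (mul_mem (D.US hw) hy))
    (Fr.mul _ _ h1 h2)
  have e : u * x * (w * y) = u * (x * w * x⁻¹) * (x * y) := by group
  rw [e] at h3
  have h4 : x * y = (u * (x * w * x⁻¹))⁻¹ := (inv_eq_of_mul_eq_one_right h3).symm
  rw [h4]
  exact inv_mem (mul_mem hu (conj_mem (D.SU hx) hw))

theorem ext_coset {r : G} (hr : r ∈ S) (hr2 : r * r = 1) (hrU : r ∉ U) :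
    ∃ g, F g ∧ g * g = 1 ∧ ∃ w ∈ U, ∃ v ∈ V, r = v * (w * g * w⁻¹) := by
  obtain ⟨u, hu, h1, h2⟩ := D.exists_frob P hH1 hH Fr hr hr2 hrU
  have e : r = u⁻¹ * (u * r) := by group
  obtain ⟨w, hw, v, hv, h3⟩ := Fr.coset _ h1 h2 u⁻¹ (inv_mem hu) (by rw [← e]; exact hr2)
  exact ⟨u * r, h1, h2, w, hw, v, hv, e.trans h3⟩

theorem ext_inv {r : G} (hr : r ∈ S) (hrU : r ∉ U) (hr2 : r * r = 1) :
    (∀ z ∈ Z, r * z = z * r) ∧ ∃ u ∈ U, ∀ z ∈ cj (u * n1) Z, r * z = z * r := by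
  obtain ⟨g, hg, hg2, w, hw, v, hv, rfl⟩ := D.ext_coset P hH1 hH Fr hr hr2 hrU
  have key : ∀ z ∈ V, g * (w⁻¹ * z * w) = (w⁻¹ * z * w) * g →
      v * (w * g * w⁻¹) * z = z * (v * (w * g * w⁻¹)) := by
    intro z hz h
    calc v * (w * g * w⁻¹) * z = v * w * (g * (w⁻¹ * z * w)) * w⁻¹ := by group
      _ = (v * z) * w * g * w⁻¹ := by rw [h]; group
      _ = z * (v * (w * g * w⁻¹)) := by rw [D.commV v hv z hz]; group
  refine ⟨fun z hz => key z (D.ZV hz) ?_, w, hw, fun z hz => key z ?_ ?_⟩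
  · have : w⁻¹ * z * w = z := by
      rw [mul_assoc, D.zu hz hw]; group
    rw [this]
    exact Fr.fixZ g hg z hz
  · rw [cj_mul, mem_cj] at hz
    have := conj_mem (D.UV hw) (D.EV hz)
    rwa [show w * (w⁻¹ * z * w) * w⁻¹ = z by group] at this
  · rw [cj_mul, mem_cj] at hz
    exact Fr.fixE g hg _ hz

theorem ext_wc {g : G} (h : cj g V ≤ S) : cj g V = V := by
  classical
  set A := cj g V with hA
  have hcard : Nat.card A = Nat.card V := card_cj _ _
  have hsq : ∀ a ∈ A, a * a = 1 := by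
    intro a ha
    rw [hA, mem_cj] at ha
    have := D.sqV _ ha
    calc a * a = g * ((g⁻¹ * a * g) * (g⁻¹ * a * g)) * g⁻¹ := by group
      _ = 1 := by rw [this]; group
  have hcomm : ∀ a ∈ A, ∀ b ∈ A, a * b = b * a := by
    intro a ha b hb
    rw [hA, mem_cj] at ha hb
    have := D.commV _ ha _ hb
    calc a * b = g * ((g⁻¹ * a * g) * (g⁻¹ * b * g)) * g⁻¹ := by group
      _ = g * ((g⁻¹ * b * g) * (g⁻¹ * a * g)) * g⁻¹ := by rw [this]
      _ = _ := by group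
  by_contra hne
  by_cases hAU : A ≤ U
  · by_cases hAV : A ≤ V
    · exact hne (Subgroup.eq_of_le_of_card_ge hAV hcard.ge)
    · have := Fr.abel A hAU hsq hcomm hAV
      omega
  · obtain ⟨r, hrA, hrU⟩ := SetLike.not_le_iff_exists.mp hAU
    -- `|A| ≤ 2 |A ∩ U|`
    have h1 : Nat.card A ≤ 2 * Nat.card ↥(A ⊓ U) := by
      let f : A → ↥(A ⊓ U) × Bool := fun x =>
        if hx : (x : G) ∈ U then (⟨x, Subgroup.mem_inf.mpr ⟨x.2, hx⟩⟩, true)
        else (⟨x * r, Subgroup.mem_inf.mpr ⟨mul_mem x.2 hrA,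
          ((D.ext_two P hH1 hH Fr (h x.2) (h hrA) (hsq _ x.2) (hsq _ hrA)).resolve_left
            hx).resolve_left hrU⟩⟩, false)
      have hf : Function.Injective f := by
        intro x y hxy
        by_cases hx : (x : G) ∈ U <;> by_cases hy : (y : G) ∈ U
        · simp only [f, hx, hy, dif_pos, Prod.mk.injEq, Subtype.mk.injEq, and_true] at hxy
          exact Subtype.ext hxy
        · simp only [f, hx, hy, dif_pos, dif_neg, not_false_eq_true, Prod.mk.injEq] at hxy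
          exact absurd hxy.2 (by decide)
        · simp only [f, hx, hy, dif_pos, dif_neg, not_false_eq_true, Prod.mk.injEq] at hxy
          exact absurd hxy.2 (by decide)
        · simp only [f, hx, hy, dif_neg, not_false_eq_true, Prod.mk.injEq, Subtype.mk.injEq,
            and_true] at hxy
          exact Subtype.ext (mul_right_cancel hxy)
      have := Nat.card_le_card_of_injective f hf
      rw [Nat.card_prod, Nat.card_eq_fintype_card (α := Bool), Fintype.card_bool] at this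
      omega
    by_cases hAV : A ⊓ U ≤ V
    · obtain ⟨g', hg', hg2, w, hw, v, hv, e⟩ := D.ext_coset P hH1 hH Fr (h hrA) (hsq _ hrA) hrU
      have h2 : cj w⁻¹ (A ⊓ U) ≤ V ⊓ Subgroup.centralizer {g'} := by
        intro x hx
        rw [mem_cj, inv_inv] at hx
        have hxV := hAV hx
        have h3 := hcomm _ (Subgroup.mem_inf.mp hx).1 _ hrA
        have h4 : x ∈ V := by
          have := conj_mem' (D.UV hw) hxV
          rwa [show w⁻¹ * (w * x * w⁻¹) * w = x by group] at this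
        refine Subgroup.mem_inf.mpr ⟨h4, Subgroup.mem_centralizer_singleton_iff.mpr ?_⟩
        rw [e] at h3
        have h5 := D.commV _ hxV v hv
        have h6 : v * ((w * x * w⁻¹) * (w * g' * w⁻¹)) = v * ((w * g' * w⁻¹) * (w * x * w⁻¹)) := by
          calc v * ((w * x * w⁻¹) * (w * g' * w⁻¹)) = (v * (w * x * w⁻¹)) * (w * g' * w⁻¹) := by
                group
            _ = (w * x * w⁻¹) * (v * (w * g' * w⁻¹)) := by rw [← h5]; group
            _ = v * (w * g' * w⁻¹) * (w * x * w⁻¹) := h3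
            _ = _ := by group
        have h7 := mul_left_cancel h6
        calc x * g' = w⁻¹ * ((w * x * w⁻¹) * (w * g' * w⁻¹)) * w := by group
          _ = w⁻¹ * ((w * g' * w⁻¹) * (w * x * w⁻¹)) * w := by rw [h7]
          _ = g' * x := by group
      have h3 := Subgroup.card_le_of_le h2
      rw [card_cj] at h3
      have h4 := Fr.card g' hg' hg2
      have h5 : 0 < Nat.card ↥(A ⊓ U) := Nat.card_pos
      omega
    · have := Fr.abel (A ⊓ U) inf_le_right (fun a ha => hsq a (Subgroup.mem_inf.mp ha).1)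
        (fun a ha b hb => hcomm a (Subgroup.mem_inf.mp ha).1 b (Subgroup.mem_inf.mp hb).1) hAV
      omega

/-- **`Ext` from the model.** -/
theorem ext (yz : ∀ u ∈ U, u ∉ V → ∀ z ∈ Z, ∃ y ∈ Y, y * u * y⁻¹ * u⁻¹ = z)
    (cardY : Nat.card Y ≤ Nat.card Z ^ 3)
    (NV : Subgroup.normalizer (V : Set G) ≤ Subgroup.normalizer (L1 : Set G))
    (NZ : Subgroup.normalizer (Z : Set G) ≤ Subgroup.normalizer (L2 : Set G)) :
    Ext S V U Z Y L1 L2 n1 where
  two x hx y hy hx2 hy2 _ := D.ext_two P hH1 hH Fr hx hy hx2 hy2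
  inv r hr hrU hr2 := D.ext_inv P hH1 hH Fr hr hrU hr2
  wc g hg := D.ext_wc P hH1 hH Fr hg
  yz := yz
  cardY := cardY
  NV := NV
  NZ := NZ

end Ext

end Cfsg.Agent.RankTwoClose.UFour.Data
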