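import Cfsg.Agent.RankTwoClose.UFour.ModelExt
import Cfsg.Agent.RankTwoClose.UFour.ExtOf

/-!
# `Frob` and `Ext` from the natural `O4^-(q)`-module
-/

set_option autoImplicit false
set_option linter.unusedSectionVars false

namespace Cfsg.Agent.RankTwoClose.UFour

open MField

/-- The order of the fixed field. -/
theorem MField.exists_q {K : Type*} [Field K] [CharP K 2] [Finite K] {s : K ≃+* K}
    (hs : ∀ k, s (s k) = k) (hne : s ≠ RingEquiv.refl K) (hK : 4 < Nat.card K) :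
    ∃ q, Nat.card K = q ^ 2 ∧ 4 ≤ q := by
  classical
  have h1 := card_fix hs hne
  refine ⟨Nat.card (fix s), by rw [pow_two, h1], ?_⟩
  set q := Nat.card (fix s) with hq
  by_contra h
  have h2 : q ≤ 3 := by omega
  have h3 : q = 3 := by
    by_contra h3
    have h4 : q ≤ 2 := by omega
    have : q * q ≤ 2 * 2 := Nat.mul_le_mul h4 h4
    omega
  have : Fintype K := Fintype.ofFinite K
  obtain ⟨n, -, hn⟩ := FiniteField.card K 2
  rw [← Nat.card_eq_fintype_card, ← h1, h3] at hn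
  have h5 : (2 : ℕ) ∣ 2 ^ (n : ℕ) := dvd_pow_self 2 n.ne_zero
  rw [← hn] at h5
  omega

namespace Model

variable {G : Type*} [Group G] {K : Type*} [Field K] [CharP K 2] {s : K ≃+* K}
  {V L : Subgroup G} (m : Model K s V L)

/-- **`Frob` from the model.** -/
theorem frob [Finite K] (hs : ∀ k, s (s k) = k) (hne : s ≠ RingEquiv.refl K)
    (hK : 4 < Nat.card K) {H1 : Subgroup G} (hL : H1 ≤ L)
    (hU : H1 ≤ Subgroup.normalizer (m.U : Set G)) (hodd : Odd (Nat.card H1))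
    (hcov : ∀ g ∈ L, cj g m.U = m.U → g ∈ m.U ⊔ H1) {n1 : G} (hn1 : n1 ∈ L)
    (hinv : ∀ a ∈ H1, n1 * a * n1⁻¹ = a⁻¹) :
    ∃ F, Data.Frob V m.U m.Z L H1 n1 F := by
  obtain ⟨q, hq, hq4⟩ := MField.exists_q hs hne hK
  obtain ⟨f, hf, hf0, hf1⟩ := exists_fix hs hne hK
  obtain ⟨m', ζ, h, hm', S⟩ := m.conj_diag hs hL hU hodd hcov ⟨f, hf0, hf1⟩
  have eU : m'.U = m.U := by
    ext x
    constructor
    · rintro ⟨y, rfl, hy⟩
      exact m.mem_U.2 ((hm' y).1 hy)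
    · rintro ⟨y, rfl, hy⟩
      exact m'.mem_U.2 ((hm' y).2 hy)
  have eZ : m'.Z = m.Z := by
    ext x
    rw [m'.memZ hs hne, m.memZ hs hne, eU]
  rw [← eU, ← eZ]
  have hn : (⟨n1, hn1⟩ : L) * h * (⟨n1, hn1⟩ : L)⁻¹ = h⁻¹ := Subtype.ext (hinv h S.mem)
  have hcV := m'.card_V hs hne hq
  refine ⟨fun g => ∃ hg : g ∈ m'.NS H1, g * g = 1 ∧ aut S ⟨g, hg⟩ = s, ?_, ?_, ?_, ?_, ?_, ?_, ?_⟩
  · intro g gV gL gU gH gg
    have hg : g ∈ m'.NS H1 := ⟨⟨⟨gV, gL⟩, gU⟩, gH⟩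
    have h2 : aut S ⟨g, hg⟩ * aut S ⟨g, hg⟩ = 1 := by
      rw [← map_mul]
      have : (⟨g, hg⟩ : m'.NS H1) * ⟨g, hg⟩ = 1 := Subtype.ext gg
      rw [this, map_one]
    rcases aut_eq_one_or S hs hne h2 with h1 | h1
    · left
      intro a ha
      exact (centralizes_of_aut_one S hodd h1 a ha).symm
    · exact Or.inr ⟨hg, gg, h1⟩
  · rintro g g' ⟨hg, -, h1⟩ ⟨hg', -, h1'⟩ a ha
    have h2 : aut S (⟨g, hg⟩ * ⟨g', hg'⟩) = 1 := by
      rw [map_mul, h1, h1']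
      ext k
      exact hs k
    exact (centralizes_of_aut_one S hodd h2 a ha).symm
  · rintro g ⟨hg, gg, h1⟩ z hz
    obtain ⟨c, hc⟩ := aut_spec S ⟨g, hg⟩
    rw [h1] at hc
    exact cent_Z S hs hne hg hc gg z hz
  · rintro g ⟨hg, gg, h1⟩ z hz
    obtain ⟨c, hc⟩ := aut_spec S ⟨g, hg⟩
    rw [h1] at hc
    exact cent_E S hs hne hg hc gg hn z hz
  · rintro g ⟨hg, -, h1⟩ gg u hu hr
    obtain ⟨c, hc⟩ := aut_spec S ⟨g, hg⟩
    rw [h1] at hc
    exact exists_conj_mod hs hne hg hc gg ⟨u, hu, rfl⟩ (by rw [hr]; exact one_mem V)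
  · rintro g ⟨hg, -, h1⟩ gg
    obtain ⟨c, hc⟩ := aut_spec S ⟨g, hg⟩
    rw [h1] at hc
    have h2 := card_centralizer_le hs hne hq S hg hc gg
    rw [hcV]
    calc 4 * Nat.card ↥(V ⊓ Subgroup.centralizer {g}) ≤ q * q ^ 3 := Nat.mul_le_mul hq4 h2
      _ = q ^ 4 := by ring
  · intro A hA _ hA2 hAV
    have h2 := m'.card_le hs hne hq hA hA2 hAV
    rw [hcV]
    have h3 : 0 < q ^ 3 := by positivity
    calc 2 * Nat.card A ≤ 2 * q ^ 3 := Nat.mul_le_mul_left 2 h2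
      _ < 4 * q ^ 3 := by omega
      _ ≤ q * q ^ 3 := Nat.mul_le_mul_right _ hq4
      _ = q ^ 4 := by ring

/-- **The P1 block with `Frob`.** -/
theorem partOne' [Finite K] [Finite V] (hs : ∀ k, s (s k) = k) (hne : s ≠ RingEquiv.refl K)
    (hK : 4 < Nat.card K) {H1 : Subgroup G} (hL : H1 ≤ L)
    (hU : H1 ≤ Subgroup.normalizer (m.U : Set G)) (hodd : Odd (Nat.card H1))
    (hcov : ∀ g ∈ L, cj g m.U = m.U → g ∈ m.U ⊔ H1) :
    ∃ n1 ∈ L, PartOne V m.U m.Z m.Y L H1 (H1 ⊓ Subgroup.centralizer (m.Z : Set G)) n1 ∧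
      ∃ F, Data.Frob V m.U m.Z L H1 n1 F := by
  obtain ⟨n1, hn1, P⟩ := m.partOne hs hne hK hL hU hodd hcov
  exact ⟨n1, hn1, P, m.frob hs hne hK hL hU hodd hcov hn1 P.n1inv⟩

/-- **`Ext` from the model and the data.** -/
theorem ext_of {G : Type*} [Group G] [Finite G] {K : Type*} [Field K] [CharP K 2] [Finite K]
    {s : K ≃+* K} {S V L1 L2 Q H A0 H1 : Subgroup G} {n1 n2 : G} (m : Model K s V L1)
    (hs : ∀ k, s (s k) = k) (hne : s ≠ RingEquiv.refl K) (hK : 4 < Nat.card K)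
    (D : Data S V m.U m.Z m.Y L1 L2 Q H A0 n1 n2) (P : PartOne V m.U m.Z m.Y L1 H1 A0 n1)
    (hH1 : H1 = H ⊓ L1)
    (hH : H ≤ (L1 ⊓ Subgroup.normalizer (m.U : Set G)) ⊔
      (L2 ⊓ Subgroup.normalizer (m.U : Set G)))
    (NV : Subgroup.normalizer (V : Set G) ≤ Subgroup.normalizer (L1 : Set G))
    (NZ : Subgroup.normalizer (m.Z : Set G) ≤ Subgroup.normalizer (L2 : Set G)) :
    Ext S V m.U m.Z m.Y L1 L2 n1 := by
  obtain ⟨q, hq, -⟩ := MField.exists_q hs hne hK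
  have hH1H : H1 ≤ H := hH1 ▸ inf_le_left
  have hodd : Odd (Nat.card H1) := D.odd.of_dvd_nat (Subgroup.card_dvd_of_le hH1H)
  obtain ⟨F, Fr⟩ := m.frob hs hne hK (H1 := H1) (hH1 ▸ inf_le_right) (hH1H.trans D.HU) hodd
    P.borel1 P.P1.nL P.n1inv
  exact D.ext P hH1 hH Fr (m.yz hs hne) (m.card_Y_le hs hne hq) NV NZ

end Model

end Cfsg.Agent.RankTwoClose.UFour
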