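import Cfsg.Agent.RankTwoClose.UFour.End
import Cfsg.Agent.RankTwoClose.UFour.ModelFrob

/-!
# Type `U4(q)`, `q ≥ 4`: the main theorem

`L1/V = SL(2, q²)` on the natural `O4^-(q)`-module `V`; `L2/Q = SL(2, F)`; `U = S ∩ L1 = S ∩ L2`;
`N_G(V) ≤ N_G(L1)`, `N_G(Z) ≤ N_G(L2)`, where `Z = C_V(U)`.
-/

set_option autoImplicit false
set_option linter.unusedSectionVars false

namespace Cfsg.Agent.RankTwoClose.UFour

open Subgroup Cfsg Cfsg.Agent.Omega.Frame SLTwo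

universe u

section

variable {G : Type u} [Group G] [Finite G]

/-- A Sylow subgroup `S` of `G` normalising `L` meets `L` in a Sylow subgroup of `L`. -/
theorem le_of_inf_le (S : Sylow 2 G) {U L : Subgroup G} (hSL : (S : Subgroup G) ≤ normalizer (L : Set G))
    (hU : (S : Subgroup G) ⊓ L ≤ U) {R : Subgroup G} (hR : IsPGroup 2 R) (hUR : U ≤ R)
    (hRL : R ≤ L) : R ≤ U := by
  have : Fact (Nat.Prime 2) := ⟨Nat.prime_two⟩
  set N := normalizer (L : Set G)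
  have hLN : L ≤ N := le_normalizer
  let S' : Sylow 2 N := S.subtype hSL
  have hS' : (S' : Subgroup N) = (S : Subgroup G).subgroupOf N := rfl
  have hR' : IsPGroup 2 (R.subgroupOf N) := hR.of_injective
    (Subgroup.subgroupOfEquivOfLe (hRL.trans hLN)).toMonoidHom
    (Subgroup.subgroupOfEquivOfLe (hRL.trans hLN)).injective
  obtain ⟨T, hT⟩ := hR'.exists_le_sylow
  obtain ⟨g, hg⟩ := MulAction.exists_smul_eq N T S'
  have h1 : cj (g : G) R ≤ (S : Subgroup G) ⊓ L := by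
    intro x hx
    rw [mem_cj] at hx
    have hxL : (g : G)⁻¹ * x * g ∈ L := hRL hx
    have hxL' : x ∈ L := by
      have := conj_mem g.2 hxL
      rwa [show (g : G) * ((g : G)⁻¹ * x * g) * (g : G)⁻¹ = x by group] at this
    refine mem_inf.mpr ⟨?_, hxL'⟩
    have h2 : (⟨(g : G)⁻¹ * x * g, hLN hxL⟩ : N) ∈ T := hT (mem_subgroupOf.mpr hx)
    have h3 : g * (⟨(g : G)⁻¹ * x * g, hLN hxL⟩ : N) * g⁻¹ ∈ g • T :=
      Subgroup.smul_mem_pointwise_smul _ (MulAut.conj g) _ h2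
    rw [hg] at h3
    have h4 := mem_subgroupOf.mp (show _ ∈ (S : Subgroup G).subgroupOf N from h3)
    have e : ((g * (⟨(g : G)⁻¹ * x * g, hLN hxL⟩ : N) * g⁻¹ : N) : G) = x := by
      show (g : G) * ((g : G)⁻¹ * x * g) * (g : G)⁻¹ = x
      group
    rwa [e] at h4
  have h2 : Nat.card R ≤ Nat.card U := by
    rw [← card_cj (g : G) R]
    exact card_le_of_le (h1.trans hU)
  exact (eq_of_le_of_card_ge hUR h2).ge

variable {S : Sylow 2 G} {V L1 L2 Q : Subgroup G} {K F : Type*} [Field K] [Finite K] [CharP K 2]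
  [Field F] [Finite F] [CharP F 2] {s : K ≃+* K} (hs : ∀ k, s (s k) = k)
  (hne : s ≠ RingEquiv.refl K) (hK : 4 < Nat.card K) (hF : 2 < Nat.card F) (m : Model K s V L1)
  (π2 : L2 →* SL F) (surj2 : Function.Surjective π2) (ker2 : ∀ x : L2, π2 x = 1 ↔ (x : G) ∈ Q)
  (QU : Q ≤ m.U) (UL2 : m.U ≤ L2) (US : m.U ≤ S) (SL2 : (S : Subgroup G) ⊓ L2 ≤ m.U)
  (SV : (S : Subgroup G) ≤ normalizer (V : Set G))
  (SZ : (S : Subgroup G) ≤ normalizer (m.Z : Set G))
  (cSV : ∀ s ∈ S, (∀ v ∈ V, s * v = v * s) → s ∈ V)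
  (NV : normalizer (V : Set G) ≤ normalizer (L1 : Set G))
  (NZ : normalizer (m.Z : Set G) ≤ normalizer (L2 : Set G))
  (ZL2 : ∀ z ∈ m.Z, ∀ x ∈ L2, z * x = x * z)
  (cQ : ∀ x ∈ L2, (∀ q ∈ Q, x * q = q * x) → x ∈ Q) (ne : Q ≠ V)

include hs hne hK hF surj2 ker2 QU UL2 US SL2 SV SZ cSV NV NZ ZL2 cQ ne in
/-- `Data` and `Ext` from the two parabolics. -/
theorem exists_data_ext : ∃ (H A0 : Subgroup G) (n1 n2 : G),
    Data (S : Subgroup G) V m.U m.Z m.Y L1 L2 Q H A0 n1 n2 ∧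
    Ext (S : Subgroup G) V m.U m.Z m.Y L1 L2 n1 := by
  have hSp : IsPGroup 2 (S : Subgroup G) := S.isPGroup'
  have twoU : IsPGroup 2 m.U := hSp.to_le US
  have D1 : SLPre L1 m.U V m.π := m.toPre twoU
  have hSL1 : (S : Subgroup G) ≤ normalizer (L1 : Set G) := SV.trans NV
  have hSL2 : (S : Subgroup G) ≤ normalizer (L2 : Set G) := SZ.trans NZ
  have hSU1 : (S : Subgroup G) ⊓ L1 = m.U := le_antisymm
    (D1.sylow (hSp.to_le inf_le_left) (le_inf US D1.UL) inf_le_right) (le_inf US D1.UL)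
  have SU : (S : Subgroup G) ≤ normalizer (m.U : Set G) := by
    intro g hg
    rw [← hSU1]
    exact norm_inf (le_normalizer hg) (hSL1 hg)
  obtain ⟨g0, D2⟩ := exists_pre π2 surj2 ker2 QU UL2 twoU
    fun R hR hUR hRL => le_of_inf_le S hSL2 SL2 hR hUR hRL
  have hF' : ∃ t : Fˣ, t ≠ 1 := by
    by_contra hcon
    push Not at hcon
    have h1 : Nat.card Fˣ = 1 := by
      have : Subsingleton Fˣ := ⟨fun a b => (hcon a).trans (hcon b).symm⟩
      exact Nat.card_unique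
    have h2 := Nat.card_units F
    omega
  obtain ⟨q, hq, -⟩ := MField.exists_q hs hne hK
  have VU : V ≤ m.U := D1.QU
  have hmemZ := m.memZ hs hne
  -- `N_{L1}(U) ≤ N(L2)`
  have N1 : ∀ g ∈ L1, cj g m.U = m.U → g ∈ normalizer (L2 : Set G) := by
    intro g hg hgU
    refine NZ (mem_norm_iff.mpr (eq_of_le_of_card_ge ?_ (card_cj _ _).ge))
    intro z hz
    rw [mem_cj] at hz
    obtain ⟨h1, h2⟩ := (hmemZ _).mp hz
    refine (hmemZ _).mpr ⟨?_, fun u hu => ?_⟩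
    · have := conj_mem (D1.LQ hg) h1
      rwa [show g * (g⁻¹ * z * g) * g⁻¹ = z by group] at this
    · have h3 := h2 _ (conj_mem' (mem_norm_iff.mpr hgU) hu)
      have h4 := congrArg (fun y => g * y * g⁻¹) h3
      simpa [mul_assoc] using h4
  -- `N_{L2}(U) ≤ N(L1)`
  have N2 : ∀ g ∈ L2, cj g m.U = m.U → g ∈ normalizer (L1 : Set G) := by
    intro g _ hgU
    refine NV (mem_norm_iff.mpr ?_)
    refine m.eq_V_of_card hs hne hq ?_ ?_ ?_
    · rw [← hgU]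
      exact cj_mono VU
    · intro a ha b hb
      rw [mem_cj] at ha hb
      have := m.commV _ ha _ hb
      calc a * b = g * ((g⁻¹ * a * g) * (g⁻¹ * b * g)) * g⁻¹ := by group
        _ = g * ((g⁻¹ * b * g) * (g⁻¹ * a * g)) * g⁻¹ := by rw [this]
        _ = _ := by group
    · rw [card_cj, m.card_V hs hne hq]
  obtain ⟨H, A0, n1, n2, hH, D, P, -⟩ := exists_data' hs hne hK hF' m D2 hSp US SU hSL1 hSL2 cSV
    N1 N2 ZL2 cQ ne (X := fun _ _ => True) (fun H1 hL hU hodd hcov => by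
      obtain ⟨n1, hn1, P⟩ := m.partOne hs hne hK (H1 := H1) hL hU hodd hcov
      exact ⟨n1, hn1, P, trivial⟩)
  exact ⟨H, A0, n1, n2, D, m.ext_of hs hne hK D P rfl hH NV NZ⟩

include hs hne hK hF surj2 ker2 QU UL2 US SL2 SV SZ cSV NV NZ ZL2 cQ ne in
/-- **Type `U4(q)`, `q ≥ 4`.** -/
theorem known_of_model (hB : Omega.RootLemma.Bender.{u}) (h1144 : Omega.Exits.St1144.{u})
    (c : Ctx G) (hfull : Full (S : Subgroup G)) : IsKnownSimple' G := by
  obtain ⟨H, A0, n1, n2, D, E⟩ := exists_data_ext hs hne hK hF m π2 surj2 ker2 QU UL2 US SL2 SV SZ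
    cSV NV NZ ZL2 cQ ne
  exact D.known E hB h1144 c hfull

end

end Cfsg.Agent.RankTwoClose.UFour
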