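import Cfsg.Agent.RankTwoClose.UFour.All
import Cfsg.Agent.Omega.Outputs

/-!
# Type `U4(q)`: the end

`G` as in `Frame.Ctx`, `Full S`, with `Data` and `Ext`: then `G = ⟨L1, L2⟩` has a split BN-pair of rank
two, and `G` is known (S1144).
-/

set_option autoImplicit false
set_option linter.unusedSectionVars false

namespace Cfsg.Agent.RankTwoClose.UFour.Data

open Subgroup Cfsg Cfsg.Agent.ZN Cfsg.Agent.Omega.MinPar Cfsg.Agent.Omega.Frame
open Cfsg.Agent.MinSimple.VModule (zc_le mem_zc zc_comm zc_le_zl le_normalizer_zl)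
open Cfsg.Agent.MinSimple.Basic (zc_ne_bot)
open Cfsg.Agent.MinSimple.VModule (o2_isPGroup le_o2)
open Cfsg.Agent.MinSimple.CosetFam (le_normalizer_o2)

universe u

variable {G : Type u} [Group G] [Finite G] {V U Z Y L1 L2 Q H A0 : Subgroup G} {n1 n2 : G}
  {S : Sylow 2 G} (D : Data (S : Subgroup G) V U Z Y L1 L2 Q H A0 n1 n2)
  (E : Ext (S : Subgroup G) V U Z Y L1 L2 n1)

include D

theorem zc_le_Z : zc (S : Subgroup G) ≤ Z := by
  intro z hz
  obtain ⟨h1, h2, h3⟩ := mem_zc.mp hz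
  have h4 : z ∈ V := D.cSV z h1 fun v hv => (h2 v (D.US (D.VU hv))).symm
  exact (D.memZ z).mpr ⟨h4, fun u hu => (h2 u (D.US hu)).symm⟩

theorem core (hG : IsCharacteristicTwoType G) (hS : (S : Subgroup G) ≠ ⊥) :
    ∀ z ∈ Z, z ≠ 1 → Core Q z := by
  obtain ⟨⟨z0, hz0⟩, hz01'⟩ := Subgroup.ne_bot_iff_exists_ne_one.mp (zc_ne_bot S.isPGroup' hS)
  have hz01 : z0 ≠ 1 := fun h => hz01' (Subtype.ext h)
  obtain ⟨h1, h2, h3⟩ := mem_zc.mp hz0
  have hL : IsLoc (S : Subgroup G) (centralizer ({z0} : Set G)) :=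
    isLoc_centralizer S h3 hz01 fun s hs => mem_centralizer_singleton_iff.mpr (h2 s hs)
  refine D.core_forall (D.zc_le_Z hz0) hz01 (fun P hP h => (S.is_maximal' hP h).le) h2
    ⟨o2 (centralizer ({z0} : Set G)), o2_isPGroup _, ?_, ?_, ?_⟩
  · intro x hx
    exact le_normalizer_o2 _ (mem_centralizer_singleton_iff.mpr hx)
  · intro x hx hq
    exact hL.char2 S hG ⟨mem_centralizer_singleton_iff.mpr hx,
      mem_centralizer_iff.mpr fun q hq' => (hq q hq').symm⟩
  · intro R hR hRz hRn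
    exact le_o2 (fun r hr => mem_centralizer_singleton_iff.mpr (hRz r hr)) hR
      (fun x hx => hRn x (mem_centralizer_singleton_iff.mp hx))

include E

/-- Every member of `L(S)` normalises `⟨L1, L2⟩`. -/
theorem loc_norm (hG : IsCharacteristicTwoType G) (hS : (S : Subgroup G) ≠ ⊥) {L : Subgroup G}
    (hL : IsLoc (S : Subgroup G) L) : L ≤ normalizer ((L1 ⊔ L2 : Subgroup G) : Set G) := by
  have hle : zl (S : Subgroup G) L ≤ zc (o2 L) := hL.zl_le S hG
  rcases D.all E (D.core hG hS) (L := L) (W := zl (S : Subgroup G) L) (Z0 := zc (S : Subgroup G))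
    hL.le (hle.trans ((zc_le _).trans (hL.o2_le S))) (le_normalizer_zl _ _)
    (fun a ha b hb => zc_comm _ a (hle ha) b (hle hb)) D.zc_le_Z (zc_ne_bot S.isPGroup' hS)
    (zc_le_zl _ _) le_rfl with h | h
  · exact fun g hg => D.NV_norm E (h hg)
  · exact fun g hg => D.NZ_norm E (h hg)

/-- **The end of type `U4(q)`.** -/
theorem known (hB : Omega.RootLemma.Bender.{u}) (h1144 : Omega.Exits.St1144.{u}) (c : Ctx G)
    (hF : Full (S : Subgroup G)) : IsKnownSimple' G := by
  have hsimple := c.simple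
  have hS := c.sylow_ne_bot S
  have h1 : normalizer ((L1 ⊔ L2 : Subgroup G) : Set G) = ⊤ :=
    hF _ fun L hL => D.loc_norm E c.char2 hS hL
  have h2 : (L1 ⊔ L2 : Subgroup G).Normal := normalizer_eq_top_iff.mp h1
  have h3 : (L1 ⊔ L2 : Subgroup G) = ⊤ := by
    rcases h2.eq_bot_or_eq_top with h | h
    · exfalso
      apply D.Z_ne
      rw [eq_bot_iff, ← h]
      exact (D.ZleU.trans D.UL1).trans le_sup_left
    · exact h
  have h4 : (L1 ⊔ H) ⊔ (L2 ⊔ H) = (⊤ : Subgroup G) := by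
    rw [eq_top_iff, ← h3]
    exact sup_le (le_sup_left.trans le_sup_left) (le_sup_left.trans le_sup_right)
  obtain ⟨P, hP1, hP2, -, -⟩ := D.exists_split hB (D.core c.char2 hS) h4
  have hs : IsSimpleGroup (⊤ : Subgroup G) :=
    OddHalf.Known.isSimple_congr (topEquiv (G := G)).symm hsimple
  have h5 := Omega.Outputs.known_of_lieConcl (h1144 (⊤ : Subgroup G) P (by rw [hP1]; norm_num) hP2)
  refine OddHalf.Known.isKnownSimple'_congr (topEquiv (G := G)) (fun hc => c.nonComm ?_) h5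
  constructor
  constructor
  intro a b
  have := hc.is_comm.comm (⟨a, mem_top a⟩ : (⊤ : Subgroup G)) ⟨b, mem_top b⟩
  exact congrArg Subtype.val this

end Cfsg.Agent.RankTwoClose.UFour.Data
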