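import Mathlib

/-!
# Fields of characteristic `2` with an involution

Trace, norm, Hilbert 90 and the irreducibility of the norm-one group, for the natural
`O4^-(q)`-module.
-/

set_option autoImplicit false

namespace Cfsg.Agent.RankTwoClose.UFour.MField

variable {K : Type*} [Field K] [CharP K 2] {s : K ≃+* K}

theorem add_self (a : K) : a + a = 0 := CharTwo.add_self_eq_zero a

theorem neg_eq (a : K) : -a = a := CharTwo.neg_eq a

theorem sub_eq (a b : K) : a - b = a + b := CharTwo.sub_eq_add a b

theorem eq_of_add_eq_zero {a b : K} (h : a + b = 0) : a = b := by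
  have := eq_neg_of_add_eq_zero_left h
  rwa [neg_eq] at this

theorem exists_moved (hne : s ≠ RingEquiv.refl K) : ∃ k : K, s k ≠ k := by
  by_contra h
  push Not at h
  exact hne (RingEquiv.ext h)

/-- The trace is onto the fixed field. -/
theorem exists_trace (hs : ∀ k, s (s k) = k) (hne : s ≠ RingEquiv.refl K) {a : K} (ha : s a = a) :
    ∃ k, k + s k = a := by
  obtain ⟨k, hk⟩ := exists_moved hne
  have hd : k + s k ≠ 0 := fun h => hk (eq_of_add_eq_zero h).symm
  have hsd : s (k + s k) = k + s k := by rw [map_add, hs, add_comm]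
  refine ⟨a * (k + s k)⁻¹ * k, ?_⟩
  rw [map_mul, map_mul, ha, map_inv₀, hsd, ← mul_add, mul_assoc, inv_mul_cancel₀ hd, mul_one]

theorem trace_nondeg (hs : ∀ k, s (s k) = k) (hne : s ≠ RingEquiv.refl K) {b : K}
    (h : ∀ w, s w * b + w * s b = 0) : b = 0 := by
  by_contra hb
  obtain ⟨k, hk⟩ := exists_moved hne
  have h1 := h (s (k * b⁻¹))
  rw [hs, mul_assoc, inv_mul_cancel₀ hb, mul_one, ← map_mul, mul_assoc, inv_mul_cancel₀ hb,
    mul_one] at h1
  exact hk (eq_of_add_eq_zero h1).symm

/-- The square root in a finite field of characteristic two. -/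
theorem exists_sqrt [Finite K] (a : K) : ∃ b, b * b = a := by
  have h : Function.Surjective (frobenius K 2) :=
    Finite.surjective_of_injective (frobenius_inj K 2)
  obtain ⟨b, hb⟩ := h a
  rw [frobenius_def, pow_two] at hb
  exact ⟨b, hb⟩

theorem mul_self_inj {a b : K} (h : a * a = b * b) : a = b := by
  have h1 : (a + b) * (a + b) = 0 := by
    have : (a + b) * (a + b) = a * a + b * b + (a * b + a * b) := by ring
    rw [this, add_self, h, add_self, add_zero]
  exact eq_of_add_eq_zero (mul_self_eq_zero.mp h1)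

/-- The norm is onto the fixed field. -/
theorem exists_norm [Finite K] {a : K} (ha : s a = a) : ∃ k, k * s k = a := by
  obtain ⟨b, hb⟩ := exists_sqrt a
  refine ⟨b, ?_⟩
  have : s b = b := mul_self_inj (by rw [← map_mul, hb, ha])
  rw [this, hb]

/-- Every element of norm one is the square of one. -/
theorem exists_sqrt_norm_one [Finite K] {t : K} (ht : t * s t = 1) :
    ∃ r, r * r = t ∧ r * s r = 1 := by
  obtain ⟨r, hr⟩ := exists_sqrt t
  refine ⟨r, hr, mul_self_inj ?_⟩
  rw [← hr, map_mul] at ht
  rw [mul_one]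
  calc r * s r * (r * s r) = r * r * (s r * s r) := by ring
    _ = 1 := ht

/-- A nontrivial element of norm one. -/
theorem exists_norm_one (hs : ∀ k, s (s k) = k) (hne : s ≠ RingEquiv.refl K) :
    ∃ t, t * s t = 1 ∧ t ≠ 1 := by
  obtain ⟨k, hk⟩ := exists_moved hne
  have hk0 : k ≠ 0 := fun h => hk (by rw [h, map_zero])
  have hsk0 : s k ≠ 0 := fun h => hk0 (s.injective (by rw [h, map_zero]))
  refine ⟨k * (s k)⁻¹, ?_, ?_⟩
  · rw [map_mul, map_inv₀, hs]
    field_simp
  · intro h
    exact hk ((mul_inv_eq_one₀ hsk0).mp h).symm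

/-- A nonzero fixed element different from `1`. -/
theorem exists_fix [Finite K] (hs : ∀ k, s (s k) = k) (hne : s ≠ RingEquiv.refl K)
    (hK : 4 < Nat.card K) : ∃ f, s f = f ∧ f ≠ 0 ∧ f ≠ 1 := by
  by_contra hno
  push Not at hno
  have hF : ∀ f, s f = f → f = 0 ∨ f = 1 := fun f hf => by
    by_cases h0 : f = 0
    · exact Or.inl h0
    · exact Or.inr (hno f hf h0)
  obtain ⟨k, hk⟩ := exists_moved hne
  have hd : k + s k ≠ 0 := fun h => hk (eq_of_add_eq_zero h).symm
  have hsd : s (k + s k) = k + s k := by rw [map_add, hs, add_comm]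
  have hd1 : k + s k = 1 := (hF _ hsd).resolve_left hd
  have hcov : ∀ x : K, x = 0 ∨ x = 1 ∨ x = k ∨ x = 1 + k := by
    intro x
    have hy : s (x + s x) = x + s x := by rw [map_add, hs, add_comm]
    have hsk : s k = 1 + k := by
      have : s k = (k + s k) + k := by
        rw [show k + s k + k = (k + k) + s k by ring, add_self, zero_add]
      rw [this, hd1]
    rcases hF _ hy with h0 | h0
    · have hx : s x = x := (eq_of_add_eq_zero h0).symm
      rcases hF x hx with h | h
      · exact Or.inl h
      · exact Or.inr (Or.inl h)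
    · have hsx : s x = 1 + x := by
        have : s x = (x + s x) + x := by
          rw [show x + s x + x = (x + x) + s x by ring, add_self, zero_add]
        rw [this, h0]
      have hx : s (x + k) = x + k := by
        rw [map_add, hsx, hsk, show (1 : K) + x + (1 + k) = x + k + (1 + 1) by ring, add_self,
          add_zero]
      rcases hF _ hx with h | h
      · exact Or.inr (Or.inr (Or.inl (eq_of_add_eq_zero h)))
      · refine Or.inr (Or.inr (Or.inr ?_))
        have : x = (x + k) + k := by
          rw [add_assoc, add_self, add_zero]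
        rw [this, h]
  have hle : Nat.card K ≤ 4 := by
    classical
    have hu : (Set.univ : Set K) ⊆ (({0, 1, k, 1 + k} : Finset K) : Set K) := by
      intro x _
      have := hcov x
      simpa using this
    have h2 : Nat.card K = (Set.univ : Set K).ncard := (Set.ncard_univ K).symm
    rw [h2]
    calc (Set.univ : Set K).ncard ≤ (({0, 1, k, 1 + k} : Finset K) : Set K).ncard :=
          Set.ncard_le_ncard hu
      _ = ({0, 1, k, 1 + k} : Finset K).card := Set.ncard_coe_finset _
      _ ≤ 4 := Finset.card_le_four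
  omega

/-- An additive subgroup stable under the elements of norm one is trivial. -/
theorem irr_norm_one [Finite K] (hs : ∀ k, s (s k) = k) (hne : s ≠ RingEquiv.refl K)
    (R : AddSubgroup K) (hR : ∀ t, t * s t = 1 → ∀ r ∈ R, t * r ∈ R) : R = ⊥ ∨ R = ⊤ := by
  classical
  haveI : Fintype K := Fintype.ofFinite K
  -- the stabiliser
  let E : Subring K :=
    { carrier := {e | ∀ r ∈ R, e * r ∈ R}
      mul_mem' := fun {a b} ha hb r hr => by
        rw [mul_assoc]; exact ha _ (hb r hr)
      one_mem' := fun r hr => by rwa [one_mul]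
      add_mem' := fun {a b} ha hb r hr => by
        rw [add_mul]; exact add_mem (ha r hr) (hb r hr)
      zero_mem' := fun r _ => by rw [zero_mul]; exact zero_mem _
      neg_mem' := fun {a} ha r hr => by rw [neg_mul]; exact neg_mem (ha r hr) }
  have hmem : ∀ e, e ∈ E ↔ ∀ r ∈ R, e * r ∈ R := fun e => Iff.rfl
  have hinv : ∀ e ∈ E, e⁻¹ ∈ E := by
    intro e he
    by_cases h0 : e = 0
    · rw [h0, inv_zero]; exact zero_mem _
    · have h1 := FiniteField.pow_card_sub_one_eq_one e h0
      have h2 : e⁻¹ = e ^ (Fintype.card K - 2) := by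
        have h3 : 2 ≤ Fintype.card K := Fintype.one_lt_card
        have h4 : e ^ (Fintype.card K - 2) * e = 1 := by
          rw [← pow_succ, show Fintype.card K - 2 + 1 = Fintype.card K - 1 by omega, h1]
        exact (eq_inv_of_mul_eq_one_left h4).symm
      rw [h2]
      exact pow_mem he _
  have hN : ∀ t, t * s t = 1 → t ∈ E := fun t ht => (hmem t).2 (hR t ht)
  have h90 : ∀ k, k ≠ 0 → k * (s k)⁻¹ ∈ E := by
    intro k hk0
    have hsk0 : s k ≠ 0 := fun h => hk0 (s.injective (by rw [h, map_zero]))
    apply hN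
    rw [map_mul, map_inv₀, hs]
    field_simp
  have hmoved : ∀ k, s k ≠ k → s k ∈ E := by
    intro k hk
    have hk0 : k ≠ 0 := fun h => hk (by rw [h, map_zero])
    have hk1 : k + 1 ≠ 0 := by
      intro h
      have h1 : k = 1 := eq_of_add_eq_zero h
      exact hk (by rw [h1, map_one])
    have hsk0 : s k ≠ 0 := fun h => hk0 (s.injective (by rw [h, map_zero]))
    have hsk1 : s k + 1 ≠ 0 := by
      intro h
      have h1 : s k = 1 := eq_of_add_eq_zero h
      have h2 : k = 1 := s.injective (by rw [h1, map_one])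
      exact hk1 (by rw [h2, add_self])
    have hx := h90 k hk0
    have hy := h90 (k + 1) hk1
    rw [map_add, map_one] at hy
    set x := k * (s k)⁻¹ with hxdef
    set y := (k + 1) * (s k + 1)⁻¹ with hydef
    have ex : x * s k = k := by rw [hxdef, mul_assoc, inv_mul_cancel₀ hsk0, mul_one]
    have ey : y * (s k + 1) = k + 1 := by
      rw [hydef, mul_assoc, inv_mul_cancel₀ hsk1, mul_one]
    have e1 : (y - x) * s k = 1 - y := by
      have : y * s k + y = k + 1 := by rw [← ey]; ring
      calc (y - x) * s k = (y * s k + y) - y - x * s k := by ring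
        _ = 1 - y := by rw [this, ex]; ring
    have hyx : y - x ≠ 0 := by
      intro h
      have h1 : y = x := sub_eq_zero.mp h
      rw [h, zero_mul] at e1
      have h2 : y = 1 := (sub_eq_zero.mp e1.symm).symm
      rw [← h1, h2, one_mul] at ex
      exact hk ex
    have e2 : s k = (1 - y) * (y - x)⁻¹ := by
      rw [← e1]
      field_simp
    rw [e2]
    exact mul_mem (sub_mem (one_mem _) hy) (hinv _ (sub_mem hy hx))
  have hmoved' : ∀ k, s k ≠ k → k ∈ E := by
    intro k hk
    have := hmoved (s k) (fun h => hk (s.injective h))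
    rwa [hs] at this
  have htop : ∀ k, k ∈ E := by
    intro k
    by_cases hk : s k = k
    · obtain ⟨w, hw⟩ := exists_moved hne
      have h1 : s (k + w) ≠ k + w := by
        rw [map_add, hk]
        intro h
        exact hw (add_left_cancel h)
      have h2 : k = (k + w) - w := by ring
      rw [h2]
      exact sub_mem (hmoved' _ h1) (hmoved' _ hw)
    · exact hmoved' k hk
  by_cases hbot : R = ⊥
  · exact Or.inl hbot
  · refine Or.inr ?_
    obtain ⟨r, hr, hr0⟩ : ∃ r ∈ R, r ≠ 0 := by
      by_contra h
      push Not at h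
      exact hbot ((AddSubgroup.eq_bot_iff_forall R).2 h)
    rw [eq_top_iff]
    intro k _
    have := (hmem (k * r⁻¹)).1 (htop _) r hr
    rwa [mul_assoc, inv_mul_cancel₀ hr0, mul_one] at this

/-- An additive group of fixed elements stable under the norms is trivial. -/
theorem irr_fix (R : AddSubgroup K) (hF : ∀ r ∈ R, s r = r)
    (hR : ∀ f, s f = f → ∀ r ∈ R, f * r ∈ R) : (∀ r ∈ R, r = 0) ∨ ∀ f, s f = f → f ∈ R := by
  by_cases h : ∀ r ∈ R, r = 0
  · exact Or.inl h
  · right
    push Not at h
    obtain ⟨r, hr, hr0⟩ := h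
    intro f hf
    have h1 : s (f * r⁻¹) = f * r⁻¹ := by rw [map_mul, map_inv₀, hf, hF r hr]
    have := hR _ h1 r hr
    rwa [mul_assoc, inv_mul_cancel₀ hr0, mul_one] at this

end Cfsg.Agent.RankTwoClose.UFour.MField
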