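import Cfsg.Agent.RankTwoClose.UFour.ModelSInv

/-!
# Orders of abelian subgroups of `U`

With `|K| = q^2`: `|V| = q^4`, `|Z| = q`, and an abelian subgroup of `U` which is not contained in `V`
has order at most `q^3`.
-/

set_option autoImplicit false
set_option linter.unusedSectionVars false

namespace Cfsg.Agent.RankTwoClose.UFour

open MField

namespace Model

variable {G : Type*} [Group G] {K : Type*} [Field K] [CharP K 2] {s : K ≃+* K}
  {V L : Subgroup G} (m : Model K s V L)

section Card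

variable [Finite K] (hs : ∀ k, s (s k) = k) (hne : s ≠ RingEquiv.refl K) {q : ℕ}
  (hq : Nat.card K = q ^ 2)

include hs hne hq in
theorem card_fix_eq : Nat.card (fix s) = q := by
  have h1 := card_fix hs hne
  rw [hq, ← pow_two] at h1
  exact Nat.pow_left_injective (n := 2) (by norm_num) h1

include m hs in
/-- The order of `V`. -/
theorem card_V' : Nat.card V = Nat.card (fix s) * (Nat.card K * Nat.card (fix s)) := by
  have e : V ≃ fix s × (K × fix s) :=
    { toFun := fun v => (⟨m.a v, m.s_a v⟩, (m.b v, ⟨m.c v, m.s_c v⟩))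
      invFun := fun x => Classical.choose (m.exists_v hs x.2.1 x.1.2 x.2.2.2)
      left_inv := fun v => by
        obtain ⟨h1, h2, h3⟩ := Classical.choose_spec (m.exists_v hs (m.b v) (m.s_a v) (m.s_c v))
        exact m.ext' h1 h2 h3
      right_inv := fun x => by
        obtain ⟨h1, h2, h3⟩ := Classical.choose_spec (m.exists_v hs x.2.1 x.1.2 x.2.2.2)
        exact Prod.ext (Subtype.ext h1) (Prod.ext h2 (Subtype.ext h3)) }
  rw [Nat.card_congr e, Nat.card_prod, Nat.card_prod]

include m hs hne hq in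
theorem card_V : Nat.card V = q ^ 4 := by
  rw [m.card_V' hs, card_fix_eq hs hne hq, hq]
  ring

include m hs in
theorem finite_V : Finite V := by
  apply Nat.finite_of_card_ne_zero
  rw [m.card_V' hs]
  have h1 : Nat.card (fix s) ≠ 0 := Nat.card_pos.ne'
  have h2 : Nat.card K ≠ 0 := Nat.card_pos.ne'
  exact mul_ne_zero h1 (mul_ne_zero h2 h1)

include hs hne hq in
theorem card_Z : Nat.card m.Z = q := by
  rw [← card_fix_eq hs hne hq]
  have e : m.Z ≃ fix s :=
    { toFun := fun v => ⟨m.a ⟨v, m.ZV v.2⟩, m.s_a _⟩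
      invFun := fun x => ⟨(Classical.choose (m.exists_v hs 0 x.2 (map_zero s)) : V), by
        obtain ⟨h1, h2, h3⟩ := Classical.choose_spec (m.exists_v hs 0 x.2 (map_zero s))
        exact m.coe_mem_Z.2 ⟨h2, h3⟩⟩
      left_inv := fun v => by
        have hv := m.ZV v.2
        obtain ⟨h1, h2, h3⟩ := Classical.choose_spec
          (m.exists_v hs 0 (m.s_a ⟨v, hv⟩) (map_zero s))
        obtain ⟨g2, g3⟩ := (m.coe_mem_Z (v := ⟨v, hv⟩)).1 v.2
        have := m.ext' (v := Classical.choose (m.exists_v hs 0 (m.s_a ⟨v, hv⟩) (map_zero s)))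
          (w := ⟨v, hv⟩) h1 (by rw [h2, g2]) (by rw [h3, g3])
        exact Subtype.ext (congrArg (fun x : V => (x : G)) this)
      right_inv := fun x => by
        obtain ⟨h1, h2, h3⟩ := Classical.choose_spec (m.exists_v hs 0 x.2 (map_zero s))
        exact Subtype.ext h1 }
  exact Nat.card_congr e

variable {m}

/-- The centraliser in `V` of an element of `U`. -/
theorem IsU.comm_iff {u : L} (hu : m.IsU u) (h0 : m.P u 0 1 ≠ 0) (v : V) :
    (v : G) * u = u * v ↔ m.c v = 0 ∧ s (m.b v * (m.P u 0 1)⁻¹) = m.b v * (m.P u 0 1)⁻¹ := by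
  rw [m.comm_iff]
  obtain ⟨h1, h2, h3⟩ := hu.act v
  set w := m.P u 0 1 with hw
  have hsw : s w ≠ 0 := fun h => h0 (s.injective (by rw [h, map_zero]))
  constructor
  · intro h
    rw [h] at h1 h2
    have hc : m.c v = 0 := by
      have := left_eq_add.mp h2
      exact (mul_eq_zero.mp this).resolve_left h0
    refine ⟨hc, ?_⟩
    rw [hc, mul_zero, add_zero] at h1
    have h4 := eq_of_add_eq_zero (left_eq_add.mp h1)
    rw [map_mul, map_inv₀]
    field_simp
    rw [mul_comm (s (m.b v)), ← h4, mul_comm]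
  · rintro ⟨hc, hb⟩
    refine m.ext' ?_ ?_ h3
    · rw [h1, hc, mul_zero, add_zero]
      have h4 : s w * m.b v = w * s (m.b v) := by
        rw [map_mul, map_inv₀] at hb
        field_simp at hb
        rw [mul_comm w]
        exact hb.symm
      rw [h4, add_self, add_zero]
    · rw [h2, hc, mul_zero, add_zero]

variable (m)

include hs hne hq in
/-- **An abelian subgroup of `U` not contained in `V` has order at most `q^3`.** -/
theorem card_le {A : Subgroup G} (hAU : A ≤ m.U) (hA : ∀ a ∈ A, ∀ b ∈ A, a * b = b * a)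
    (hAV : ¬ A ≤ V) : Nat.card A ≤ q ^ 3 := by
  classical
  have := m.finite_V hs
  have hqpos : 0 < q := by
    rw [← card_fix_eq hs hne hq]
    exact Nat.card_pos
  -- the homomorphism into `K`
  let p : A →* Multiplicative K :=
    { toFun := fun x => Multiplicative.ofAdd (m.P ⟨x, m.UL (hAU x.2)⟩ 0 1)
      map_one' := by
        have : (⟨((1 : A) : G), m.UL (hAU (1 : A).2)⟩ : L) = 1 := rfl
        rw [this, m.P_one]
        rfl
      map_mul' := fun x y => by
        have hx : m.IsU ⟨x, m.UL (hAU x.2)⟩ := m.mem_U.1 (hAU x.2)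
        have hy : m.IsU ⟨y, m.UL (hAU y.2)⟩ := m.mem_U.1 (hAU y.2)
        have : (⟨((x * y : A) : G), m.UL (hAU (x * y).2)⟩ : L) =
          ⟨x, m.UL (hAU x.2)⟩ * ⟨y, m.UL (hAU y.2)⟩ := rfl
        rw [this, hx.P_mul hy]
        rfl }
  have hp : ∀ x : A, p x = Multiplicative.ofAdd (m.P ⟨x, m.UL (hAU x.2)⟩ 0 1) := fun x => rfl
  have hker : ∀ x : A, x ∈ p.ker ↔ (x : G) ∈ V := by
    intro x
    have hx : m.IsU ⟨x, m.UL (hAU x.2)⟩ := m.mem_U.1 (hAU x.2)
    rw [MonoidHom.mem_ker, hp, ofAdd_eq_one]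
    exact hx.mem_V.symm
  have hcard : Nat.card A = Nat.card p.range * Nat.card p.ker := by
    rw [Subgroup.card_eq_card_quotient_mul_card_subgroup p.ker,
      Nat.card_congr (QuotientGroup.quotientKerEquivRange p).toEquiv]
  -- an element outside `V`
  obtain ⟨a0, ha0, ha0V⟩ : ∃ a ∈ A, a ∉ V := by
    by_contra hno
    push Not at hno
    exact hAV hno
  have hU0 : m.IsU ⟨a0, m.UL (hAU ha0)⟩ := m.mem_U.1 (hAU ha0)
  set w0 := m.P ⟨a0, m.UL (hAU ha0)⟩ 0 1 with hw0
  have hw00 : w0 ≠ 0 := fun h => ha0V (hU0.mem_V.2 h)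
  -- centralisers
  have hcent : ∀ (a : G) (ha : a ∈ A) (x : A) (hx : (x : G) ∈ V),
      m.P ⟨a, m.UL (hAU ha)⟩ 0 1 ≠ 0 → m.c ⟨x, hx⟩ = 0 ∧
        s (m.b ⟨x, hx⟩ * (m.P ⟨a, m.UL (hAU ha)⟩ 0 1)⁻¹) =
          m.b ⟨x, hx⟩ * (m.P ⟨a, m.UL (hAU ha)⟩ 0 1)⁻¹ := by
    intro a ha x hx h0
    have hU : m.IsU ⟨a, m.UL (hAU ha)⟩ := m.mem_U.1 (hAU ha)
    exact (hU.comm_iff h0 ⟨x, hx⟩).1 (hA _ x.2 _ ha)
  by_cases hF : ∀ x : A, s (Multiplicative.toAdd (p x) * w0⁻¹) = Multiplicative.toAdd (p x) * w0⁻¹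
  · -- `|A V / V| ≤ q`
    have h1 : Nat.card p.range ≤ q := by
      rw [← card_fix_eq hs hne hq]
      let f : p.range → fix s := fun y => ⟨Multiplicative.toAdd (y : Multiplicative K) * w0⁻¹, by
        obtain ⟨x, hx⟩ := y.2
        rw [mem_fix, ← hx]
        exact hF x⟩
      refine Nat.card_le_card_of_injective f ?_
      intro y y' hyy
      have h2 : Multiplicative.toAdd (y : Multiplicative K) * w0⁻¹ =
        Multiplicative.toAdd (y' : Multiplicative K) * w0⁻¹ := congrArg Subtype.val hyy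
      have h3 := mul_right_cancel₀ (inv_ne_zero hw00) h2
      exact Subtype.ext (Multiplicative.toAdd.injective h3)
    have h2 : Nat.card p.ker ≤ q ^ 2 := by
      let f : p.ker → fix s × fix s := fun x =>
        (⟨m.a ⟨x, (hker x).1 x.2⟩, m.s_a _⟩,
          ⟨m.b ⟨x, (hker x).1 x.2⟩ * w0⁻¹, (hcent a0 ha0 x ((hker x).1 x.2) hw00).2⟩)
      have hf : Function.Injective f := by
        intro x y hxy
        have e1 : m.a ⟨x, (hker x).1 x.2⟩ = m.a ⟨y, (hker y).1 y.2⟩ :=
          congrArg Subtype.val (congrArg Prod.fst hxy)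
        have e2 : m.b ⟨x, (hker x).1 x.2⟩ * w0⁻¹ = m.b ⟨y, (hker y).1 y.2⟩ * w0⁻¹ :=
          congrArg Subtype.val (congrArg Prod.snd hxy)
        have e3 := mul_right_cancel₀ (inv_ne_zero hw00) e2
        have c1 := (hcent a0 ha0 x ((hker x).1 x.2) hw00).1
        have c2 := (hcent a0 ha0 y ((hker y).1 y.2) hw00).1
        have e4 := m.ext' e1 e3 (by rw [c1, c2])
        have e5 : ((x : A) : G) = y := congrArg (fun v : V => (v : G)) e4
        exact Subtype.ext (Subtype.ext e5)
      have h3 := Nat.card_le_card_of_injective f hf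
      rw [Nat.card_prod, card_fix_eq hs hne hq, ← pow_two] at h3
      exact h3
    rw [hcard]
    calc Nat.card p.range * Nat.card p.ker ≤ q * q ^ 2 := Nat.mul_le_mul h1 h2
      _ = q ^ 3 := by ring
  · push Not at hF
    obtain ⟨x1, hx1⟩ := hF
    set w1 := m.P ⟨x1, m.UL (hAU x1.2)⟩ 0 1 with hw1
    have hpx : Multiplicative.toAdd (p x1) = w1 := rfl
    rw [hpx] at hx1
    have hw10 : w1 ≠ 0 := by
      intro h
      apply hx1
      rw [h, zero_mul, map_zero]
    have h1 : Nat.card p.range ≤ q ^ 2 := by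
      rw [← hq]
      exact Nat.card_le_card_of_injective (fun y : p.range => Multiplicative.toAdd (y : Multiplicative K))
        (fun y y' h => Subtype.ext (Multiplicative.toAdd.injective h))
    have h2 : Nat.card p.ker ≤ q := by
      rw [← card_fix_eq hs hne hq]
      -- `b = 0`
      have hb : ∀ (x : A) (hx : (x : G) ∈ V), m.b ⟨x, hx⟩ = 0 := by
        intro x hx
        by_contra hb
        have e1 := (hcent a0 ha0 x hx hw00).2
        have e2 := (hcent x1 x1.2 x hx hw10).2
        apply hx1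
        have e3 : w1 * w0⁻¹ = (m.b ⟨x, hx⟩ * w0⁻¹) * (m.b ⟨x, hx⟩ * w1⁻¹)⁻¹ := by
          rw [mul_inv, inv_inv]
          field_simp
        rw [e3, map_mul, map_inv₀]
        exact congrArg₂ (fun a b => a * b⁻¹) e1 e2
      refine Nat.card_le_card_of_injective
        (fun x : p.ker => (⟨m.a ⟨x, (hker x).1 x.2⟩, m.s_a _⟩ : fix s)) ?_
      intro x y hxy
      have e1 : m.a ⟨x, (hker x).1 x.2⟩ = m.a ⟨y, (hker y).1 y.2⟩ := congrArg Subtype.val hxy
      have c1 := (hcent a0 ha0 x ((hker x).1 x.2) hw00).1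
      have c2 := (hcent a0 ha0 y ((hker y).1 y.2) hw00).1
      have e4 := m.ext' e1 (by rw [hb, hb]) (by rw [c1, c2])
      have e5 : ((x : A) : G) = y := congrArg (fun v : V => (v : G)) e4
      exact Subtype.ext (Subtype.ext e5)
    rw [hcard]
    calc Nat.card p.range * Nat.card p.ker ≤ q ^ 2 * q := Nat.mul_le_mul h1 h2
      _ = q ^ 3 := by ring

include hs hne hq in
/-- An abelian subgroup of `U` of order at least `q^4` is `V`. -/
theorem eq_V_of_card {A : Subgroup G} (hAU : A ≤ m.U) (hA : ∀ a ∈ A, ∀ b ∈ A, a * b = b * a)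
    (hcard : q ^ 4 ≤ Nat.card A) : A = V := by
  have := m.finite_V hs
  have hq2 : 2 ≤ q := by
    have h1 : 1 < Nat.card K := Finite.one_lt_card
    rw [hq] at h1
    by_contra h
    have : q = 0 ∨ q = 1 := by omega
    rcases this with h | h <;> rw [h] at h1 <;> norm_num at h1
  have hAV : A ≤ V := by
    by_contra h
    have h1 := m.card_le hs hne hq hAU hA h
    have h2 : q ^ 3 < q ^ 4 := Nat.pow_lt_pow_right hq2 (by norm_num)
    omega
  exact Subgroup.eq_of_le_of_card_ge hAV (by rw [m.card_V hs hne hq]; exact hcard)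

end Card

end Model

end Cfsg.Agent.RankTwoClose.UFour
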