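import Cfsg.Agent.RankTwoClose.UFour.ModelCard

/-!
# Further facts on the natural `O4^-(q)`-module

`[Y, u] = Z` for `u ∈ U - V`, `|Y| = q^3`, and `|C_V(g)| ≤ q^3` for an involution `g` acting as `s` on the
torus.
-/

set_option autoImplicit false
set_option linter.unusedSectionVars false

namespace Cfsg.Agent.RankTwoClose.UFour

open MField

namespace Model

variable {G : Type*} [Group G] {K : Type*} [Field K] [CharP K 2] {s : K ≃+* K}
  {V L : Subgroup G} (m : Model K s V L)

section Ext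

variable (hs : ∀ k, s (s k) = k) (hne : s ≠ RingEquiv.refl K)

include hs hne in
/-- `[Y, u] = Z`. -/
theorem yz : ∀ u ∈ m.U, u ∉ V → ∀ z ∈ m.Z, ∃ y ∈ m.Y, y * u * y⁻¹ * u⁻¹ = z := by
  rintro _ ⟨u, rfl, hu⟩ huV z hz
  have hw : m.P u 0 1 ≠ 0 := fun h => huV (hu.mem_V.2 h)
  have hsw : s (m.P u 0 1) ≠ 0 := fun h => hw (s.injective (by rw [h, map_zero]))
  obtain ⟨z, rfl, hb, hc⟩ := hz
  obtain ⟨k, hk⟩ := exists_trace hs hne (m.s_a z)
  obtain ⟨v, v1, v2, v3⟩ := m.exists_v hs (k * (s (m.P u 0 1))⁻¹) (map_zero s) (map_zero s)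
  refine ⟨v, m.coe_mem_Y.2 v3, ?_⟩
  rw [m.comm_eq]
  congr 1
  obtain ⟨h1, h2, h3⟩ := hu.act v
  refine m.ext' ?_ ?_ ?_
  · rw [m.a_mul, h1, v1, v2, v3, ← hk, map_mul, map_inv₀, hs]
    field_simp
    ring
  · rw [m.b_mul, h2, v3, mul_zero, add_zero, add_self, hb]
  · rw [m.c_mul, h3, v3, add_zero, hc]

variable [Finite K] {q : ℕ} (hq : Nat.card K = q ^ 2)

include hs hne hq in
theorem card_Y : Nat.card m.Y = q ^ 3 := by
  have e : m.Y ≃ fix s × K :=
    { toFun := fun v => (⟨m.a ⟨v, m.YV v.2⟩, m.s_a _⟩, m.b ⟨v, m.YV v.2⟩)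
      invFun := fun x => ⟨(Classical.choose (m.exists_v hs x.2 x.1.2 (map_zero s)) : V), by
        obtain ⟨h1, h2, h3⟩ := Classical.choose_spec (m.exists_v hs x.2 x.1.2 (map_zero s))
        exact m.coe_mem_Y.2 h3⟩
      left_inv := fun v => by
        have hv := m.YV v.2
        obtain ⟨h1, h2, h3⟩ := Classical.choose_spec
          (m.exists_v hs (m.b ⟨v, hv⟩) (m.s_a ⟨v, hv⟩) (map_zero s))
        have g3 := (m.coe_mem_Y (v := ⟨v, hv⟩)).1 v.2
        have := m.ext' (w := ⟨v, hv⟩) h1 h2 (by rw [h3, g3])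
        exact Subtype.ext (congrArg (fun x : V => (x : G)) this)
      right_inv := fun x => by
        obtain ⟨h1, h2, h3⟩ := Classical.choose_spec (m.exists_v hs x.2 x.1.2 (map_zero s))
        exact Prod.ext (Subtype.ext h1) h2 }
  rw [Nat.card_congr e, Nat.card_prod, card_fix_eq hs hne hq, hq]
  ring

include hs hne hq in
theorem card_Y_le : Nat.card m.Y ≤ Nat.card m.Z ^ 3 := by
  rw [m.card_Y hs hne hq, m.card_Z hs hne hq]

variable {m} {H1 : Subgroup G} {ζ : Kˣ} {h : L} (S : Std m H1 ζ h)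

include S hs hne hq in
/-- The fixed points on `V` of an involution acting as `s`. -/
theorem card_centralizer_le {g : G} (hg : g ∈ m.NS H1) {c : K} (hA : IsAut m H1 g s c)
    (hgg : g * g = 1) : Nat.card (V ⊓ Subgroup.centralizer {g} : Subgroup G) ≤ q ^ 3 := by
  classical
  have := m.finite_V hs
  have hcZ := cent_Z S hs hne hg hA hgg
  set C : Subgroup G := V ⊓ Subgroup.centralizer {g} with hC
  have hCV : C ≤ V := inf_le_left
  have hCg : ∀ v ∈ C, g * v = v * g := fun v hv =>
    Subgroup.mem_centralizer_iff.1 (Subgroup.mem_inf.1 hv).2 g (Set.mem_singleton g)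
  -- the `b`-coordinate of the fixed points in `Y`
  have hb : ∀ v : V, (v : G) ∈ C → m.c v = 0 → s (m.b v) = s c * m.b v := by
    intro v hv hc
    have key : ∀ w : K, s w * (c * s (m.b v) + m.b v) + w * s (c * s (m.b v) + m.b v) = 0 := by
      intro w
      obtain ⟨u, hu, huw⟩ := m.exists_U w
      obtain ⟨e1, e2⟩ := hA.unip u hu (gc (NS.nL hg) u) rfl
      rw [huw] at e2
      obtain ⟨h1, h2, h3⟩ := hu.act v
      obtain ⟨k1, k2, k3⟩ := e1.act v
      -- the commutators agree
      have hz : ((v * m.cg u v : V) : G) ∈ m.Z := m.coe_mem_Z.2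
        ⟨by rw [m.b_mul, h2, hc, mul_zero, add_zero, add_self], by rw [m.c_mul, h3, hc, add_zero]⟩
      have h4 : g * ((v * m.cg u v : V) : G) * g⁻¹ = ((v * m.cg u v : V) : G) := by
        rw [hcZ _ hz, mul_inv_cancel_right]
      have h5 : g * ((v * m.cg u v : V) : G) * g⁻¹ = ((v * m.cg (gc (NS.nL hg) u) v : V) : G) := by
        have hv' : g * (v : G) * g⁻¹ = v := by rw [hCg _ hv, mul_inv_cancel_right]
        show g * ((v : G) * ((u : G) * v * (u : G)⁻¹)) * g⁻¹ =
          (v : G) * ((g * u * g⁻¹) * v * (g * u * g⁻¹)⁻¹)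
        calc g * ((v : G) * ((u : G) * v * (u : G)⁻¹)) * g⁻¹
            = (g * (v : G) * g⁻¹) * ((g * u * g⁻¹) * (g * (v : G) * g⁻¹) * (g * u * g⁻¹)⁻¹) := by
              group
          _ = _ := by rw [hv']
      have h6 : m.a (v * m.cg (gc (NS.nL hg) u) v) = m.a (v * m.cg u v) := by
        congr 1
        exact Subtype.ext (h5.symm.trans h4)
      rw [m.a_mul, m.a_mul, h1, k1, hc, e2, huw] at h6
      simp only [map_mul, hs, mul_zero, add_zero] at h6
      have h7 := add_left_cancel (add_left_cancel h6)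
      -- `h7 : s c * w * b + c * s w * s b = s w * b + w * s b`
      have h8 : s w * (c * s (m.b v) + m.b v) + w * s (c * s (m.b v) + m.b v) =
          (s c * w * m.b v + c * s w * s (m.b v)) + (s w * m.b v + w * s (m.b v)) := by
        rw [map_add, map_mul, hs]
        ring
      rw [h8, h7, add_self]
    have h1 := eq_of_add_eq_zero (trace_nondeg hs hne key)
    have h2 := congrArg s h1
    rw [map_mul, hs] at h2
    exact h2.symm
  -- the homomorphism
  let p : C →* Multiplicative K :=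
    { toFun := fun x => Multiplicative.ofAdd (m.c ⟨x, hCV x.2⟩)
      map_one' := by
        have : (⟨((1 : C) : G), hCV (1 : C).2⟩ : V) = 1 := rfl
        rw [this, m.c_one]
        rfl
      map_mul' := fun x y => by
        have : (⟨((x * y : C) : G), hCV (x * y).2⟩ : V) = ⟨x, hCV x.2⟩ * ⟨y, hCV y.2⟩ := rfl
        rw [this, m.c_mul]
        rfl }
  have hker : ∀ x : p.ker, m.c ⟨x, hCV (x : C).2⟩ = 0 := fun x =>
    Multiplicative.ofAdd.injective (MonoidHom.mem_ker.1 x.2)
  have hcard : Nat.card C = Nat.card p.range * Nat.card p.ker := by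
    rw [Subgroup.card_eq_card_quotient_mul_card_subgroup p.ker,
      Nat.card_congr (QuotientGroup.quotientKerEquivRange p).toEquiv]
  have h1 : Nat.card p.range ≤ q := by
    rw [← card_fix_eq hs hne hq]
    refine Nat.card_le_card_of_injective
      (fun y : p.range => (⟨Multiplicative.toAdd (y : Multiplicative K), ?_⟩ : fix s)) ?_
    · obtain ⟨x, hx⟩ := y.2
      rw [mem_fix, ← hx]
      exact m.s_c _
    · intro y y' hyy
      exact Subtype.ext (Multiplicative.toAdd.injective
        (congrArg (fun x : fix s => (x : K)) hyy))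
  have h2 : Nat.card p.ker ≤ q ^ 2 := by
    by_cases hall : ∀ x : p.ker, m.b ⟨x, hCV (x : C).2⟩ = 0
    · have h3 : Nat.card p.ker ≤ q := by
        rw [← card_fix_eq hs hne hq]
        refine Nat.card_le_card_of_injective
          (fun x : p.ker => (⟨m.a ⟨x, hCV (x : C).2⟩, m.s_a _⟩ : fix s)) ?_
        intro x y hxy
        have e1 : m.a ⟨x, hCV (x : C).2⟩ = m.a ⟨y, hCV (y : C).2⟩ := congrArg Subtype.val hxy
        have e4 := m.ext' e1 (by rw [hall x, hall y]) (by rw [hker x, hker y])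
        have e5 : ((x : C) : G) = y := congrArg (fun v : V => (v : G)) e4
        exact Subtype.ext (Subtype.ext e5)
      refine h3.trans ?_
      rw [pow_two]
      exact Nat.le_mul_self q
    · push Not at hall
      obtain ⟨x0, hx0⟩ := hall
      have hb0 := hb ⟨x0, hCV (x0 : C).2⟩ (x0 : C).2 (hker x0)
      set b0 := m.b ⟨x0, hCV (x0 : C).2⟩ with hb0d
      have hfix : ∀ x : p.ker, s (m.b ⟨x, hCV (x : C).2⟩ * b0⁻¹) = m.b ⟨x, hCV (x : C).2⟩ * b0⁻¹ := by
        intro x
        rw [map_mul, map_inv₀, hb0, hb ⟨x, hCV (x : C).2⟩ (x : C).2 (hker x)]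
        have hsc : s c ≠ 0 := fun h => hA.ne (s.injective (by rw [h, map_zero]))
        field_simp
      have h3 := Nat.card_le_card_of_injective
        (fun x : p.ker => ((⟨m.a ⟨x, hCV (x : C).2⟩, m.s_a _⟩ : fix s),
          (⟨m.b ⟨x, hCV (x : C).2⟩ * b0⁻¹, hfix x⟩ : fix s))) (by
        intro x y hxy
        have e1 : m.a ⟨x, hCV (x : C).2⟩ = m.a ⟨y, hCV (y : C).2⟩ :=
          congrArg Subtype.val (congrArg Prod.fst hxy)
        have e2 : m.b ⟨x, hCV (x : C).2⟩ * b0⁻¹ = m.b ⟨y, hCV (y : C).2⟩ * b0⁻¹ :=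
          congrArg Subtype.val (congrArg Prod.snd hxy)
        have e3 := mul_right_cancel₀ (inv_ne_zero hx0) e2
        have e4 := m.ext' e1 e3 (by rw [hker x, hker y])
        have e5 : ((x : C) : G) = y := congrArg (fun v : V => (v : G)) e4
        exact Subtype.ext (Subtype.ext e5))
      rw [Nat.card_prod, card_fix_eq hs hne hq, ← pow_two] at h3
      exact h3
  rw [hcard]
  calc Nat.card p.range * Nat.card p.ker ≤ q * q ^ 2 := Nat.mul_le_mul h1 h2
    _ = q ^ 3 := by ring

end Ext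

end Model

end Cfsg.Agent.RankTwoClose.UFour
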