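import Cfsg.Agent.RankTwoClose.UFour.ModelTorus

/-!
# Semilinear elements

An element `g` of the ambient group which normalises `V`, `L`, `U` and the diagonal torus `H1` acts on
`L/V = SL(2, K)` through an automorphism of the field `K`.
-/

set_option autoImplicit false
set_option linter.unusedSectionVars false
set_option linter.unusedSimpArgs false

namespace Cfsg.Agent.RankTwoClose.UFour

open MField

namespace Model

variable {G : Type*} [Group G] {K : Type*} [Field K] [CharP K 2] {s : K ≃+* K}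
  {V L : Subgroup G} (m : Model K s V L)

/-- The elements which normalise everything. -/
def NS (H1 : Subgroup G) : Subgroup G :=
  Subgroup.normalizer (V : Set G) ⊓ Subgroup.normalizer (L : Set G) ⊓
    Subgroup.normalizer (m.U : Set G) ⊓ Subgroup.normalizer (H1 : Set G)

variable {m} {H1 : Subgroup G}

theorem NS.nV {g : G} (hg : g ∈ m.NS H1) : g ∈ Subgroup.normalizer (V : Set G) := hg.1.1.1
theorem NS.nL {g : G} (hg : g ∈ m.NS H1) : g ∈ Subgroup.normalizer (L : Set G) := hg.1.1.2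
theorem NS.nU {g : G} (hg : g ∈ m.NS H1) : g ∈ Subgroup.normalizer (m.U : Set G) := hg.1.2
theorem NS.nH {g : G} (hg : g ∈ m.NS H1) : g ∈ Subgroup.normalizer (H1 : Set G) := hg.2

/-- Conjugation by an element normalising `L`. -/
def gc {g : G} (hg : g ∈ Subgroup.normalizer (L : Set G)) : L →* L where
  toFun x := ⟨g * x * g⁻¹, conj_mem hg x.2⟩
  map_one' := by
    apply Subtype.ext
    show g * ((1 : L) : G) * g⁻¹ = ((1 : L) : G)
    rw [Subgroup.coe_one, mul_one, mul_inv_cancel]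
  map_mul' x y := by
    apply Subtype.ext
    show g * ((x * y : L) : G) * g⁻¹ = g * x * g⁻¹ * (g * y * g⁻¹)
    rw [Subgroup.coe_mul]
    group

theorem coe_gc {g : G} (hg : g ∈ Subgroup.normalizer (L : Set G)) (x : L) :
    (gc hg x : G) = g * x * g⁻¹ := rfl

/-! ### Coordinates in `U` -/

theorem IsU.P_mul {x y : L} (hx : m.IsU x) (hy : m.IsU y) :
    m.P (x * y) 0 1 = m.P x 0 1 + m.P y 0 1 := by
  rw [Model.P_mul, hx.1, hy.2.2, one_mul, mul_one, add_comm]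

theorem IsU.mul {x y : L} (hx : m.IsU x) (hy : m.IsU y) : m.IsU (x * y) := by
  refine ⟨?_, ?_, ?_⟩
  · rw [Model.P_mul, hx.1, hy.1, hy.2.1]; ring
  · rw [Model.P_mul, hx.2.1, hx.2.2, hy.2.1]; ring
  · rw [Model.P_mul, hx.2.1, hx.2.2, hy.2.2]; ring

theorem IsU.inv {x : L} (hx : m.IsU x) : m.IsU x⁻¹ ∧ m.P x⁻¹ 0 1 = m.P x 0 1 := by
  obtain ⟨g1, g2, g3, g4⟩ := m.P_inv x
  exact ⟨⟨by rw [g1, hx.2.2], by rw [g3, hx.2.1], by rw [g4, hx.1]⟩, g2⟩

theorem IsU.mem_V {x : L} (hx : m.IsU x) : (x : G) ∈ V ↔ m.P x 0 1 = 0 := by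
  rw [m.mem_V_iff]
  exact ⟨fun h => h.2.1, fun h => ⟨hx.1, h, hx.2.1, hx.2.2⟩⟩

theorem isU_of_mem_V {x : L} (hx : (x : G) ∈ V) : m.IsU x ∧ m.P x 0 1 = 0 := by
  rw [m.mem_V_iff] at hx
  exact ⟨⟨hx.1, hx.2.2.1, hx.2.2.2⟩, hx.2.1⟩

theorem IsU.mul_inv_mem {x y : L} (hx : m.IsU x) (hy : m.IsU y) :
    ((x * y⁻¹ : L) : G) ∈ V ↔ m.P x 0 1 = m.P y 0 1 := by
  obtain ⟨h1, h2⟩ := hy.inv
  rw [(hx.mul h1).mem_V, hx.P_mul h1, h2]
  exact ⟨eq_of_add_eq_zero, fun h => by rw [h, add_self]⟩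

theorem IsU.gc {g : G} (hg : g ∈ m.NS H1) {x : L} (hx : m.IsU x) : m.IsU (gc (NS.nL hg) x) :=
  m.mem_U.1 (conj_mem (NS.nU hg) (m.mem_U.2 hx))

theorem IsU.gc_P {g : G} (hg : g ∈ m.NS H1) {x y : L} (hx : m.IsU x) (hy : m.IsU y)
    (h : m.P x 0 1 = m.P y 0 1) : m.P (Model.gc (NS.nL hg) x) 0 1 = m.P (Model.gc (NS.nL hg) y) 0 1 := by
  rw [← (hx.gc hg).mul_inv_mem (hy.gc hg), ← map_inv, ← map_mul]
  exact conj_mem (NS.nV hg) ((hx.mul_inv_mem hy).2 h)

theorem IsT.conj_U {t : K} {x u : L} (hx : m.IsT t x) (hu : m.IsU u) :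
    m.IsU (x * u * x⁻¹) ∧ m.P (x * u * x⁻¹) 0 1 = t * t * m.P u 0 1 := by
  obtain ⟨g1, g2, g3, g4⟩ := m.P_inv x
  obtain ⟨h0, t1, t2, t3, t4⟩ := hx
  obtain ⟨u1, u2, u3⟩ := hu
  refine ⟨⟨?_, ?_, ?_⟩, ?_⟩
  · simp only [Model.P_mul, g1, g2, g3, g4, t1, t2, t3, t4, u1, u2, u3]
    field_simp
    ring
  · simp only [Model.P_mul, g1, g2, g3, g4, t1, t2, t3, t4, u1, u2, u3]
    ring
  · simp only [Model.P_mul, g1, g2, g3, g4, t1, t2, t3, t4, u1, u2, u3]
    field_simp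
    ring
  · simp only [Model.P_mul, g1, g2, g3, g4, t1, t2, t3, t4, u1, u2, u3]
    ring

/-! ### The automorphism of the field -/

section Aut

variable [Finite K] {ζ : Kˣ} {h : L} (S : Std m H1 ζ h)

/-- `θ` is the automorphism of the field belonging to `g`. -/
structure IsAut (m : Model K s V L) (H1 : Subgroup G) (g : G) (θ : K ≃+* K) (c : K) : Prop where
  ne : c ≠ 0
  torus : ∀ (x : L), (x : G) ∈ H1 → ∀ t, m.IsT t x →
    ∀ y : L, (y : G) = g * x * g⁻¹ → m.IsT (θ t) y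
  unip : ∀ x : L, m.IsU x → ∀ y : L, (y : G) = g * x * g⁻¹ →
    m.IsU y ∧ m.P y 0 1 = c * θ (m.P x 0 1)

include S in
theorem exists_isAut {g : G} (hg : g ∈ m.NS H1) : ∃ θ c, IsAut m H1 g θ c := by
  classical
  choose u hu hu1 using fun w : K => m.exists_U w
  let φ : K → K := fun w => m.P (gc (NS.nL hg) (u w)) 0 1
  have hφ : ∀ x : L, m.IsU x → m.P (gc (NS.nL hg) x) 0 1 = φ (m.P x 0 1) := fun x hx =>
    hx.gc_P hg (hu _) (hu1 _).symm
  have hadd : ∀ a b, φ (a + b) = φ a + φ b := by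
    intro a b
    have h1 : m.P (u a * u b) 0 1 = a + b := by rw [(hu a).P_mul (hu b), hu1, hu1]
    rw [← h1, ← hφ _ ((hu a).mul (hu b)), map_mul, ((hu a).gc hg).P_mul ((hu b).gc hg)]
  have hker : ∀ a, φ a = 0 → a = 0 := by
    intro a ha
    have h1 : ((gc (NS.nL hg) (u a) : L) : G) ∈ V := ((hu a).gc hg).mem_V.2 ha
    have h2 : ((u a : L) : G) ∈ V := by
      have h3 := conj_mem' (NS.nV hg) h1
      rw [coe_gc] at h3
      have h4 : g⁻¹ * (g * (u a : L) * g⁻¹) * g = (u a : L) := by group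
      rwa [h4] at h3
    rw [← hu1 a]
    exact (hu a).mem_V.1 h2
  have hzero : φ 0 = 0 := by
    have := hadd 0 0
    rw [add_zero] at this
    exact left_eq_add.mp this
  -- the torus
  have htor : ∀ x : L, (x : G) ∈ H1 → ∀ t, m.IsT t x → ∃ t', m.IsT t' (gc (NS.nL hg) x) ∧
      ∀ w, φ (t * t * w) = t' * t' * φ w := by
    intro x hx t ht
    have h1 : ((gc (NS.nL hg) x : L) : G) ∈ H1 := conj_mem (NS.nH hg) hx
    obtain ⟨y, hy, t', ht'⟩ := S.isT _ h1
    have hy' : y = gc (NS.nL hg) x := Subtype.ext hy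
    rw [hy'] at ht'
    refine ⟨t', ht', fun w => ?_⟩
    obtain ⟨e1, e2⟩ := ht.conj_U (hu w)
    obtain ⟨e3, e4⟩ := ht'.conj_U ((hu w).gc hg)
    rw [hu1] at e2
    rw [← e2, ← hφ _ e1, map_mul, map_mul, map_inv, e4]
  set c := φ 1 with hc
  have hc0 : c ≠ 0 := fun h0 => one_ne_zero (hker 1 h0)
  have hmul : ∀ a b, φ (a * b) * c⁻¹ = (φ a * c⁻¹) * (φ b * c⁻¹) := by
    intro a b
    by_cases ha : a = 0
    · rw [ha, zero_mul, hzero]; ring
    · obtain ⟨t, ht⟩ := exists_sqrt a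
      have ht0 : t ≠ 0 := by
        intro h0
        rw [h0, zero_mul] at ht
        exact ha ht.symm
      obtain ⟨x, hx, hxT⟩ := S.onto t ht0
      obtain ⟨t', ht', hw⟩ := htor x hx t hxT
      have h1 : φ a = t' * t' * c := by
        have := hw 1
        rwa [mul_one, ht] at this
      rw [← ht, hw b, ht, h1]
      field_simp
  let θ0 : K →+* K :=
    { toFun := fun a => φ a * c⁻¹
      map_one' := mul_inv_cancel₀ hc0
      map_mul' := hmul
      map_zero' := by rw [hzero, zero_mul]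
      map_add' := fun a b => by rw [hadd, add_mul] }
  have hbij : Function.Bijective θ0 :=
    ⟨θ0.injective, Finite.surjective_of_injective θ0.injective⟩
  let θ : K ≃+* K := RingEquiv.ofBijective θ0 hbij
  have hθ : ∀ a, φ a = c * θ a := by
    intro a
    show φ a = c * (φ a * c⁻¹)
    field_simp
  refine ⟨θ, c, hc0, ?_, ?_⟩
  · intro x hx t ht y hy
    obtain ⟨t', ht', hw⟩ := htor x hx t ht
    have hy' : y = gc (NS.nL hg) x := Subtype.ext hy
    rw [hy']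
    have h1 := hw 1
    rw [mul_one, hθ, ← hc, map_mul, mul_comm] at h1
    have h2 := mul_right_cancel₀ hc0 h1
    rw [mul_self_inj h2]
    exact ht'
  · intro x hx y hy
    have hy' : y = gc (NS.nL hg) x := Subtype.ext hy
    rw [hy']
    exact ⟨hx.gc hg, by rw [hφ x hx, hθ]⟩

theorem IsAut.unique {g : G} (hg : g ∈ m.NS H1) {θ θ' : K ≃+* K} {c c' : K}
    (h : IsAut m H1 g θ c) (h' : IsAut m H1 g θ' c') : θ = θ' ∧ c = c' := by
  have hc : c = c' := by
    obtain ⟨u, hu, hu1⟩ := m.exists_U 1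
    have h1 := (h.unip u hu (gc (NS.nL hg) u) rfl).2
    have h2 := (h'.unip u hu (gc (NS.nL hg) u) rfl).2
    rw [hu1, map_one, mul_one] at h1 h2
    rw [← h1, h2]
  refine ⟨?_, hc⟩
  ext w
  obtain ⟨u, hu, hu1⟩ := m.exists_U w
  have h1 := (h.unip u hu (gc (NS.nL hg) u) rfl).2
  have h2 := (h'.unip u hu (gc (NS.nL hg) u) rfl).2
  rw [hu1] at h1 h2
  rw [h1, hc] at h2
  exact mul_left_cancel₀ (hc ▸ h.ne) h2

theorem IsAut.mul {g g' : G} (hg' : g' ∈ m.NS H1) {θ θ' : K ≃+* K} {c c' : K}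
    (h : IsAut m H1 g θ c) (h' : IsAut m H1 g' θ' c') :
    IsAut m H1 (g * g') (θ'.trans θ) (c * θ c') := by
  refine ⟨mul_ne_zero h.ne ?_, ?_, ?_⟩
  · exact fun h0 => h'.ne (θ.injective (by rw [h0, map_zero]))
  · intro x hx t ht y hy
    have h1 := h'.torus x hx t ht (gc (NS.nL hg') x) rfl
    refine h.torus (gc (NS.nL hg') x) (conj_mem (NS.nH hg') hx) _ h1 y ?_
    rw [hy, coe_gc]
    group
  · intro x hx y hy
    obtain ⟨h1, h2⟩ := h'.unip x hx (gc (NS.nL hg') x) rfl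
    obtain ⟨h3, h4⟩ := h.unip _ h1 y (by rw [hy, coe_gc]; group)
    refine ⟨h3, ?_⟩
    rw [h4, h2, map_mul, mul_assoc]
    rfl

theorem isAut_one : IsAut m H1 1 (RingEquiv.refl K) 1 := by
  refine ⟨one_ne_zero, ?_, ?_⟩
  · intro x _ t ht y hy
    have : y = x := Subtype.ext (by rw [hy]; group)
    rw [this]
    exact ht
  · intro x hx y hy
    have : y = x := Subtype.ext (by rw [hy]; group)
    rw [this]
    exact ⟨hx, by rw [one_mul]; rfl⟩

/-- **The homomorphism into the automorphism group of the field.** -/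
noncomputable def aut (S : Std m H1 ζ h) : m.NS H1 →* (K ≃+* K) where
  toFun g := Classical.choose (exists_isAut S g.2)
  map_one' := by
    obtain ⟨c, hc⟩ := Classical.choose_spec (exists_isAut S (1 : m.NS H1).2)
    exact (hc.unique (1 : m.NS H1).2 isAut_one).1
  map_mul' g g' := by
    obtain ⟨c, hc⟩ := Classical.choose_spec (exists_isAut S (g * g').2)
    obtain ⟨c1, hc1⟩ := Classical.choose_spec (exists_isAut S g.2)
    obtain ⟨c2, hc2⟩ := Classical.choose_spec (exists_isAut S g'.2)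
    exact (hc.unique (g * g').2 (hc1.mul g'.2 hc2)).1

theorem aut_spec (S : Std m H1 ζ h) (g : m.NS H1) : ∃ c, IsAut m H1 (g : G) (aut S g) c :=
  Classical.choose_spec (exists_isAut S g.2)

theorem aut_eq (S : Std m H1 ζ h) (g : m.NS H1) {θ : K ≃+* K} {c : K}
    (hθ : IsAut m H1 (g : G) θ c) : aut S g = θ := by
  obtain ⟨c', hc'⟩ := aut_spec S g
  exact (hc'.unique g.2 hθ).1

/-- An element of trivial field action centralises the torus. -/
theorem centralizes_of_aut_one (S : Std m H1 ζ h) (hodd : Odd (Nat.card H1)) {g : m.NS H1}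
    (h1 : aut S g = 1) : ∀ x ∈ H1, (g : G) * x = x * g := by
  intro x hx
  obtain ⟨y, rfl, t, ht⟩ := S.isT x hx
  obtain ⟨c, hc⟩ := aut_spec S g
  have h2 := hc.torus y hx t ht (gc (NS.nL g.2) y) rfl
  rw [h1] at h2
  have h3 : m.IsT t (gc (NS.nL g.2) y) := h2
  have h4 : m.IsU (gc (NS.nL g.2) y * y⁻¹) ∧ m.P (gc (NS.nL g.2) y * y⁻¹) 0 1 = 0 := by
    have := h3.mul ht.inv
    rw [mul_inv_cancel₀ ht.1] at this
    obtain ⟨-, p1, p2, p3, p4⟩ := this
    rw [inv_one] at p4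
    exact ⟨⟨p1, p3, p4⟩, p2⟩
  have h5 : ((gc (NS.nL g.2) y * y⁻¹ : L) : G) ∈ H1 := by
    rw [Subgroup.coe_mul, Subgroup.coe_inv]
    exact mul_mem (conj_mem (NS.nH g.2) hx) (inv_mem hx)
  have h6 := h4.1.eq_one_of_odd h5 hodd
  have h7 : (g : G) * y * (g : G)⁻¹ = y := congrArg Subtype.val (mul_inv_eq_one.mp h6)
  calc (g : G) * y = (g : G) * y * (g : G)⁻¹ * g := by group
    _ = y * g := by rw [h7]

end Aut

end Model

end Cfsg.Agent.RankTwoClose.UFour
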