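import Cfsg.Agent.RankTwoClose.UFour.ModelS

/-!
# Field involutions and abelian subgroups of `U`

(1) an element of order two of the automorphism group of a finite field is unique;
(2) an involution which acts as `s` on the torus centralises `Z` and `Z^{n1}`;
(3) Hilbert 90: the involutions of `U g` modulo `V`;
(4) an abelian subgroup of `U` which is not contained in `V` has order at most `q^3`.
-/

set_option autoImplicit false
set_option linter.unusedSectionVars false
set_option linter.unusedSimpArgs false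

namespace Cfsg.Agent.RankTwoClose.UFour

namespace MField

variable {K : Type*} [Field K] [CharP K 2] {s : K ≃+* K}

/-- The automorphism group of a finite field has only one involution. -/
theorem eq_of_involutions [Finite K] (hs : ∀ k, s (s k) = k) (hne : s ≠ RingEquiv.refl K)
    {θ : K ≃+* K} (hθ : ∀ k, θ (θ k) = k) (hθne : θ ≠ RingEquiv.refl K) : θ = s := by
  classical
  let _ : Algebra (ZMod 2) K := ZMod.algebra K 2
  have hcom : ∀ (f : K ≃+* K) (r : ZMod 2), f (algebraMap (ZMod 2) K r) = algebraMap (ZMod 2) K r := by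
    intro f r
    have h1 : (f : K →+* K).comp (algebraMap (ZMod 2) K) = algebraMap (ZMod 2) K :=
      Subsingleton.elim _ _
    exact RingHom.congr_fun h1 r
  let S : K ≃ₐ[ZMod 2] K := AlgEquiv.ofRingEquiv (f := s) (hcom s)
  let T : K ≃ₐ[ZMod 2] K := AlgEquiv.ofRingEquiv (f := θ) (hcom θ)
  have : Fintype (K ≃ₐ[ZMod 2] K) := Fintype.ofFinite _
  have : IsCyclic (K ≃ₐ[ZMod 2] K) := inferInstanceAs (IsCyclic Gal(K/ZMod 2))
  have hcard := IsCyclic.card_pow_eq_one_le (α := K ≃ₐ[ZMod 2] K) (n := 2) (by norm_num)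
  by_contra hne'
  have hS : S ^ 2 = 1 := by
    rw [pow_two]
    ext k
    exact hs k
  have hT : T ^ 2 = 1 := by
    rw [pow_two]
    ext k
    exact hθ k
  have hS1 : S ≠ 1 := by
    intro h
    apply hne
    ext k
    exact AlgEquiv.congr_fun h k
  have hT1 : T ≠ 1 := by
    intro h
    apply hθne
    ext k
    exact AlgEquiv.congr_fun h k
  have hTS : T ≠ S := by
    intro h
    apply hne'
    ext k
    exact AlgEquiv.congr_fun h k
  have hsub : ({1, S, T} : Finset (K ≃ₐ[ZMod 2] K)) ⊆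
      Finset.univ.filter (fun a => a ^ 2 = 1) := by
    intro x hx
    rw [Finset.mem_filter]
    refine ⟨Finset.mem_univ _, ?_⟩
    simp only [Finset.mem_insert, Finset.mem_singleton] at hx
    rcases hx with rfl | rfl | rfl
    · exact one_pow _
    · exact hS
    · exact hT
  have h3 : ({1, S, T} : Finset (K ≃ₐ[ZMod 2] K)).card = 3 := by
    rw [Finset.card_insert_of_notMem, Finset.card_insert_of_notMem, Finset.card_singleton]
    · rw [Finset.mem_singleton]
      exact fun h => hTS h.symm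
    · rw [Finset.mem_insert, Finset.mem_singleton]
      rintro (h | h)
      · exact hS1 h.symm
      · exact hT1 h.symm
  have h4 := Finset.card_le_card hsub
  rw [h3] at h4
  omega

/-- The fixed elements. -/
def fix (s : K ≃+* K) : AddSubgroup K where
  carrier := {k | s k = k}
  add_mem' {a b} ha hb := by
    show s (a + b) = a + b
    rw [map_add, show s a = a from ha, show s b = b from hb]
  zero_mem' := map_zero s
  neg_mem' {a} ha := by
    show s (-a) = -a
    rw [map_neg, show s a = a from ha]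

theorem mem_fix {k : K} : k ∈ fix s ↔ s k = k := Iff.rfl

theorem card_fix [Finite K] (hs : ∀ k, s (s k) = k) (hne : s ≠ RingEquiv.refl K) :
    Nat.card (fix s) * Nat.card (fix s) = Nat.card K := by
  let T : K →+ K :=
    { toFun := fun k => k + s k
      map_zero' := by rw [map_zero, add_zero]
      map_add' := fun a b => by rw [map_add]; ring }
  have hk : T.ker = fix s := by
    ext k
    rw [AddMonoidHom.mem_ker, mem_fix]
    constructor
    · intro h
      exact (eq_of_add_eq_zero (show k + s k = 0 from h)).symm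
    · intro h
      show k + s k = 0
      rw [h, add_self]
  have hr : T.range = fix s := by
    ext k
    rw [AddMonoidHom.mem_range, mem_fix]
    constructor
    · rintro ⟨y, rfl⟩
      show s (y + s y) = y + s y
      rw [map_add, hs, add_comm]
    · intro h
      obtain ⟨y, hy⟩ := exists_trace hs hne h
      exact ⟨y, hy⟩
  have h1 := AddSubgroup.card_eq_card_quotient_mul_card_addSubgroup T.ker
  have h2 : Nat.card (K ⧸ T.ker) = Nat.card T.range :=
    Nat.card_congr (QuotientAddGroup.quotientKerEquivRange T).toEquiv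
  rw [h2, hk, hr] at h1
  exact h1.symm

end MField

open MField

namespace Model

variable {G : Type*} [Group G] {K : Type*} [Field K] [CharP K 2] {s : K ≃+* K}
  {V L : Subgroup G} {m : Model K s V L} {H1 : Subgroup G}

section Inv

variable [Finite K] {ζ : Kˣ} {h : L} (S : Std m H1 ζ h)
  (hs : ∀ k, s (s k) = k) (hne : s ≠ RingEquiv.refl K)

include hs hne in
/-- Either trivial or `s`, for a field automorphism of order at most two. -/
theorem aut_eq_one_or {g : m.NS H1} (h2 : aut S g * aut S g = 1) :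
    aut S g = 1 ∨ aut S g = s := by
  by_cases h1 : aut S g = 1
  · exact Or.inl h1
  · right
    refine eq_of_involutions hs hne ?_ h1
    intro k
    exact RingEquiv.congr_fun h2 k

/-! ### The action on `V` -/

/-- Conjugation on `V`. -/
def cv {g : G} (hg : g ∈ m.NS H1) (v : V) : V := ⟨g * v * g⁻¹, conj_mem (NS.nV hg) v.2⟩

theorem coe_cv {g : G} (hg : g ∈ m.NS H1) (v : V) : (cv hg v : G) = g * v * g⁻¹ := rfl

theorem cv_cg {g : G} (hg : g ∈ m.NS H1) (x : L) (v : V) :
    cv hg (m.cg x v) = m.cg (gc (NS.nL hg) x) (cv hg v) := by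
  apply Subtype.ext
  show g * ((x : G) * v * (x : G)⁻¹) * g⁻¹ =
    (g * x * g⁻¹) * (g * v * g⁻¹) * (g * x * g⁻¹)⁻¹
  group

include hs hne in
theorem normZ {g : G} (hg : g ∈ m.NS H1) {z : G} (hz : z ∈ m.Z) : g * z * g⁻¹ ∈ m.Z := by
  rw [m.memZ hs hne] at hz ⊢
  refine ⟨conj_mem (NS.nV hg) hz.1, fun u hu => ?_⟩
  have h1 := hz.2 _ (conj_mem' (NS.nU hg) hu)
  calc g * z * g⁻¹ * u = g * (z * (g⁻¹ * u * g)) * g⁻¹ := by group
    _ = g * ((g⁻¹ * u * g) * z) * g⁻¹ := by rw [h1]
    _ = u * (g * z * g⁻¹) := by group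

include S hs hne in
/-- An involution acting as `s` centralises `Z`. -/
theorem cent_Z {g : G} (hg : g ∈ m.NS H1) {c : K} (hA : IsAut m H1 g s c) (hgg : g * g = 1) :
    ∀ z ∈ m.Z, g * z = z * g := by
  obtain ⟨v1, a1, b1, c1⟩ := m.exists_v hs 0 (map_one s) (map_zero s)
  have hz1 : (v1 : G) ∈ m.Z := m.coe_mem_Z.2 ⟨b1, c1⟩
  set γ := m.a (cv hg v1) with hγ
  have key : ∀ v : V, (v : G) ∈ m.Z → m.a (cv hg v) = m.a v * γ := by
    intro v hv
    obtain ⟨hb, hc⟩ := m.coe_mem_Z.1 hv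
    by_cases ha : m.a v = 0
    · have : v = 1 := m.eq_one ha hb hc
      have h1 : cv hg v = 1 := by
        apply Subtype.ext
        rw [coe_cv, this]
        show g * 1 * g⁻¹ = 1
        group
      rw [h1, ha, m.a_one, zero_mul]
    · obtain ⟨t, ht⟩ := exists_norm (m.s_a v)
      have ht0 : t ≠ 0 := by
        intro h0
        rw [h0, zero_mul] at ht
        exact ha ht.symm
      obtain ⟨x, hx, hxT⟩ := S.onto t ht0
      have hv1 : v = m.cg x v1 := by
        obtain ⟨e1, e2, e3⟩ := hxT.act v1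
        exact m.ext' (by rw [e1, a1, mul_one, ht]) (by rw [e2, b1, mul_zero, hb])
          (by rw [e3, c1, mul_zero, hc])
      rw [hv1, cv_cg]
      have hgT := hA.torus x hx t hxT (gc (NS.nL hg) x) rfl
      rw [(hgT.act (cv hg v1)).1, hs, ← hv1, ← ht, mul_comm (s t) t]
  have hγ1 : γ = 1 := by
    have h1 : (cv hg v1 : G) ∈ m.Z := normZ hs hne hg hz1
    have h2 := key _ h1
    have h3 : cv hg (cv hg v1) = v1 := by
      apply Subtype.ext
      rw [coe_cv, coe_cv]
      have : g⁻¹ = g := inv_eq_of_mul_eq_one_right hgg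
      rw [this]
      calc g * (g * v1 * g) * g = (g * g) * v1 * (g * g) := by group
        _ = v1 := by rw [hgg, one_mul, mul_one]
    rw [h3, a1, ← hγ] at h2
    exact mul_self_inj (by rw [mul_one]; exact h2.symm)
  intro z hz
  have hzV := m.ZV hz
  lift z to V using hzV
  have h1 : (cv hg z : G) ∈ m.Z := normZ hs hne hg hz
  have h2 : cv hg z = z := by
    obtain ⟨b2, c2⟩ := m.coe_mem_Z.1 h1
    obtain ⟨b3, c3⟩ := m.coe_mem_Z.1 hz
    exact m.ext' (by rw [key z hz, hγ1, mul_one]) (by rw [b2, b3]) (by rw [c2, c3])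
  have h3 : g * (z : G) * g⁻¹ = z := congrArg Subtype.val h2
  calc g * (z : G) = g * (z : G) * g⁻¹ * g := by group
    _ = z * g := by rw [h3]

/-! ### The reflection -/

include S in
theorem zpow_conj {g : G} (hg : g ∈ m.NS H1) : ∃ k : ℤ, (h : G) = (g * h * g⁻¹) ^ k := by
  obtain ⟨k, hk⟩ := S.gen _ (conj_mem' (NS.nH hg) S.mem)
  refine ⟨k, ?_⟩
  have h1 : (g * (h : G) * g⁻¹) ^ k = g * (h : G) ^ k * g⁻¹ := by
    have := map_zpow (MulAut.conj g) (h : G) k
    simpa using this.symm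
  rw [h1, ← hk]
  group

include S hne in
/-- An element inverting the torus is antidiagonal. -/
theorem isN_of_inv {y : L} (hy : y * h * y⁻¹ = h⁻¹) : m.IsN (m.P y 0 1) y := by
  have h1 : y * h = h⁻¹ * y := by rw [← hy]; group
  obtain ⟨h0, t1, t2, t3, t4⟩ := S.T
  obtain ⟨-, r1, r2, r3, r4⟩ := S.T.inv
  have hζ : (ζ : K) + (ζ : K)⁻¹ ≠ 0 := by
    intro h2
    have h3 := eq_of_add_eq_zero h2
    have h4 : (ζ : K) * ζ = 1 * 1 := by
      nth_rewrite 2 [h3]
      rw [mul_inv_cancel₀ h0, mul_one]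
    exact S.ζ_one hne (mul_self_inj h4)
  have e00 : m.P y 0 0 = 0 := by
    have h2 : m.P (y * h) 0 0 = m.P (h⁻¹ * y) 0 0 := by rw [h1]
    rw [m.P_mul, m.P_mul, t1, t3, r1, r2] at h2
    have h3 : m.P y 0 0 * ((ζ : K) + (ζ : K)⁻¹) = 0 := by
      have h4 : m.P y 0 0 * ((ζ : K) + (ζ : K)⁻¹) =
          (m.P y 0 0 * ζ + m.P y 0 1 * 0) + ((ζ : K)⁻¹ * m.P y 0 0 + 0 * m.P y 1 0) := by ring
      rw [h4, h2, add_self]
    exact (mul_eq_zero.mp h3).resolve_right hζ
  have e11 : m.P y 1 1 = 0 := by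
    have h2 : m.P (y * h) 1 1 = m.P (h⁻¹ * y) 1 1 := by rw [h1]
    rw [m.P_mul, m.P_mul, t2, t4, r3, r4, inv_inv] at h2
    have h3 : m.P y 1 1 * ((ζ : K) + (ζ : K)⁻¹) = 0 := by
      have h4 : m.P y 1 1 * ((ζ : K) + (ζ : K)⁻¹) =
          (m.P y 1 0 * 0 + m.P y 1 1 * (ζ : K)⁻¹) + (0 * m.P y 0 1 + ζ * m.P y 1 1) := by ring
      rw [h4, h2, add_self]
    exact (mul_eq_zero.mp h3).resolve_right hζ
  have hd := m.P_det y
  rw [e00, zero_mul, zero_add] at hd
  refine ⟨left_ne_zero_of_mul_eq_one hd, e00, rfl, ?_, e11⟩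
  exact eq_inv_of_mul_eq_one_right hd

include S hs hne in
/-- `g` normalises `Z^{n1}`. -/
theorem normE {g : G} (hg : g ∈ m.NS H1) {n : L} (hn : n * h * n⁻¹ = h⁻¹) {v : V}
    (hv : (v : G) ∈ cj (n : G) m.Z) : (cv hg v : G) ∈ cj (n : G) m.Z := by
  have hN := isN_of_inv S hne hn
  obtain ⟨k, hk⟩ := zpow_conj S hg
  have hgn : gc (NS.nL hg) n * h * (gc (NS.nL hg) n)⁻¹ = h⁻¹ := by
    have e1 : h = (gc (NS.nL hg) h) ^ k := by
      apply Subtype.ext
      rw [Subgroup.coe_zpow]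
      exact hk
    have e2 : gc (NS.nL hg) n * gc (NS.nL hg) h * (gc (NS.nL hg) n)⁻¹ = (gc (NS.nL hg) h)⁻¹ := by
      rw [← map_inv, ← map_mul, ← map_mul, hn, map_inv]
    have e3 : gc (NS.nL hg) n * (gc (NS.nL hg) h) ^ k * (gc (NS.nL hg) n)⁻¹ =
        (gc (NS.nL hg) n * gc (NS.nL hg) h * (gc (NS.nL hg) n)⁻¹) ^ k := by
      have := map_zpow (MulAut.conj (gc (NS.nL hg) n)) (gc (NS.nL hg) h) k
      simpa using this
    calc gc (NS.nL hg) n * h * (gc (NS.nL hg) n)⁻¹
        = gc (NS.nL hg) n * (gc (NS.nL hg) h) ^ k * (gc (NS.nL hg) n)⁻¹ := by rw [← e1]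
      _ = ((gc (NS.nL hg) h) ^ k)⁻¹ := by rw [e3, e2, inv_zpow]
      _ = h⁻¹ := by rw [← e1]
  have hgN := isN_of_inv S hne hgn
  rw [mem_cjZ hN]
  rw [← mem_cjZ hgN]
  rw [UFour.mem_cj] at hv ⊢
  have h1 := normZ hs hne hg hv
  have h2 : ((gc (NS.nL hg) n : L) : G)⁻¹ * (cv hg v : G) * ((gc (NS.nL hg) n : L) : G) =
      g * ((n : G)⁻¹ * v * n) * g⁻¹ := by
    rw [coe_gc, coe_cv]
    group
  rw [h2]
  exact h1

include S hs hne in
/-- An involution acting as `s` centralises `Z^{n1}`. -/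
theorem cent_E {g : G} (hg : g ∈ m.NS H1) {c : K} (hA : IsAut m H1 g s c) (hgg : g * g = 1)
    {n : L} (hn : n * h * n⁻¹ = h⁻¹) : ∀ z ∈ cj (n : G) m.Z, g * z = z * g := by
  have hN := isN_of_inv S hne hn
  obtain ⟨v1, a1, b1, c1⟩ := m.exists_v hs 0 (map_zero s) (map_one s)
  have hz1 : (v1 : G) ∈ cj (n : G) m.Z := (mem_cjZ hN).2 ⟨a1, b1⟩
  set γ := m.c (cv hg v1) with hγ
  have key : ∀ v : V, (v : G) ∈ cj (n : G) m.Z → m.c (cv hg v) = m.c v * γ := by
    intro v hv
    obtain ⟨ha, hb⟩ := (mem_cjZ hN).1 hv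
    by_cases hc : m.c v = 0
    · have : v = 1 := m.eq_one ha hb hc
      have h1 : cv hg v = 1 := by
        apply Subtype.ext
        rw [coe_cv, this]
        show g * 1 * g⁻¹ = 1
        group
      rw [h1, hc, m.c_one, zero_mul]
    · obtain ⟨t, ht⟩ := exists_norm (m.s_c v)
      have ht0 : t ≠ 0 := by
        intro h0
        rw [h0, zero_mul] at ht
        exact hc ht.symm
      have hst0 : s t ≠ 0 := fun h0 => ht0 (s.injective (by rw [h0, map_zero]))
      obtain ⟨x, hx, hxT⟩ := S.onto t⁻¹ (inv_ne_zero ht0)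
      have hv1 : v = m.cg x v1 := by
        obtain ⟨e1, e2, e3⟩ := hxT.act v1
        refine m.ext' (by rw [e1, a1, mul_zero, ha]) (by rw [e2, b1, mul_zero, hb]) ?_
        rw [e3, c1, mul_one, map_inv₀, inv_inv, inv_inv, ht]
      rw [hv1, cv_cg]
      have hgT := hA.torus x hx _ hxT (gc (NS.nL hg) x) rfl
      rw [(hgT.act (cv hg v1)).2.2, hs, ← hv1, ← ht, map_inv₀, inv_inv, inv_inv, mul_comm (s t) t]
  have hγ1 : γ = 1 := by
    have h1 : (cv hg v1 : G) ∈ cj (n : G) m.Z := normE S hs hne hg hn hz1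
    have h2 := key _ h1
    have h3 : cv hg (cv hg v1) = v1 := by
      apply Subtype.ext
      rw [coe_cv, coe_cv]
      have : g⁻¹ = g := inv_eq_of_mul_eq_one_right hgg
      rw [this]
      calc g * (g * v1 * g) * g = (g * g) * v1 * (g * g) := by group
        _ = v1 := by rw [hgg, one_mul, mul_one]
    rw [h3, c1, ← hγ] at h2
    exact mul_self_inj (by rw [mul_one]; exact h2.symm)
  intro z hz
  have hzV : z ∈ V := by
    rw [UFour.mem_cj] at hz
    have h1 := m.ZV hz
    have h2 := conj_mem (m.norm n.2) h1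
    have h3 : (n : G) * ((n : G)⁻¹ * z * n) * (n : G)⁻¹ = z := by group
    rwa [h3] at h2
  lift z to V using hzV
  have h1 : (cv hg z : G) ∈ cj (n : G) m.Z := normE S hs hne hg hn hz
  have h2 : cv hg z = z := by
    obtain ⟨b2, c2⟩ := (mem_cjZ hN).1 h1
    obtain ⟨b3, c3⟩ := (mem_cjZ hN).1 hz
    exact m.ext' (by rw [b2, b3]) (by rw [c2, c3]) (by rw [key z hz, hγ1, mul_one])
  have h3 : g * (z : G) * g⁻¹ = z := congrArg Subtype.val h2
  calc g * (z : G) = g * (z : G) * g⁻¹ * g := by group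
    _ = z * g := by rw [h3]

/-! ### Hilbert 90 -/

include hs hne in
/-- **Hilbert 90**: an element of `U g` with square in `V` is conjugate to `g` modulo `V`. -/
theorem exists_conj_mod {g : G} (hg : g ∈ m.NS H1) {c : K} (hA : IsAut m H1 g s c)
    (hgg : g * g = 1) {r : G} (hr : ∃ u ∈ m.U, r = u * g) (hrr : r * r ∈ V) :
    ∃ u ∈ m.U, ∃ v ∈ V, r = v * (u * g * u⁻¹) := by
  have hginv : g⁻¹ = g := inv_eq_of_mul_eq_one_right hgg
  -- `c s(c) = 1`
  have hcc : c * s c = 1 := by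
    have h1 := hA.mul hg hA
    have h2 : IsAut m H1 (g * g) (RingEquiv.refl K) 1 := by rw [hgg]; exact isAut_one
    exact (h1.unique (mul_mem hg hg) h2).2
  have hc0 : c ≠ 0 := hA.ne
  obtain ⟨_, ⟨u1, rfl, hu1⟩, hr'⟩ := hr
  set b := m.P u1 0 1 with hb
  -- `b = c s(b)`
  have hbc : b = c * s b := by
    obtain ⟨e1, e2⟩ := hA.unip u1 hu1 (gc (NS.nL hg) u1) rfl
    have h1 : ((u1 * gc (NS.nL hg) u1 : L) : G) ∈ V := by
      have h2 : ((u1 * gc (NS.nL hg) u1 : L) : G) = r * r := by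
        rw [hr', Subgroup.coe_mul, coe_gc]
        calc (u1 : G) * (g * u1 * g⁻¹) = (u1 : G) * (g * u1 * g) := by rw [hginv]
          _ = (u1 : G) * g * (u1 * g) := by group
      rw [h2]
      exact hrr
    have h3 := (hu1.mul e1).mem_V.1 h1
    rw [hu1.P_mul e1, e2] at h3
    exact eq_of_add_eq_zero h3
  -- `e` with `c s(e) = e`
  obtain ⟨e, he0, he⟩ : ∃ e : K, e ≠ 0 ∧ c * s e = e := by
    have hall : ∀ k, c * s (k + c * s k) = k + c * s k := by
      intro k
      rw [map_add, map_mul, hs, mul_add, ← mul_assoc, hcc, one_mul, add_comm]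
    by_contra hno
    push Not at hno
    have h1 : ∀ k, k + c * s k = 0 := fun k => by
      by_contra h0
      exact hno _ h0 (hall k)
    have h2 : c = 1 := by
      have := h1 1
      rw [map_one, mul_one] at this
      exact (eq_of_add_eq_zero this).symm
    obtain ⟨k, hk⟩ := exists_moved hne
    have h3 := eq_of_add_eq_zero (h1 k)
    rw [h2, one_mul] at h3
    exact hk h3.symm
  have hse0 : s e ≠ 0 := fun h0 => he0 (s.injective (by rw [h0, map_zero]))
  have hfix : s (b * e⁻¹) = b * e⁻¹ := by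
    rw [map_mul, map_inv₀]
    have h1 : b * e⁻¹ = (c * s b) * (c * s e)⁻¹ := by rw [he, ← hbc]
    rw [h1, mul_inv]
    field_simp
  obtain ⟨y, hy⟩ := exists_trace hs hne hfix
  obtain ⟨u, hu, huw⟩ := m.exists_U (e * y)
  refine ⟨u, m.mem_U.2 hu, r * (u * g * (u : G)⁻¹)⁻¹, ?_, by group⟩
  obtain ⟨f1, f2⟩ := hu.inv
  obtain ⟨e1, e2⟩ := hA.unip u⁻¹ f1 (gc (NS.nL hg) u⁻¹) rfl
  have h1 : r * ((u : G) * g * (u : G)⁻¹)⁻¹ =
      ((u1 * (gc (NS.nL hg) u⁻¹)⁻¹ * u⁻¹ : L) : G) := by
    rw [hr', Subgroup.coe_mul, Subgroup.coe_mul, Subgroup.coe_inv, coe_gc, Subgroup.coe_inv]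
    group
  rw [h1]
  obtain ⟨g1, g2⟩ := e1.inv
  rw [((hu1.mul g1).mul f1).mem_V, (hu1.mul g1).P_mul f1, hu1.P_mul g1, g2, e2, f2, huw, ← hb]
  have h4 : b = e * (y + s y) := by
    rw [hy]
    field_simp
  have h5 : c * s (e * y) = e * s y := by rw [map_mul, ← mul_assoc, he]
  rw [h5, h4]
  have h6 : e * (y + s y) + e * s y + e * y = (e * y + e * y) + (e * s y + e * s y) := by ring
  rw [h6, add_self, add_self, add_zero]

end Inv

end Model

end Cfsg.Agent.RankTwoClose.UFour
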